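import Cfsg.Agent.Lib.H39.DBD0a
import Cfsg.Agent.Lib.H39.DBD0b
import Cfsg.Agent.Lib.H39.DBD1
import Cfsg.Agent.Lib.H39.DBD2
import Cfsg.Agent.Lib.H39.DBD3
import Cfsg.Agent.Lib.H39.DBD4
import Cfsg.Agent.Lib.H39.DBD5
import Cfsg.Agent.Lib.H39.DBD6
import Cfsg.Agent.Lib.H39.DBD7
import Cfsg.Agent.Lib.H39.DBA1
import Cfsg.Agent.Lib.H39.DBA2
import Cfsg.Agent.Lib.H39.DBA3
import Cfsg.Agent.Lib.H39.DBA4
import Cfsg.Agent.Lib.H39.DBA5
import Cfsg.Agent.Lib.H39.DBB1
import Cfsg.Agent.Lib.H39.DBB2
import Cfsg.Agent.Lib.H39.DBB3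
import Cfsg.Agent.Lib.H39.DBB4
import Cfsg.Agent.Lib.H39.DBB5
import Cfsg.Agent.Lib.H39.DBC1
import Cfsg.Agent.Lib.H39.DBC2
import Cfsg.Agent.Lib.H39.DBC3
import Cfsg.Agent.Lib.H39.DBC4
import Cfsg.Agent.Lib.H39.DBC5
import Cfsg.Agent.Lib.H39.DBC6
import Cfsg.Agent.Lib.H39.DBC7
import Cfsg.Agent.Lib.H39.DBC8
import Cfsg.Agent.Lib.H39.DAQ7a
import Cfsg.Agent.Lib.H39.DAQ8
import Cfsg.Agent.Lib.H48.Agl5

set_option autoImplicit false

open MulAction H39.DA

universe u v

namespace H12.B4

variable {G : Type u} {Ω : Type v} [Group G] [Finite G] [MulAction G Ω] [Finite Ω]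

/-- every involution of a `T2` group with `f = m (2 m - 1)` fixes two points -/
theorem all_conj4 {C : Type u} {X : Type v} [Group C] [Finite C] [MulAction C X] [Finite X] (h : T2 C X) {a b : X} (hab : a ≠ b)
    {v : C} (hv : v ∈ St C a b) (hv1 : v ≠ 1) (hf : Nat.card X = fx C X v * (2 * fx C X v - 1)) :
    ∀ g : C, Inv g → ∃ c d : X, c ≠ d ∧ g • c = c ∧ g • d = d := by
  classical
  obtain ⟨hvi, hm2, hmf, hC, hCv, hcj, hcount, -, -, p, q, hpq, hpa, hpb, hqa, hqb, hqv, hvp, hqq, hall⟩ := t2_main h hab hv hv1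
  set m := fx C X v with hm
  set f := Nat.card X with hfd
  have hcard : Nat.card {g : C // IsConj v g ∧ g • a = b ∧ g • b = a} = 2 := by
    have h1 : f - m = m * (m - 1) * 2 := by
      obtain ⟨k, hk⟩ : ∃ k, m = k + 2 := ⟨m - 2, by omega⟩
      rw [hf, hk]
      have : 2 * (k + 2) - 1 = 2 * k + 3 := by omega
      rw [this]
      have h2 : k + 2 - 1 = k + 1 := by omega
      rw [h2]
      have h3 : (k + 2) * (2 * k + 3) = (k + 2) * (k + 1) * 2 + (k + 2) := by ring
      rw [h3]; omega
    rw [h1] at hcount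
    have hpos : 0 < m * (m - 1) := Nat.mul_pos (by omega) (by omega)
    exact (Nat.eq_of_mul_eq_mul_left hpos hcount).symm
  have hq : IsConj v q := by
    by_contra hq
    have : Nat.card {g : C // IsConj v g ∧ g • a = b ∧ g • b = a} ≤ 1 := by
      rw [Finite.card_le_one_iff_subsingleton]
      constructor
      rintro ⟨x, hx1, hx2, hx3⟩ ⟨y, hy1, hy2, hy3⟩
      have hx : x = p := by
        rcases hall x hx2 hx3 with h | h
        · exact h
        · exact absurd (h ▸ hx1) hq
      have hy : y = p := by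
        rcases hall y hy2 hy3 with h | h
        · exact h
        · exact absurd (h ▸ hy1) hq
      exact Subtype.ext (hx.trans hy.symm)
    omega
  have key : ∀ g : C, g • a = b → g • b = a → IsConj v g := by
    intro g h1 h2
    rcases hall g h1 h2 with h | h
    · exact h ▸ hvp
    · exact h ▸ hq
  intro g hg
  have hne : ∃ x : X, g • x ≠ x := by
    by_contra hcon
    push Not at hcon
    exact hg.1 (h.faith g hcon)
  obtain ⟨x, hx⟩ := hne
  obtain ⟨k, hka, hkb⟩ := h.tr x (g • x) a b (Ne.symm hx) hab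
  have hk1 : k⁻¹ • a = x := by rw [← hka, inv_smul_smul]
  have hk2 : k⁻¹ • b = g • x := by rw [← hkb, inv_smul_smul]
  have hgg : g • g • x = x := by rw [← mul_smul, hg.2, one_smul]
  have h1 : IsConj v (k * g * k⁻¹) := by
    apply key
    · rw [mul_smul, hk1, mul_smul, hkb]
    · rw [mul_smul, hk2, mul_smul, hgg, hka]
  have h2 : IsConj v g := h1.trans (isConj_iff.2 ⟨k⁻¹, by group⟩)
  obtain ⟨c, hc⟩ := isConj_iff.1 h2
  refine ⟨c • a, c • b, fun hh => hab (MulAction.injective c hh), ?_, ?_⟩
  · rw [← hc, mul_smul, mul_smul, inv_smul_smul, show v • a = a from hv.1]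
  · rw [← hc, mul_smul, mul_smul, inv_smul_smul, show v • b = b from hv.2]

theorem main4 (h : B4 G Ω) : (Nat.card Ω = 6 ∧ Nonempty (G ≃* alternatingGroup (Fin 6))) ∨
    (Nat.card Ω = 15 ∧ Nonempty (G ≃* alternatingGroup (Fin 7))) ∨
    (Nat.card Ω = 16 ∧ ∃ (F : Type) (_ : Field F) (_ : Fintype F), Fintype.card F = 4 ∧
        Nonempty (G ≃* ((Fin 2 → F) ≃ᵃ[F] (Fin 2 → F)))) ∨
    (∃ J : G, Inv J ∧ Subgroup.centralizer ({J} : Set G) ⊔ Cfsg.oddCore G = ⊤) := by
  classical
  obtain ⟨a, b, hab⟩ := h.two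
  obtain ⟨-, h3, -, -⟩ := facts4 h hab
  have hne : Nonempty {s : G // Inv s ∧ s ∈ St G a b} := by
    by_contra hcon
    rw [not_nonempty_iff] at hcon
    rw [Nat.card_of_isEmpty] at h3
    omega
  obtain ⟨t, ht, hts⟩ := hne
  obtain ⟨hm2, hmf, -⟩ := countV4 h hab ht hts
  obtain ⟨hV4, hVsq, hVc, -⟩ := vfacts4 h hab ht hts
  rcases dich4 h hab ht hts with hB | hA
  · obtain ⟨u, hu, hua, hub, huc⟩ := hB
    by_cases htu : IsConj t u
    · exfalso
      rcases Nat.lt_or_ge (fS G Ω (VV a b t)) (fx G Ω t) with hlt | hge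
      · have hex : ∃ v ∈ VV a b t, v ≠ 1 ∧ v ≠ t := by
          by_contra hcon
          push Not at hcon
          have hle : (VV a b t : Set G) ⊆ ({1, t} : Set G) := by
            intro v hv
            by_cases h1 : v = 1
            · left; exact h1
            · right; exact hcon v hv h1
          have h4 : Nat.card (VV a b t) = Set.ncard (VV a b t : Set G) := rfl
          have h5 : Set.ncard (VV a b t : Set G) ≤ Set.ncard ({1, t} : Set G) := Set.ncard_le_ncard hle (Set.toFinite _)
          have h6 : Set.ncard ({1, t} : Set G) ≤ 2 := Set.ncard_insert_le _ _ |>.trans (by simp)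
          omega
        obtain ⟨v, hv, hv1, hvt⟩ := hex
        obtain ⟨-, hd⟩ := delta4 h hab ht hts hlt hv hv1 hvt
        rcases hd with hd | hd
        · rcases Nat.even_or_odd (fx G Ω t) with he | ho
          · rcases Nat.lt_or_ge 2 (fS G Ω (VV a b t)) with h2 | h2
            · exact a4B2_one_even h hab ht hts hu hua hub huc htu hd.symm he h2
            · have hm : fS G Ω (VV a b t) = 2 := le_antisymm h2 hm2
              obtain ⟨-, hn, -⟩ := a4B2_conj h hab ht hts hu hua hub huc htu (Or.inr hlt)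
              rw [hd, hm] at hn
              exact a4_not20 h (by omega)
          · exact a4B2_one_odd h hab ht hts hu hua hub huc htu hd.symm ho
        · rcases Nat.even_or_odd (fx G Ω t) with he | ho
          · exact a4B2_two_even h hab ht hts hu hua hub huc htu hd he
          · obtain ⟨hT2, hcb⟩ := t2_CB4 h hab ht hts hlt
            have hvc : v ∈ Subgroup.centralizer ({t} : Set G) := hv.2
            have haX : a ∈ Fx G (Ω := Ω) ({t} : Set G) := by
              intro s hs; rw [Set.mem_singleton_iff.1 hs]; exact hts.1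
            have hbX : b ∈ Fx G (Ω := Ω) ({t} : Set G) := by
              intro s hs; rw [Set.mem_singleton_iff.1 hs]; exact hts.2
            have hcX : Nat.card (Fx G (Ω := Ω) ({t} : Set G)) = fx G Ω t := by
              unfold fx
              apply Nat.card_congr
              refine Equiv.subtypeEquivRight (fun x => ?_)
              show (∀ g ∈ ({t} : Set G), g • x = x) ↔ _
              simp
            have hfx := fx_CB4 h hab ht hts hv hv1 hvt hvc
            refine t2_no_odd hT2 (by rw [hcX]; exact ho) (all_conj4 hT2 (a := ⟨a, haX⟩) (b := ⟨b, hbX⟩)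
              (fun hh => hab (congrArg Subtype.val hh)) (v := cb Ω hvc) ⟨?_, ?_⟩ ?_ ?_)
            · exact Subtype.ext hv.1.1
            · exact Subtype.ext hv.1.2
            · intro hh
              rcases (hcb v hvc).1 hh with h1 | h1
              · exact hv1 h1
              · exact hvt h1
            · rw [hcX, hfx, hd]
      · have hm := le_antisymm hmf hge
        rcases Nat.even_or_odd (fx G Ω t) with he | ho
        · by_cases hut : IsConj t (u * t)
          · exact a4B2_eq_even_four h hab ht hts hu hua hub huc htu hm he hut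
          · exact a4B2_eq_even_one h hab ht hts hu hua hub huc htu hm he hut
        · exact a4B2_eq_odd h hab ht hts hu hua hub huc htu hm ho
    · rcases Nat.even_or_odd (Nat.card Ω) with he | ho
      · obtain ⟨hn, hk, hd, E, hE, hEc, hE2⟩ := a4B1_even h hab ht hts hu hua hub huc htu he
        rcases hd with hd | hd
        · have hn16 := a4B1_eq16 h hab ht hts hn hk hd
          obtain ⟨X, hX, hX3, hX2⟩ := H48.Agl.exists_X h hn16 a E hE hEc
          exact Or.inr (Or.inr (Or.inl ⟨hn16, a4final16 h hn16 E hE hEc hE2 X hX hX3 hX2⟩))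
        · exact (a4B1_lt h hab ht hts hn hk hd E hE hEc hE2).elim
      · exact Or.inr (Or.inr (Or.inr ⟨u, hu, a4B1_odd h hab ht hts hu hua hub huc htu ho⟩))
  · rcases Nat.lt_or_ge (fS G Ω (VV a b t)) (fx G Ω t) with hlt | hge
    · exfalso
      rcases Nat.even_or_odd (fS G Ω (VV a b t)) with he | ho
      · exact a4A_lt_even h hab ht hts hA hlt he
      · exact a4A_lt_odd h hab ht hts hA hlt ho
    · have hm := le_antisymm hmf hge
      rcases Nat.even_or_odd (fx G Ω t) with he | ho
      · have h6 := a4A_eq_even h hab ht hts hA hm he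
        exact Or.inl ⟨h6, a4final6 h h6⟩
      · exact Or.inr (Or.inl (a4A_eq_odd h hab ht hts hA hm ho))

end H12.B4
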