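import Mathlib

set_option autoImplicit false

/-! Eigenvectors of elements of order dividing `p - 1` on elementary abelian `p`-groups. -/

namespace H12.EigLine

open Polynomial

theorem exists_eig {p : ℕ} [hp : Fact p.Prime] {V : Type*} [AddCommGroup V] [Module (ZMod p) V]
    [Finite V] [Nontrivial V] (f : Module.End (ZMod p) V) (hf : f ^ (p - 1) = 1) :
    ∃ μ : ZMod p, ∃ v : V, v ≠ 0 ∧ f v = μ • v := by
  have hfin : Module.Finite (ZMod p) V := Module.Finite.of_finite
  have h1 : (X ^ p - X : (ZMod p)[X]).Splits := by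
    rw [Polynomial.splits_iff_card_roots]
    have h2 := FiniteField.roots_X_pow_card_sub_X (ZMod p)
    rw [ZMod.card p] at h2
    rw [h2, FiniteField.X_pow_card_sub_X_natDegree_eq _ hp.out.one_lt]
    simp [ZMod.card]
  have h2 : (minpoly (ZMod p) f) ∣ (X ^ p - X : (ZMod p)[X]) := by
    apply minpoly.dvd
    have : f ^ p = f := by
      have h0 : f ^ ((p - 1) + 1) = f := by rw [pow_succ, hf, one_mul]
      rwa [Nat.sub_add_cancel hp.out.pos] at h0
    simp [this]
  have h3 := h1.of_dvd (FiniteField.X_pow_card_sub_X_ne_zero _ hp.out.one_lt) h2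
  have h4 : (minpoly (ZMod p) f).degree ≠ 0 :=
    (minpoly.degree_pos (Algebra.IsIntegral.isIntegral f)).ne'
  obtain ⟨μ, hμ⟩ := h3.exists_eval_eq_zero h4
  have h5 : f.HasEigenvalue μ := Module.End.hasEigenvalue_of_isRoot hμ
  obtain ⟨v, hv⟩ := h5.exists_hasEigenvector
  exact ⟨μ, v, hv.2, Module.End.mem_eigenspace_iff.1 hv.1⟩

theorem exists_eig_add {p : ℕ} [hp : Fact p.Prime] {V : Type*} [AddCommGroup V] [Finite V]
    [Nontrivial V] (hV : ∀ v : V, p • v = 0) (f : V →+ V) (hf : ∀ v, f^[p - 1] v = v) :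
    ∃ k : ℕ, ∃ v : V, v ≠ 0 ∧ f v = k • v := by
  letI : Module (ZMod p) V := AddCommGroup.zmodModule hV
  let F : Module.End (ZMod p) V := f.toZModLinearMap p
  obtain ⟨μ, v, hv, e⟩ := exists_eig F (by
    refine LinearMap.ext fun v => ?_
    rw [Module.End.pow_apply]
    exact hf v)
  refine ⟨μ.val, v, hv, ?_⟩
  have h1 : μ • v = μ.val • v := by
    conv_lhs => rw [← ZMod.natCast_zmod_val μ]
    rw [Nat.cast_smul_eq_nsmul]
  rw [← h1, ← e]
  rfl

/-- group version -/
theorem exists_eig_group {G : Type*} [Group G] [Finite G] {p : ℕ} [hp : Fact p.Prime]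
    (N : Subgroup G) [N.Normal] (hN : N ≠ ⊥) (hexp : ∀ x ∈ N, x ^ p = 1)
    (hcomm : ∀ x ∈ N, ∀ y ∈ N, x * y = y * x) (g : G)
    (hg : ∀ x ∈ N, g ^ (p - 1) * x * (g ^ (p - 1))⁻¹ = x) :
    ∃ k : ℕ, ∃ x ∈ N, x ≠ 1 ∧ g * x * g⁻¹ = x ^ k := by
  letI : CommGroup N := { (inferInstance : Group N) with
    mul_comm := fun x y => Subtype.ext (hcomm x x.2 y y.2) }
  have hnt : Nontrivial (Additive N) := by
    have := (Subgroup.nontrivial_iff_ne_bot N).2 hN
    infer_instance
  let φ : N →* N := (MulAut.conjNormal (H := N) g).toMonoidHom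
  have hφ : ∀ (k : ℕ) (v : N), ((φ^[k] v : N) : G) = g ^ k * v * (g ^ k)⁻¹ := by
    intro k
    induction k with
    | zero => intro v; simp
    | succ k ih =>
      intro v
      rw [Function.iterate_succ_apply, ih]
      change g ^ k * (g * (v : G) * g⁻¹) * (g ^ k)⁻¹ = _
      rw [pow_succ]; group
  obtain ⟨k, v, hv, e⟩ := exists_eig_add (p := p) (V := Additive N) (by
    intro x
    have := hexp x.toMul x.toMul.2
    apply Additive.toMul.injective
    exact Subtype.ext this) (MonoidHom.toAdditive φ) (by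
    intro v
    apply Additive.toMul.injective
    apply Subtype.ext
    exact (hφ (p - 1) v.toMul).trans (hg _ v.toMul.2))
  refine ⟨k, v.toMul, v.toMul.2, ?_, ?_⟩
  · intro h
    apply hv
    apply Additive.toMul.injective
    exact Subtype.ext h
  · have h2 := congrArg (fun v : Additive N => (v.toMul : G)) e
    exact h2

end H12.EigLine
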