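import Cfsg.Agent.Lib.H12.MinNormal

/-! Frattini subgroup: complements of abelian normal subgroups. -/

set_option autoImplicit false

open scoped Pointwise commutatorElement

namespace H12.Frat

variable {G : Type*} [Group G]

/-- If `frattini G = ⊥`, abelian normal subgroups are complemented (in fact with a
minimal supplement). -/
theorem exists_complement [Finite G] (hΦ : frattini G = ⊥) (A : Subgroup G) (hA : A.Normal)
    (hAc : A ≤ Subgroup.centralizer (A : Set G)) :
    ∃ H : Subgroup G, Subgroup.IsComplement' A H := by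
  classical
  have hfin : {H : Subgroup G | A ⊔ H = ⊤}.Finite := Set.toFinite _
  obtain ⟨H, hH⟩ := hfin.exists_minimal ⟨⊤, by simp⟩
  have hAH : A ⊔ H = ⊤ := hH.prop
  have hmul : ∀ g : G, ∃ a ∈ A, ∃ h ∈ H, a * h = g := fun g =>
    Subgroup.mem_sup_of_normal_left.mp (hAH ▸ Subgroup.mem_top g)
  have hn : (A ⊓ H).Normal := by
    constructor
    intro x hx g
    obtain ⟨a, ha, h, hh, rfl⟩ := hmul g
    have h1 : h * x * h⁻¹ ∈ A := hA.conj_mem x hx.1 h
    have h2 : h * x * h⁻¹ ∈ H := H.mul_mem (H.mul_mem hh hx.2) (H.inv_mem hh)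
    have h3 : a * (h * x * h⁻¹) = (h * x * h⁻¹) * a :=
      Subgroup.mem_centralizer_iff.mp (hAc h1) a ha
    have h4 : a * h * x * (a * h)⁻¹ = h * x * h⁻¹ := by
      calc a * h * x * (a * h)⁻¹ = a * (h * x * h⁻¹) * a⁻¹ := by group
        _ = _ := by rw [h3]; group
    rw [h4]; exact ⟨h1, h2⟩
  have hbot : A ⊓ H = ⊥ := by
    rw [eq_bot_iff, ← hΦ]
    unfold frattini Order.radical
    refine le_iInf₂ ?_
    intro M hM
    have hM : IsCoatom M := hM
    by_contra hcon
    have htop : (A ⊓ H) ⊔ M = ⊤ :=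
      hM.2 _ (lt_of_le_of_ne le_sup_right (fun h => hcon (h ▸ le_sup_left)))
    have h1 : A ⊔ (H ⊓ M) = ⊤ := by
      rw [eq_top_iff]
      intro g _
      obtain ⟨a, ha, h, hh, rfl⟩ := hmul g
      have hx : h ∈ (A ⊓ H) ⊔ M := htop ▸ Subgroup.mem_top _
      obtain ⟨b, hb, m, hm, rfl⟩ := Subgroup.mem_sup_of_normal_left.mp hx
      rw [← mul_assoc]
      refine Subgroup.mul_mem _ (Subgroup.mem_sup_left (A.mul_mem ha hb.1))
        (Subgroup.mem_sup_right ⟨?_, hm⟩)
      have := H.mul_mem (H.inv_mem hb.2) hh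
      simpa using this
    have h2 : H ≤ H ⊓ M := hH.le_of_le h1 inf_le_left
    exact hcon (inf_le_right.trans (h2.trans inf_le_right))
  refine ⟨H, Subgroup.isComplement'_of_disjoint_and_mul_eq_univ (disjoint_iff.mpr hbot) ?_⟩
  rw [Set.eq_univ_iff_forall]
  intro g
  obtain ⟨a, ha, h, hh, e⟩ := hmul g
  exact Set.mem_mul.mpr ⟨a, ha, h, hh, e⟩

/-- The derived subgroup of a nilpotent group lies in every maximal subgroup. -/
theorem commutator_le_of_isCoatom [Group.IsNilpotent G] {M : Subgroup G} (hM : IsCoatom M) :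
    commutator G ≤ M := by
  have hn : M.Normal := Subgroup.NormalizerCondition.normal_of_coatom M
    Group.normalizerCondition_of_isNilpotent hM
  rw [← Subgroup.Normal.quotient_commutative_iff_commutator_le]
  have hnt : Nontrivial (G ⧸ M) := by
    rw [QuotientGroup.nontrivial_iff]; exact hM.1
  -- G/M has no proper nontrivial subgroup
  have hsub : ∀ K : Subgroup (G ⧸ M), K = ⊥ ∨ K = ⊤ := by
    intro K
    have hle : M ≤ K.comap (QuotientGroup.mk' M) := by
      intro m hm
      rw [Subgroup.mem_comap]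
      have : QuotientGroup.mk' M m = 1 := (QuotientGroup.eq_one_iff m).mpr hm
      rw [this]; exact K.one_mem
    have hmap : (K.comap (QuotientGroup.mk' M)).map (QuotientGroup.mk' M) = K :=
      Subgroup.map_comap_eq_self_of_surjective (QuotientGroup.mk'_surjective M) K
    rcases hM.le_iff.mp hle with h | h
    · right
      rw [← hmap, h, ← MonoidHom.range_eq_map, MonoidHom.range_eq_top]
      exact QuotientGroup.mk'_surjective M
    · left
      rw [← hmap, h, Subgroup.map_eq_bot_iff, QuotientGroup.ker_mk']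
  rcases hsub (Subgroup.center (G ⧸ M)) with h | h
  · exact absurd h (Group.IsNilpotent.center_ne_bot _)
  · refine ⟨⟨fun a b => ?_⟩⟩
    have : b ∈ Subgroup.center (G ⧸ M) := h ▸ Subgroup.mem_top b
    exact Subgroup.mem_center_iff.mp this a

theorem commutator_le_frattini [Group.IsNilpotent G] : commutator G ≤ frattini G := by
  unfold frattini Order.radical
  exact le_iInf₂ fun M hM => commutator_le_of_isCoatom hM

end H12.Frat
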