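import Cfsg.Agent.Lib.H12.Frat

/-! Frattini arguments modulo the Frattini subgroup. -/

set_option autoImplicit false

open scoped Pointwise commutatorElement

namespace H12.FratArg

variable {G : Type*} [Group G]

/-- `P` a Sylow `p`-subgroup of `A`, `B ≤ A ⊓ Φ(G)`, `P B ⊴ G` implies `P ⊴ G`. -/
theorem normal_of_sup_normal [Finite G] {p : ℕ} [hp : Fact p.Prime] (A B : Subgroup G)
    (hBA : B ≤ A) (hB : B ≤ frattini G) (P : Sylow p A)
    (hT : ((P : Subgroup A).map A.subtype ⊔ B).Normal) :
    ((P : Subgroup A).map A.subtype).Normal := by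
  set P' := (P : Subgroup A).map A.subtype with hP'
  set T := P' ⊔ B with hTdef
  have hP'A : P' ≤ A := Subgroup.map_subtype_le _
  have hTA : T ≤ A := sup_le hP'A hBA
  have hP'T : P' ≤ T := le_sup_left
  have h1 : P'.relIndex A = (P : Subgroup A).index := by
    rw [Subgroup.relIndex, hP', Subgroup.subgroupOf,
      Subgroup.comap_map_eq_self_of_injective A.subtype_injective]
  have h2 : ¬ p ∣ (P'.subgroupOf T).index := by
    intro hd
    apply P.not_dvd_index
    rw [← h1, ← Subgroup.relIndex_mul_relIndex P' T A hP'T hTA]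
    exact hd.mul_right _
  have h3 : IsPGroup p (P'.subgroupOf T) :=
    (P.2.map A.subtype).of_equiv (Subgroup.subgroupOfEquivOfLe hP'T).symm
  have h4 := Sylow.normalizer_sup_eq_top (N := T) (h3.toSylow h2)
  have h5 : ((h3.toSylow h2 : Sylow p T) : Subgroup T).map T.subtype = P' := by
    rw [IsPGroup.toSylow_coe, Subgroup.map_subgroupOf_eq_of_le hP'T]
  rw [h5] at h4
  have h6 : Subgroup.normalizer (P' : Set G) ⊔ frattini G = ⊤ := by
    rw [eq_top_iff, ← h4]
    refine sup_le le_sup_left (sup_le ?_ ?_)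
    · exact Subgroup.le_normalizer.trans le_sup_left
    · exact hB.trans le_sup_right
  have h7 := frattini_nongenerating h6
  exact Subgroup.normalizer_eq_top_iff.mp h7

/-- nilpotency modulo a normal subgroup inside the Frattini subgroup -/
theorem nilpotent_of_quotient [Finite G] (A B : Subgroup G) [hA : A.Normal] [B.Normal]
    (hBA : B ≤ A) (hB : B ≤ frattini G) (h : Group.IsNilpotent (↥A ⧸ B.subgroupOf A)) :
    Group.IsNilpotent A := by
  have q := (Group.isNilpotent_of_finite_tfae (G := A)).out 0 3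
  refine q.mpr ?_
  intro p hp P
  suffices hn : ((P : Subgroup A).map A.subtype).Normal from hn.of_map_subtype
  apply normal_of_sup_normal A B hBA hB P
  constructor
  intro x hx g
  -- conjugation by g on A
  let φ : A ≃* A := MulAut.conjNormal g
  let π := QuotientGroup.mk' (B.subgroupOf A)
  have hπ : Function.Surjective π := QuotientGroup.mk'_surjective _
  let P2 : Sylow p A := P.mapSurjective (f := φ.toMonoidHom) φ.surjective
  have e : (P : Subgroup A).map π = (P2 : Subgroup A).map π := by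
    have h1 : ((P.mapSurjective hπ : Sylow p (↥A ⧸ B.subgroupOf A)) :
      Subgroup (↥A ⧸ B.subgroupOf A)).Normal := inferInstance
    have h2 := Sylow.unique_of_normal (P.mapSurjective hπ) h1
    have h3 : P.mapSurjective hπ = P2.mapSurjective hπ := Subsingleton.elim _ _
    exact congrArg (fun Q : Sylow p (↥A ⧸ B.subgroupOf A) =>
      (Q : Subgroup (↥A ⧸ B.subgroupOf A))) h3
  obtain ⟨y, hy, b, hb, rfl⟩ := Subgroup.mem_sup_of_normal_right.mp hx
  obtain ⟨z, hz, rfl⟩ := hy
  have hbg : g * b * g⁻¹ ∈ B := (inferInstance : B.Normal).conj_mem b hb g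
  have h4 : π (φ z) ∈ (P : Subgroup A).map π := by
    rw [e]
    exact ⟨φ z, ⟨z, hz, rfl⟩, rfl⟩
  obtain ⟨w, hw, ew⟩ := h4
  have h5 : (w : G)⁻¹ * (g * z * g⁻¹) ∈ B := by
    have := (QuotientGroup.eq.mp (ew : (w : A ⧸ B.subgroupOf A) = (φ z : A ⧸ B.subgroupOf A)))
    rw [Subgroup.mem_subgroupOf] at this
    have e2 : ((w⁻¹ * φ z : A) : G) = (w : G)⁻¹ * (g * z * g⁻¹) := by
      push_cast
      rfl
    rwa [e2] at this
  have e3 : g * (A.subtype z * b) * g⁻¹ =
      w * ((w : G)⁻¹ * (g * z * g⁻¹) * (g * b * g⁻¹)) := by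
    change g * ((z : G) * b) * g⁻¹ = _
    group
  rw [e3]
  exact Subgroup.mul_mem _ (Subgroup.mem_sup_left ⟨w, hw, rfl⟩)
    (Subgroup.mem_sup_right (B.mul_mem h5 hbg))

end H12.FratArg
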