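import Cfsg.Agent.Lib.H12.MinNormal

/-! The Frattini subgroup of a normal subgroup. -/

set_option autoImplicit false

namespace H12.FratNormal

theorem map_frattini_le {G : Type*} [Group G] [Finite G] (H : Subgroup G) [H.Normal] :
    (frattini ↥H).map H.subtype ≤ frattini G := by
  have hn : ((frattini ↥H).map H.subtype).Normal := inferInstance
  set F := (frattini ↥H).map H.subtype with hF
  have hFH : F ≤ H := Subgroup.map_subtype_le _
  conv_rhs => unfold frattini Order.radical
  refine le_iInf₂ ?_
  intro M hM
  have hM : IsCoatom M := hM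
  by_contra hcon
  have htop : F ⊔ M = ⊤ := by
    apply hM.2
    exact lt_of_le_of_ne le_sup_right (fun h => hcon (h ▸ le_sup_left))
  -- H = F (H ∩ M)
  have h1 : (M.subgroupOf H) ⊔ frattini H = ⊤ := by
    rw [eq_top_iff]
    intro x _
    have hx : (x : G) ∈ F ⊔ M := htop ▸ Subgroup.mem_top _
    obtain ⟨f, hf, m, hm, e⟩ := Subgroup.mem_sup_of_normal_left.mp hx
    obtain ⟨f', hf', rfl⟩ := hf
    have e2 : x = f' * (f'⁻¹ * x) := by group
    rw [e2]
    refine Subgroup.mul_mem _ (Subgroup.mem_sup_right hf') (Subgroup.mem_sup_left ?_)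
    rw [Subgroup.mem_subgroupOf]
    have : ((f'⁻¹ * x : H) : G) = m := by
      push_cast
      rw [← e]
      simp
    rw [this]; exact hm
  have h2 := frattini_nongenerating h1
  rw [Subgroup.subgroupOf_eq_top] at h2
  exact hcon (hFH.trans h2)

end H12.FratNormal
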