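import Cfsg.Agent.Lib.H12.Basic

/-! Minimal normal subgroups of solvable groups. -/

set_option autoImplicit false

open scoped Pointwise commutatorElement

namespace H12.MinNormal

variable {G : Type*} [Group G]

theorem comm_of_solvable [Group.IsSolvable G] {M : Subgroup G} (hM : M.Normal) (hne : M ≠ ⊥)
    (hmin : ∀ K : Subgroup G, K.Normal → K ≤ M → K = ⊥ ∨ K = M) :
    M ≤ Subgroup.centralizer (M : Set G) := by
  have h1 : ⁅M, M⁆ < M := Group.IsSolvable.commutator_lt_of_ne_bot hne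
  have h2 : (⁅M, M⁆ : Subgroup G).Normal := inferInstance
  rcases hmin _ h2 h1.le with h | h
  · exact Subgroup.commutator_eq_bot_iff_le_centralizer.mp h
  · exact absurd h h1.ne

theorem exists_min [Finite G] {N : Subgroup G} (hN : N.Normal) (hne : N ≠ ⊥) :
    ∃ M : Subgroup G, M.Normal ∧ M ≠ ⊥ ∧ M ≤ N ∧
      ∀ K : Subgroup G, K.Normal → K ≤ M → K = ⊥ ∨ K = M := by
  classical
  have hfin : {K : Subgroup G | K.Normal ∧ K ≠ ⊥ ∧ K ≤ N}.Finite := Set.toFinite _
  obtain ⟨M, hM⟩ := hfin.exists_minimal ⟨N, hN, hne, le_rfl⟩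
  refine ⟨M, hM.prop.1, hM.prop.2.1, hM.prop.2.2, fun K hK hle => ?_⟩
  by_cases h : K = ⊥
  · exact Or.inl h
  · exact Or.inr (le_antisymm hle (hM.le_of_le ⟨hK, h, hle.trans hM.prop.2.2⟩ hle))

theorem mem_centralizer_of_comm {M : Subgroup G} (h : IsMulCommutative M) :
    M ≤ Subgroup.centralizer (M : Set G) := by
  intro a ha
  rw [Subgroup.mem_centralizer_iff]
  intro b hb
  have := h.is_comm.comm ⟨b, hb⟩ ⟨a, ha⟩
  exact congrArg Subtype.val this

theorem isMulCommutative_of_le {M : Subgroup G} (h : M ≤ Subgroup.centralizer (M : Set G)) :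
    IsMulCommutative M := by
  refine ⟨⟨fun a b => Subtype.ext ?_⟩⟩
  have := Subgroup.mem_centralizer_iff.mp (h b.2) a a.2
  exact this

/-- An abelian minimal normal subgroup of a finite group has prime exponent. -/
theorem exists_prime_exponent [Finite G] {M : Subgroup G} (hM : M.Normal) (hne : M ≠ ⊥)
    (hmin : ∀ K : Subgroup G, K.Normal → K ≤ M → K = ⊥ ∨ K = M)
    (hcomm : M ≤ Subgroup.centralizer (M : Set G)) :
    ∃ p : ℕ, p.Prime ∧ (∀ x ∈ M, x ^ p = 1) := by
  have hcard : Nat.card M ≠ 1 := by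
    intro h
    exact hne (Subgroup.card_eq_one.mp h)
  obtain ⟨p, hp, hpd⟩ := Nat.exists_prime_and_dvd hcard
  refine ⟨p, hp, ?_⟩
  -- the subgroup of elements of M killed by p
  let K : Subgroup G :=
    { carrier := {x | x ∈ M ∧ x ^ p = 1}
      one_mem' := ⟨M.one_mem, one_pow p⟩
      mul_mem' := by
        rintro a b ⟨ha, ha'⟩ ⟨hb, hb'⟩
        refine ⟨M.mul_mem ha hb, ?_⟩
        have hc : Commute a b := Subgroup.mem_centralizer_iff.mp (hcomm hb) a ha
        rw [hc.mul_pow, ha', hb', one_mul]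
      inv_mem' := by
        rintro a ⟨ha, ha'⟩
        exact ⟨M.inv_mem ha, by rw [inv_pow, ha', inv_one]⟩ }
  have hKn : K.Normal := by
    constructor
    rintro x ⟨hx, hx'⟩ g
    refine ⟨hM.conj_mem x hx g, ?_⟩
    rw [conj_pow, hx']; group
  have hKM : K ≤ M := fun x hx => hx.1
  rcases hmin K hKn hKM with h | h
  · exfalso
    have := Fact.mk hp
    obtain ⟨x, hx⟩ := exists_prime_orderOf_dvd_card' p hpd
    have hxK : (x : G) ∈ K := ⟨x.2, by
      rw [← Subgroup.coe_pow, ← hx, pow_orderOf_eq_one]; rfl⟩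
    rw [h, Subgroup.mem_bot] at hxK
    have : x = 1 := Subtype.ext hxK
    rw [this, orderOf_one] at hx
    exact hp.one_lt.ne hx
  · intro x hx
    rw [← h] at hx
    exact hx.2

theorem isPGroup_of_exponent {M : Subgroup G} {p : ℕ} (h : ∀ x ∈ M, x ^ p = 1) : IsPGroup p M := by
  intro x
  exact ⟨1, Subtype.ext (by simpa using h x x.2)⟩

end H12.MinNormal
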