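import Cfsg.Agent.Lib.H11.Supersolvable3
import Cfsg.Agent.Lib.H12.Basic
import Cfsg.Agent.Lib.H1.Cores

set_option autoImplicit false

/-! Wielandt: supersolvable Hall subgroups of the same order are conjugate. -/

namespace H12.SupHall

open Subgroup
open scoped Pointwise

theorem sylow_largest_normal (n : ℕ) : ∀ {G : Type*} [Group G] [Finite G] (_ : Nat.card G = n)
    (_ : Cfsg.IsSupersolvable G) (p : ℕ) [Fact p.Prime]
    (_ : ∀ q : ℕ, q.Prime → q ∣ Nat.card G → q ≤ p) (P : Sylow p G), (P : Subgroup G).Normal := by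
  induction n using Nat.strong_induction_on with
  | _ n ih =>
    intro G _ _ hn hG p hp hmax P
    by_cases hpG : p ∣ Nat.card G
    · obtain ⟨N, hN, hNp⟩ := H11.Supersolvable3.exists_normal_card_eq_largest hG p hp.out hpG hmax
      have hNP : N ≤ P := by
        have h1 : IsPGroup p N := IsPGroup.of_card (n := 1) (by rw [hNp, pow_one])
        obtain ⟨S, hS⟩ := h1.exists_le_sylow
        obtain ⟨g, hg⟩ := MulAction.exists_smul_eq G S P
        rw [← hg]
        intro x hx
        have h2 := hN.conj_mem x hx g⁻¹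
        rw [Sylow.coe_subgroup_smul, Subgroup.mem_pointwise_smul_iff_inv_smul_mem]
        have h3 := hS h2
        simpa [MulAut.smul_def] using h3
      have hlt : Nat.card (G ⧸ N) < n := by
        rw [← hn, Subgroup.card_eq_card_quotient_mul_card_subgroup N]
        have h1 : 1 < Nat.card N := hNp ▸ hp.out.one_lt
        exact (lt_mul_iff_one_lt_right Nat.card_pos).2 h1
      have h3 := ih _ hlt rfl (H11.Supersolvable.quotient hG N) p
        (fun q hq hqd => hmax q hq (hqd.trans (Subgroup.card_quotient_dvd_card N)))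
        (P.mapSurjective (QuotientGroup.mk'_surjective N))
      have h4 : (P : Subgroup G) =
          ((P : Subgroup G).map (QuotientGroup.mk' N)).comap (QuotientGroup.mk' N) := by
        rw [Subgroup.comap_map_eq, QuotientGroup.ker_mk', sup_eq_left.2 hNP]
      rw [h4]
      have h5 : ((P : Subgroup G).map (QuotientGroup.mk' N)).Normal := h3
      exact h5.comap _
    · have : (P : Subgroup G) = ⊥ := by
        obtain ⟨k, hk⟩ := P.2.exists_card_eq
        rw [← Subgroup.card_eq_one, hk]
        rcases Nat.eq_zero_or_pos k with h | h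
        · rw [h, pow_zero]
        · exfalso
          apply hpG
          exact (dvd_pow_self p h.ne').trans (hk ▸ Subgroup.card_subgroup_dvd_card _)
      rw [this]; infer_instance

/-- the Sylow subgroup for the largest prime of a supersolvable Hall subgroup `H`, as a Sylow
subgroup of `G` -/
theorem exists_sylow {G : Type*} [Group G] [Finite G] (H : Subgroup G)
    (hH : Cfsg.IsSupersolvable H) (p : ℕ) [hp : Fact p.Prime] (hpH : p ∣ Nat.card H)
    (hmax : ∀ q : ℕ, q.Prime → q ∣ Nat.card H → q ≤ p) (hHall : (Nat.card H).Coprime H.index) :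
    ∃ P : Sylow p G, (P : Subgroup G) ≤ H ∧ H ≤ Subgroup.normalizer ((P : Subgroup G) : Set G) := by
  obtain ⟨P⟩ : Nonempty (Sylow p H) := inferInstance
  have hPn := sylow_largest_normal _ rfl hH p hmax P
  have hi : ¬ p ∣ ((P : Subgroup H).map H.subtype).index := by
    rw [Subgroup.index_map_subtype]
    intro h
    rcases hp.out.dvd_mul.1 h with h | h
    · exact P.not_dvd_index h
    · exact hp.out.one_lt.ne' (Nat.eq_one_of_dvd_coprimes hHall hpH h)
  refine ⟨(P.2.map H.subtype).toSylow hi, Subgroup.map_subtype_le _, ?_⟩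
  change H ≤ Subgroup.normalizer (((P : Subgroup H).map H.subtype : Subgroup G) : Set G)
  intro h hh
  apply Basic.mem_normalizer_of_conj
  rintro _ ⟨x, hx, rfl⟩
  exact ⟨⟨h, hh⟩ * x * ⟨h, hh⟩⁻¹, hPn.conj_mem x hx _, rfl⟩

/-- the inductive step inside the normalizer of a common normal subgroup `R` -/
theorem step {G : Type*} [Group G] [Finite G] (H K R : Subgroup G)
    (hR : R ≠ ⊥) (hRH : R ≤ H) (hRK : R ≤ K)
    (hHR : H ≤ Subgroup.normalizer (R : Set G)) (hKR : K ≤ Subgroup.normalizer (R : Set G))
    (hcard : Nat.card H = Nat.card K)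
    (h : ∀ H' K' : Subgroup (Subgroup.normalizer (R : Set G) ⧸ R.subgroupOf (Subgroup.normalizer (R : Set G))),
      H' = (H.subgroupOf (Subgroup.normalizer (R : Set G))).map (QuotientGroup.mk' _) →
      K' = (K.subgroupOf (Subgroup.normalizer (R : Set G))).map (QuotientGroup.mk' _) →
      ∃ x : (Subgroup.normalizer (R : Set G) ⧸ R.subgroupOf (Subgroup.normalizer (R : Set G))),
        MulAut.conj x • H' = K') :
    ∃ x : G, MulAut.conj x • H = K := by
  obtain ⟨x, hx⟩ := h _ _ rfl rfl
  obtain ⟨x, rfl⟩ := QuotientGroup.mk'_surjective _ x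
  refine ⟨x, ?_⟩
  have hle : MulAut.conj (x : G) • H ≤ K := by
    intro y hy
    rw [Basic.mem_conj_smul] at hy
    have hyN : y ∈ Subgroup.normalizer (R : Set G) := by
      have h1 := mul_mem (mul_mem x.2 (hHR hy)) (inv_mem x.2)
      have h2 : (x : G) * ((x : G)⁻¹ * y * x) * (x : G)⁻¹ = y := by group
      rwa [h2] at h1
    have h1 : QuotientGroup.mk' (R.subgroupOf (Subgroup.normalizer (R : Set G))) ⟨y, hyN⟩ ∈
        (K.subgroupOf (Subgroup.normalizer (R : Set G))).map (QuotientGroup.mk' _) := by
      rw [← hx, Basic.mem_conj_smul, ← map_inv, ← map_mul, ← map_mul]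
      exact ⟨_, hy, rfl⟩
    obtain ⟨k, hk, e⟩ := h1
    have h2 := QuotientGroup.eq.1 e
    have h3 : (k : G)⁻¹ * y ∈ R := h2
    have h4 : y = k * ((k : G)⁻¹ * y) := by group
    rw [h4]
    exact K.mul_mem hk (hRK h3)
  exact Subgroup.eq_of_le_of_card_ge hle (by rw [Basic.card_conj_smul, hcard])

theorem conj (n : ℕ) : ∀ {G : Type*} [Group G] [Finite G] (_ : Nat.card G = n)
    (H K : Subgroup G) (_ : Cfsg.IsSupersolvable H) (_ : Cfsg.IsSupersolvable K)
    (_ : Nat.card H = Nat.card K) (_ : (Nat.card H).Coprime H.index),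
    ∃ x : G, MulAut.conj x • H = K := by
  induction n using Nat.strong_induction_on with
  | _ n ih =>
    intro G _ _ hn H K hH hK hcard hHall
    by_cases hH1 : Nat.card H = 1
    · refine ⟨1, ?_⟩
      have hK1 : Nat.card K = 1 := hcard ▸ hH1
      rw [Subgroup.card_eq_one.1 hH1, Subgroup.card_eq_one.1 hK1]
      simp
    -- largest prime
    have hindex : ∀ K : Subgroup G, Nat.card H = Nat.card K → K.index = H.index := by
      intro K hcard
      have h1 := Subgroup.card_mul_index H
      have h2 := Subgroup.card_mul_index K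
      rw [← hcard, ← h1] at h2
      exact Nat.eq_of_mul_eq_mul_left Nat.card_pos h2
    have hne : (Nat.card H).primeFactors.Nonempty := by
      rw [Nat.nonempty_primeFactors]
      have : 0 < Nat.card H := Nat.card_pos
      omega
    set p := (Nat.card H).primeFactors.max' hne with hpdef
    have hpm : p ∈ (Nat.card H).primeFactors := Finset.max'_mem _ _
    have hp : Fact p.Prime := ⟨Nat.prime_of_mem_primeFactors hpm⟩
    have hpH : p ∣ Nat.card H := Nat.dvd_of_mem_primeFactors hpm
    have hmax : ∀ q : ℕ, q.Prime → q ∣ Nat.card H → q ≤ p := fun q hq hqd =>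
      Finset.le_max' _ _ (Nat.mem_primeFactors.2 ⟨hq, hqd, Nat.card_pos.ne'⟩)
    obtain ⟨P, hPH, hHP⟩ := exists_sylow H hH p hpH hmax hHall
    obtain ⟨R, hRK, hKR⟩ := exists_sylow K hK p (hcard ▸ hpH) (hcard ▸ hmax)
      (by rw [hindex K hcard, ← hcard]; exact hHall)
    obtain ⟨g, hg⟩ := MulAction.exists_smul_eq G P R
    have hPR : MulAut.conj g • (P : Subgroup G) = R := by rw [← hg]; rfl
    -- replace H by its conjugate
    set H1 : Subgroup G := MulAut.conj g • H with hH1def
    have hRH1 : (R : Subgroup G) ≤ H1 := by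
      rw [← hPR]
      exact Subgroup.pointwise_smul_le_pointwise_smul_iff.2 hPH
    have hH1R : H1 ≤ Subgroup.normalizer ((R : Subgroup G) : Set G) := by
      rw [← hPR, ← Basic.conj_smul_normalizer]
      exact Subgroup.pointwise_smul_le_pointwise_smul_iff.2 hHP
    have hH1s : Cfsg.IsSupersolvable H1 :=
      H11.Supersolvable.of_mulEquiv (Subgroup.equivSMul (MulAut.conj g) H) hH
    have hH1c : Nat.card H1 = Nat.card H := Basic.card_conj_smul _ _
    have hH1i : H1.index = H.index := hindex H1 hH1c.symm
    have hRb : (R : Subgroup G) ≠ ⊥ := by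
      intro h
      apply R.ne_bot_of_dvd_card ?_ h
      exact hpH.trans (Subgroup.card_subgroup_dvd_card H)
    set N : Subgroup G := Subgroup.normalizer ((R : Subgroup G) : Set G) with hN
    have hRN : (R : Subgroup G) ≤ N := Subgroup.le_normalizer
    obtain ⟨x, hx⟩ := step H1 K R hRb hRH1 hRK hH1R hKR (hH1c.trans hcard) (by
      rintro H' K' rfl rfl
      have cardq : ∀ L : Subgroup G, (R : Subgroup G) ≤ L → L ≤ N →
          Nat.card ((L.subgroupOf N).map
            (QuotientGroup.mk' ((R : Subgroup G).subgroupOf N))) * Nat.card R = Nat.card L := by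
        intro L hL hLN
        have h1 := _root_.H1.Cores.card_map_mk' ((R : Subgroup G).subgroupOf N) (L.subgroupOf N)
          (Subgroup.comap_mono hL)
        rw [Basic.card_subgroupOf hRN, Basic.card_subgroupOf hLN] at h1
        rw [mul_comm]; exact h1
      have ssq : ∀ L : Subgroup G, L ≤ N → Cfsg.IsSupersolvable L →
          Cfsg.IsSupersolvable ((L.subgroupOf N).map
            (QuotientGroup.mk' ((R : Subgroup G).subgroupOf N))) := by
        intro L hLN hL
        have h1 : Cfsg.IsSupersolvable (L.subgroupOf N) :=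
          H11.Supersolvable.of_mulEquiv (Subgroup.subgroupOfEquivOfLe hLN).symm hL
        exact H11.Supersolvable.of_surjective
          ((QuotientGroup.mk' ((R : Subgroup G).subgroupOf N)).subgroupMap_surjective
            (L.subgroupOf N)) h1
      refine ih _ ?_ rfl _ _ (ssq _ hH1R hH1s) (ssq _ hKR hK) ?_ ?_
      · rw [← hn]
        have h1 : Nat.card N * 1 < Nat.card N * Nat.card R := by
          apply Nat.mul_lt_mul_of_pos_left _ Nat.card_pos
          exact Subgroup.one_lt_card_iff_ne_bot _ |>.2 hRb
        have h2 := Subgroup.card_eq_card_quotient_mul_card_subgroup ((R : Subgroup G).subgroupOf N)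
        rw [Basic.card_subgroupOf hRN] at h2
        have h3 : Nat.card N ≤ Nat.card G := Nat.le_of_dvd Nat.card_pos
          (Subgroup.card_subgroup_dvd_card N)
        have h4 : 1 < Nat.card R := Subgroup.one_lt_card_iff_ne_bot _ |>.2 hRb
        refine lt_of_lt_of_le ?_ h3
        rw [h2]
        exact (lt_mul_iff_one_lt_right Nat.card_pos).2 h4
      · have h1 := cardq H1 hRH1 hH1R
        have h2 := cardq K hRK hKR
        rw [hH1c, hcard, ← h2] at h1
        exact Nat.eq_of_mul_eq_mul_right Nat.card_pos h1
      · apply Nat.Coprime.coprime_dvd_left (k := Nat.card H)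
        · rw [← hH1c, ← cardq H1 hRH1 hH1R]
          exact dvd_mul_right _ _
        · refine Nat.Coprime.coprime_dvd_right ?_ hHall
          refine (Subgroup.index_map_dvd _ (QuotientGroup.mk'_surjective _)).trans ?_
          rw [← hH1i]
          exact Subgroup.relIndex_dvd_index_of_le hH1R)
    refine ⟨x * g, ?_⟩
    rw [map_mul, mul_smul]
    exact hx

end H12.SupHall
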