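import Cfsg.Agent.Lib.H12.HuppertA
import Cfsg.Agent.Lib.H12.EigLine
import Cfsg.Agent.Lib.H12.SupHall
import Cfsg.Agent.Lib.H12.MinNormal
import Cfsg.Agent.Lib.H12.Frat
import Cfsg.Agent.Lib.H12.FratArg
import Cfsg.Agent.Lib.H12.FratNormal
import Cfsg.Agent.Lib.H1.Carter
import Cfsg.Agent.Lib.H1.Solv
import Cfsg.Agent.Lib.H1.Hall
import Cfsg.Agent.Lib.H2.Gaschutz
import Cfsg.Agent.Lib.H30.Nil

set_option autoImplicit false

/-! Huppert: a finite solvable group all of whose maximal subgroups have prime index is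
supersolvable. -/

namespace H12.Huppert

open Subgroup
open scoped commutatorElement

variable {G : Type*} [Group G] [Finite G]

omit [Finite G] in
theorem exists_coatom_of_not_le_frattini {N : Subgroup G} (h : ¬ N ≤ frattini G) :
    ∃ M : Subgroup G, IsCoatom M ∧ ¬ N ≤ M := by
  unfold frattini Order.radical at h
  simp only [le_iInf_iff, Set.mem_setOf_eq, not_forall] at h
  obtain ⟨M, hM, hle⟩ := h
  exact ⟨M, hM, hle⟩

theorem eq_top_of_sup_frattini {N H : Subgroup G} (hN : N ≤ frattini G) (h : H ⊔ N = ⊤) :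
    H = ⊤ := by
  by_contra hne
  obtain ⟨M, hM, hle⟩ := (eq_top_or_exists_le_coatom H).resolve_left hne
  apply hM.1
  rw [eq_top_iff, ← h]
  apply sup_le hle
  exact hN.trans (frattini_le_coatom hM)

/-- a minimal normal subgroup not contained in the Frattini subgroup has prime order when all
maximal subgroups have prime index -/
theorem prime_of_not_le_frattini (hmax : ∀ M : Subgroup G, IsCoatom M → M.index.Prime)
    {N : Subgroup G} (hN : N.Normal) (hNc : N ≤ Subgroup.centralizer (N : Set G))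
    (hmin : ∀ K : Subgroup G, K.Normal → K ≤ N → K = ⊥ ∨ K = N) (h : ¬ N ≤ frattini G) :
    (Nat.card N).Prime := by
  obtain ⟨M, hM, hNM⟩ := exists_coatom_of_not_le_frattini h
  have hMN : M ⊔ N = ⊤ := by
    rcases hM.le_iff.1 (le_sup_left : M ≤ M ⊔ N) with h | h
    · exact h
    · exact absurd (h ▸ (le_sup_right : N ≤ M ⊔ N)) hNM
  have hinf : M ⊓ N = ⊥ :=
    H1.Carter.inf_eq_bot hN (MinNormal.isMulCommutative_of_le hNc) hmin hMN hNM
  have h1 := H1.Hall.card_sup_mul_card_inf M N
  rw [hMN, hinf, Subgroup.card_top, Subgroup.card_bot, mul_one, ← Subgroup.card_mul_index M] at h1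
  have h2 := Nat.eq_of_mul_eq_mul_left Nat.card_pos h1
  rw [← h2]
  exact hmax M hM

theorem quotient_hyp (hmax : ∀ M : Subgroup G, IsCoatom M → M.index.Prime) (N : Subgroup G)
    [N.Normal] : ∀ M : Subgroup (G ⧸ N), IsCoatom M → M.index.Prime := by
  intro M hM
  have h1 := Subgroup.isCoatom_comap_of_surjective (QuotientGroup.mk'_surjective N) hM
  have h2 := hmax _ h1
  rwa [Subgroup.index_comap_of_surjective _ (QuotientGroup.mk'_surjective N)] at h2

/-- uniqueness of the minimal normal subgroup -/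
theorem le_of_ne_bot {N L : Subgroup G} (hN : N.Normal) (hNb : N ≠ ⊥)
    (hmin : ∀ K : Subgroup G, K.Normal → K ≤ N → K = ⊥ ∨ K = N)
    (hnp : ∀ K : Subgroup G, K.Normal → ¬ (Nat.card K).Prime)
    [hL : L.Normal] (hs : Cfsg.IsSupersolvable (G ⧸ L)) : N ≤ L := by
  by_contra hNL
  have h1 : N ⊓ L = ⊥ := by
    rcases hmin (N ⊓ L) inferInstance inf_le_left with h | h
    · exact h
    · exact absurd (inf_eq_left.1 h) hNL
  have hN1 : (N.map (QuotientGroup.mk' L)).Normal := hN.map _ (QuotientGroup.mk'_surjective L)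
  have hN2 : N.map (QuotientGroup.mk' L) ≠ ⊥ := by
    intro h
    rw [Subgroup.map_eq_bot_iff, QuotientGroup.ker_mk'] at h
    exact hNL h
  obtain ⟨M, hM, hMN, hMp⟩ := H11.Supersolvable2.exists_normal_prime_le hs _ hN2
  set M' : Subgroup G := M.comap (QuotientGroup.mk' L) ⊓ N with hM'
  have hM'n : M'.Normal := inferInstance
  have h3 : M'.map (QuotientGroup.mk' L) = M := by
    apply le_antisymm
    · rintro _ ⟨x, hx, rfl⟩
      exact (Subgroup.mem_inf.1 hx).1
    · intro y hy
      obtain ⟨x, hx, rfl⟩ := hMN hy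
      exact ⟨x, Subgroup.mem_inf.2 ⟨hy, hx⟩, rfl⟩
  have h4 : M' ⊓ L = ⊥ := by
    rw [← le_bot_iff, ← h1]
    exact inf_le_inf_right _ inf_le_right
  have h5 := H1.Hall.card_map_mk_of_disjoint h4
  apply hnp M' hM'n
  rw [← h5, h3]
  exact hMp

/-- the Sylow subgroup for the largest prime is normal -/
theorem sylow_normal {N : Subgroup G} [hN : N.Normal] (hNΦ : N ≤ frattini G)
    (hs : Cfsg.IsSupersolvable (G ⧸ N)) (q : ℕ) [hq : Fact q.Prime]
    (hmax : ∀ r : ℕ, r.Prime → r ∣ Nat.card G → r ≤ q) (Q : Sylow q G) :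
    (Q : Subgroup G).Normal := by
  have h1 := SupHall.sylow_largest_normal _ rfl hs q
    (fun r hr hrd => hmax r hr (hrd.trans (Subgroup.card_quotient_dvd_card N)))
    (Q.mapSurjective (QuotientGroup.mk'_surjective N))
  have h2 : ((Q : Subgroup G) ⊔ N).Normal := by
    have h3 : (Q : Subgroup G) ⊔ N =
        ((Q : Subgroup G).map (QuotientGroup.mk' N)).comap (QuotientGroup.mk' N) := by
      rw [Subgroup.comap_map_eq, QuotientGroup.ker_mk']
    rw [h3]
    have h5 : ((Q : Subgroup G).map (QuotientGroup.mk' N)).Normal := h1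
    exact h5.comap _
  have h3 := FratArg.normal_of_sup_normal (⊤ : Subgroup G) N le_top hNΦ
    (Q.subtype (le_top : (Q : Subgroup G) ≤ ⊤))
  rw [Sylow.coe_subtype, Subgroup.map_subgroupOf_eq_of_le le_top] at h3
  exact h3 h2

/-- `X' X^{p-1}` is a `p`-group when `N ≤ Φ(P)`. -/
theorem Dp_le (hsol : Group.IsSolvable G) {p : ℕ} [hp : Fact p.Prime] (P : Sylow p G)
    (hP : (P : Subgroup G).Normal) {N : Subgroup G} [hN : N.Normal]
    (hNF : N ≤ (frattini (P : Subgroup G)).map (P : Subgroup G).subtype)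
    (hs : Cfsg.IsSupersolvable (G ⧸ N)) (hC : Cfsg.pPrimeCore p G = ⊥) :
    HuppertA.Dp G p ≤ P := by
  set F : Subgroup G := (frattini (P : Subgroup G)).map (P : Subgroup G).subtype with hF
  have hFn : F.Normal := inferInstance
  have hPc : Cfsg.pCore p G = P := le_antisymm (H1.Cores.pCore_le_sylow P) (H1.Cores.le_pCore hP P.2)
  have hCP : Subgroup.centralizer ((P : Subgroup G) : Set G) ≤ P := by
    have := H1.Solv.centralizer_pCore_le hsol p hC
    rwa [hPc] at this
  have hsF : Cfsg.IsSupersolvable (G ⧸ F) := by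
    have h1 := H11.Supersolvable.of_surjective (f := QuotientGroup.map N F (MonoidHom.id G) hNF)
      (by
        intro x
        obtain ⟨x, rfl⟩ := QuotientGroup.mk'_surjective F x
        exact ⟨QuotientGroup.mk' N x, rfl⟩) hs
    exact h1
  have key : ∀ A : Subgroup G, A ≤ HuppertA.Dp G p → (Nat.card A).Coprime p → A = ⊥ := by
    intro A hA hcop
    have h1 := HuppertA.le_centralizer _ rfl hsF (p := p) ((P : Subgroup G).map (QuotientGroup.mk' F))
      (A.map (QuotientGroup.mk' F)) (hP.map _ (QuotientGroup.mk'_surjective F)) (P.2.map _)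
      (Nat.Coprime.coprime_dvd_left (Subgroup.card_map_dvd _ _) hcop)
      ((Subgroup.map_mono hA).trans (HuppertA.map_Dp_le p _))
    have h2 : A ≤ Subgroup.centralizer ((P : Subgroup G) : Set G) := by
      apply H1.Coprime2.le_centralizer_of_frattini
      · have h3 : IsPGroup p (frattini (P : Subgroup G)) := P.2.to_subgroup _
        obtain ⟨k, hk⟩ := h3.exists_card_eq
        rw [hk]
        exact Nat.Coprime.pow_right k hcop
      · intro a ha k hk
        rw [← QuotientGroup.eq_one_iff]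
        have h3 := Subgroup.mem_centralizer_iff.1 (h1 ⟨a, ha, rfl⟩) _ ⟨k, hk, rfl⟩
        exact commutatorElement_eq_one_iff_mul_comm.2 h3.symm
    have h3 := h2.trans hCP
    have h4 : IsPGroup p A := P.2.to_le h3
    have h5 := H1.Cores.disjoint_of_isPGroup h4 hcop
    rwa [inf_idem] at h5
  have hDp : IsPGroup p (HuppertA.Dp G p) := by
    rintro ⟨x, hx⟩
    obtain ⟨a, m, hm, e⟩ := Nat.exists_eq_pow_mul_and_not_dvd
      (n := orderOf x) (orderOf_pos x).ne' p hp.out.ne_one
    refine ⟨a, Subtype.ext ?_⟩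
    have h1 : orderOf (x ^ p ^ a) = m := by
      rw [orderOf_pow' x (pow_ne_zero _ hp.out.ne_zero), e,
        Nat.gcd_eq_right (Dvd.intro _ rfl), Nat.mul_div_cancel_left _ (pow_pos hp.out.pos _)]
    have h2 := key (Subgroup.zpowers (x ^ p ^ a)) (by
      rw [Subgroup.zpowers_le]; exact pow_mem hx _) (by
      rw [Nat.card_zpowers, h1]
      exact ((Nat.Prime.coprime_iff_not_dvd hp.out).2 hm).symm)
    rw [Subgroup.zpowers_eq_bot] at h2
    exact h2
  obtain ⟨S, hS⟩ := hDp.exists_le_sylow
  have : (S : Subgroup G) = P := by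
    obtain ⟨g, hg⟩ := MulAction.exists_smul_eq G P S
    rw [← hg]
    have e6 : Subgroup.normalizer ((P : Subgroup G) : Set G) = ⊤ :=
        Subgroup.normalizer_eq_top_iff.2 hP
    have : g • P = P := by
      rw [Sylow.smul_eq_iff_mem_normalizer]
      exact e6 ▸ Subgroup.mem_top g
    rw [this]
  rw [← this]; exact hS

theorem conj_mem_zpowers {p : ℕ} [hp : Fact p.Prime] {N : Subgroup G} [hN : N.Normal]
    (hNb : N ≠ ⊥) (hNc : ∀ x ∈ N, ∀ y ∈ N, x * y = y * x)
    (hmin : ∀ K : Subgroup G, K.Normal → K ≤ N → K = ⊥ ∨ K = N) (hexp : ∀ x ∈ N, x ^ p = 1)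
    (hD : HuppertA.Dp G p ≤ Subgroup.centralizer (N : Set G)) (g : G) :
    ∃ k : ℕ, ∀ x ∈ N, g * x * g⁻¹ = x ^ k := by
  obtain ⟨k, x, hx, hx1, e⟩ := EigLine.exists_eig_group N hNb hexp hNc g (by
    intro x hx
    have h1 := Subgroup.mem_centralizer_iff.1 (hD (HuppertA.pow_mem_Dp p g)) x hx
    rw [← h1]; group)
  refine ⟨k, ?_⟩
  let E : Subgroup G :=
    { carrier := {y | y ∈ N ∧ g * y * g⁻¹ = y ^ k}
      one_mem' := ⟨N.one_mem, by simp⟩
      mul_mem' := by
        rintro a b ⟨ha, ha'⟩ ⟨hb, hb'⟩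
        refine ⟨N.mul_mem ha hb, ?_⟩
        have h1 : (a * b) ^ k = a ^ k * b ^ k := (show Commute a b from hNc a ha b hb).mul_pow k
        rw [h1, ← ha', ← hb']; group
      inv_mem' := by
        rintro a ⟨ha, ha'⟩
        refine ⟨N.inv_mem ha, ?_⟩
        rw [inv_pow, ← ha']; group }
  have hE : E.Normal := by
    constructor
    rintro y ⟨hy, hy'⟩ h
    refine ⟨hN.conj_mem y hy h, ?_⟩
    have hc : ⁅h⁻¹, g⁆ ∈ HuppertA.Dp G p :=
      HuppertA.commutator_le_Dp G p (Subgroup.commutator_mem_commutator (Subgroup.mem_top _)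
        (Subgroup.mem_top _))
    have h1 := Subgroup.mem_centralizer_iff.1 (hD hc) _ (hN.conj_mem y hy g)
    have h2 : ⁅h⁻¹, g⁆ * (g * y * g⁻¹) * ⁅h⁻¹, g⁆⁻¹ = g * y * g⁻¹ := by
      rw [← h1]; group
    calc g * (h * y * h⁻¹) * g⁻¹ = h * (⁅h⁻¹, g⁆ * (g * y * g⁻¹) * ⁅h⁻¹, g⁆⁻¹) * h⁻¹ := by
          rw [commutatorElement_def]; group
      _ = h * y ^ k * h⁻¹ := by rw [h2, hy']
      _ = _ := by rw [conj_pow]
  have hEN : E ≤ N := fun y hy => hy.1
  rcases hmin E hE hEN with h | h
  · exfalso
    have hxE : x ∈ E := ⟨hx, e⟩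
    rw [h, Subgroup.mem_bot] at hxE
    exact hx1 hxE
  · intro x hx
    rw [← h] at hx
    exact hx.2

theorem main (n : ℕ) : ∀ {G : Type*} [Group G] [Finite G] (_ : Nat.card G = n)
    (_ : Group.IsSolvable G) (_ : ∀ M : Subgroup G, IsCoatom M → M.index.Prime),
    Cfsg.IsSupersolvable G := by
  induction n using Nat.strong_induction_on with
  | _ n ih =>
    intro G _ _ hn hsol hmax
    rcases subsingleton_or_nontrivial G with hs | hs
    · exact H11.Supersolvable.of_subsingleton
    have ihq : ∀ (L : Subgroup G) [L.Normal], L ≠ ⊥ → Cfsg.IsSupersolvable (G ⧸ L) := by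
      intro L _ hL
      refine ih _ ?_ rfl inferInstance (quotient_hyp hmax L)
      rw [← hn, Subgroup.card_eq_card_quotient_mul_card_subgroup L]
      exact (lt_mul_iff_one_lt_right Nat.card_pos).2 (Subgroup.one_lt_card_iff_ne_bot L |>.2 hL)
    by_cases hex : ∃ L : Subgroup G, L.Normal ∧ (Nat.card L).Prime
    · obtain ⟨L, hL, hLp⟩ := hex
      apply H11.Supersolvable2.of_quotient_prime L hLp
      apply ihq
      intro h
      rw [h, Subgroup.card_bot] at hLp
      exact Nat.not_prime_one hLp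
    have hnp : ∀ K : Subgroup G, K.Normal → ¬ (Nat.card K).Prime := fun K hK hp => hex ⟨K, hK, hp⟩
    exfalso
    obtain ⟨N, hN, hNb, -, hmin⟩ := MinNormal.exists_min (N := (⊤ : Subgroup G)) inferInstance
      top_ne_bot
    have hNc := MinNormal.comm_of_solvable hN hNb hmin
    have hNcomm : ∀ x ∈ N, ∀ y ∈ N, x * y = y * x := fun x hx y hy =>
      (Subgroup.mem_centralizer_iff.1 (hNc hx) y hy).symm
    obtain ⟨p, hp, hexp⟩ := MinNormal.exists_prime_exponent hN hNb hmin hNc
    have hpf := Fact.mk hp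
    have hNp : IsPGroup p N := MinNormal.isPGroup_of_exponent hexp
    have hNΦ : N ≤ frattini G := by
      by_contra h
      exact hnp N hN (prime_of_not_le_frattini hmax hN hNc hmin h)
    have huniq : ∀ L : Subgroup G, L.Normal → L ≠ ⊥ → N ≤ L := by
      intro L hL hLb
      exact le_of_ne_bot hN hNb hmin hnp (ihq L hLb)
    -- largest prime
    have hne : (Nat.card G).primeFactors.Nonempty := by
      rw [Nat.nonempty_primeFactors]
      exact Finite.one_lt_card
    obtain ⟨q, hqm, hqmax⟩ : ∃ q ∈ (Nat.card G).primeFactors,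
        ∀ r ∈ (Nat.card G).primeFactors, r ≤ q :=
      ⟨_, Finset.max'_mem _ hne, fun r hr => Finset.le_max' _ _ hr⟩
    have hq : Fact q.Prime := ⟨Nat.prime_of_mem_primeFactors hqm⟩
    have hqG : q ∣ Nat.card G := Nat.dvd_of_mem_primeFactors hqm
    obtain ⟨P⟩ : Nonempty (Sylow q G) := inferInstance
    have hP : (P : Subgroup G).Normal := sylow_normal hNΦ (ihq N hNb) q
      (fun r hr hrd => hqmax r (Nat.mem_primeFactors.2 ⟨hr, hrd, Nat.card_pos.ne'⟩)) P
    have hPb : (P : Subgroup G) ≠ ⊥ := P.ne_bot_of_dvd_card hqG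
    have hNP : N ≤ P := huniq P hP hPb
    have hpq : p = q := by
      by_contra hne
      have h1 := IsPGroup.disjoint_of_ne p q hne N N hNp (P.2.to_le hNP)
      exact hNb (disjoint_self.1 h1)
    subst hpq
    have hC : Cfsg.pPrimeCore p G = ⊥ := by
      by_contra h
      have hch := H1.Cores.pPrimeCore_characteristic (G := G) p
      have h1 := huniq (Cfsg.pPrimeCore p G) inferInstance h
      have h2 := H1.Cores.disjoint_of_isPGroup hNp
        (Nat.Coprime.coprime_dvd_left (Subgroup.card_dvd_of_le h1)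
          (H1.Cores.coprime_card_pPrimeCore p))
      rw [inf_idem] at h2
      exact hNb h2
    -- N ≤ Z(P)
    have hNil : Group.IsNilpotent (P : Subgroup G) := P.2.isNilpotent
    have hPN : (P : Subgroup G) ≤ Subgroup.centralizer (N : Set G) := by
      have h1 : N.subgroupOf (P : Subgroup G) ≠ ⊥ := by
        intro h
        rw [Subgroup.subgroupOf_eq_bot, disjoint_iff, inf_eq_left.2 hNP] at h
        exact hNb h
      have h2 := H30.Nil.inf_center_ne_bot (N.subgroupOf (P : Subgroup G)) h1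
      set Z : Subgroup G := (Subgroup.center (P : Subgroup G)).map (P : Subgroup G).subtype with hZ
      have hZn : Z.Normal := inferInstance
      have h3 : N ⊓ Z ≠ ⊥ := by
        intro h
        apply h2
        rw [Subgroup.eq_bot_iff_forall]
        intro x hx
        have h4 : (x : G) ∈ N ⊓ Z := Subgroup.mem_inf.2 ⟨(Subgroup.mem_inf.1 hx).1,
          ⟨x, (Subgroup.mem_inf.1 hx).2, rfl⟩⟩
        rw [h, Subgroup.mem_bot] at h4
        exact Subtype.ext h4
      rcases hmin (N ⊓ Z) inferInstance inf_le_left with h | h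
      · exact absurd h h3
      · intro x hx
        rw [Subgroup.mem_centralizer_iff]
        intro y hy
        rw [SetLike.mem_coe, ← h] at hy
        obtain ⟨z, hz, rfl⟩ := (Subgroup.mem_inf.1 hy).2
        exact (congrArg Subtype.val (Subgroup.mem_center_iff.1 hz ⟨x, hx⟩)).symm
    set F : Subgroup G := (frattini (P : Subgroup G)).map (P : Subgroup G).subtype with hF
    have hFn : F.Normal := inferInstance
    by_cases hFb : F = ⊥
    · -- Gaschuetz
      have hfb : frattini (P : Subgroup G) = ⊥ := by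
        rwa [hF, Subgroup.map_eq_bot_iff_of_injective _ (P : Subgroup G).subtype_injective] at hFb
      obtain ⟨H, hH⟩ := Frat.exists_complement hfb (N.subgroupOf (P : Subgroup G)) inferInstance (by
        intro x hx
        rw [Subgroup.mem_centralizer_iff]
        intro y hy
        exact Subtype.ext (hNcomm y hy x hx))
      have hNcc : IsMulCommutative N := MinNormal.isMulCommutative_of_le hNc
      have hcop : (Nat.card N).Coprime (P : Subgroup G).index := by
        obtain ⟨k, hk⟩ := hNp.exists_card_eq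
        rw [hk]
        exact Nat.Coprime.pow_left k ((Nat.Prime.coprime_iff_not_dvd hp).2 P.not_dvd_index)
      obtain ⟨K, hK⟩ := H2.Gaschutz.exists_complement N (P : Subgroup G) hcop
        (H.map (P : Subgroup G).subtype) (Subgroup.map_subtype_le _) (by
          rw [Subgroup.eq_bot_iff_forall]
          rintro x hx
          obtain ⟨⟨y, hy, rfl⟩, hx2⟩ := Subgroup.mem_inf.1 hx
          have h5 : y ∈ N.subgroupOf (P : Subgroup G) ⊓ H := Subgroup.mem_inf.2 ⟨hx2, hy⟩
          rw [hH.isCompl.inf_eq_bot, Subgroup.mem_bot] at h5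
          rw [h5]; rfl) (by
          have h5 := congrArg (Subgroup.map (P : Subgroup G).subtype) hH.isCompl.sup_eq_top
          rw [Subgroup.map_sup, Subgroup.map_subgroupOf_eq_of_le hNP, ← MonoidHom.range_eq_map,
            Subgroup.range_subtype] at h5
          exact h5)
      have h6 := eq_top_of_sup_frattini hNΦ (H := K) (by
        rw [sup_comm]; exact hK.isCompl.sup_eq_top)
      have h7 := hK.isCompl.inf_eq_bot
      rw [h6, inf_top_eq] at h7
      exact hNb h7
    · have hNF : N ≤ F := huniq F hFn hFb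
      have hD := (Dp_le hsol P hP hNF (ihq N hNb) hC).trans hPN
      have hconj := fun g : G => conj_mem_zpowers hNb hNcomm hmin hexp hD g
      obtain ⟨x, hx, hx1⟩ := (Subgroup.ne_bot_iff_exists_ne_one).1 hNb |>.elim
        (fun a ha => (⟨a, a.2, fun h => ha (Subtype.ext h)⟩ : ∃ x : G, x ∈ N ∧ x ≠ 1))
      apply hnp (Subgroup.zpowers x)
      · constructor
        intro y hy g
        obtain ⟨k, hk⟩ := hconj g
        have hyN : y ∈ N := by
          have : Subgroup.zpowers x ≤ N := by rwa [Subgroup.zpowers_le]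
          exact this hy
        rw [hk y hyN]
        exact pow_mem hy k
      · rw [Nat.card_zpowers, orderOf_eq_prime (hexp x hx) hx1]
        exact hp

end H12.Huppert
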