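import Mathlib
import Cfsg.Agent.Lib.H1.Frat
import Cfsg.Agent.Lib.H1.Coprime2
import Cfsg.Agent.Lib.H3.ClassTwo

/-! Alperin's lemma on maximal normal elementary abelian subgroups, and Thompson's lemma on
`p`-groups with `Ω₁` central (`p` odd). -/

set_option autoImplicit false

open Subgroup
open scoped commutatorElement

namespace H12.OmegaC

section

variable {P : Type*} [Group P]

theorem mul_pow_of_comm {p : ℕ} [hp : Fact p.Prime] (hp2 : p ≠ 2) {a b : P}
    (ha : Commute ⁅b, a⁆ a) (hb : Commute ⁅b, a⁆ b) (hc : ⁅b, a⁆ ^ p = 1) :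
    (a * b) ^ p = a ^ p * b ^ p := by
  rw [H3.ClassTwo.mul_pow_eq ha hb]
  have h2 : 2 < p := lt_of_le_of_ne hp.out.two_le (Ne.symm hp2)
  obtain ⟨m, hm⟩ := hp.out.dvd_choose_self (k := 2) (by norm_num) h2
  rw [hm, pow_mul, hc, one_pow, mul_one]

end

variable {P : Type*} [Group P] [Finite P] {p : ℕ} [hp : Fact p.Prime]

theorem lt_of_not_commute (hP : IsPGroup p P) {x y g : P} (hg : g ∈ closure ({x, y} : Set P))
    (hxy : x * y ≠ y * x) : closure ({x, g * x * g⁻¹} : Set P) < closure ({x, y} : Set P) := by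
  have hx : x ∈ closure ({x, y} : Set P) := Subgroup.subset_closure (by simp)
  have hy : y ∈ closure ({x, y} : Set P) := Subgroup.subset_closure (by simp)
  have hle : closure ({x, g * x * g⁻¹} : Set P) ≤ closure ({x, y} : Set P) := by
    rw [Subgroup.closure_le]
    rintro z (rfl | rfl)
    · exact hx
    · exact mul_mem (mul_mem hg hx) (inv_mem hg)
  refine lt_of_le_of_ne hle ?_
  intro heq
  set L := closure ({x, y} : Set P) with hL
  have hLp : IsPGroup p L := hP.to_subgroup L
  have hnil : Group.IsNilpotent L := hLp.isNilpotent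
  have h1 : zpowers (⟨x, hx⟩ : L) ⊔ frattini L = ⊤ := by
    rw [eq_top_iff]
    have h2 : (⊤ : Subgroup L) = (closure ({x, g * x * g⁻¹} : Set P)).subgroupOf L := by
      rw [heq, Subgroup.subgroupOf_self]
    rw [h2]
    have h3 : (closure ({x, g * x * g⁻¹} : Set P)) ≤
        (zpowers (⟨x, hx⟩ : L) ⊔ frattini L).map L.subtype := by
      rw [Subgroup.closure_le]
      rintro z (rfl | rfl)
      · exact ⟨⟨z, hx⟩, mem_sup_left (mem_zpowers _), rfl⟩
      · refine ⟨⟨g, hg⟩ * ⟨x, hx⟩ * ⟨g, hg⟩⁻¹, ?_, rfl⟩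
        have e : (⟨g, hg⟩ * ⟨x, hx⟩ * ⟨g, hg⟩⁻¹ : L) = ⁅(⟨g, hg⟩ : L), ⟨x, hx⟩⁆ * ⟨x, hx⟩ := by
          rw [commutatorElement_def]; group
        rw [e]
        exact mul_mem (mem_sup_right (H1.Frat.commutator_le_frattini
          (Subgroup.commutator_mem_commutator (mem_top _) (mem_top _))))
          (mem_sup_left (mem_zpowers _))
    intro z hz
    rw [Subgroup.mem_subgroupOf] at hz
    obtain ⟨w, hw, hwz⟩ := h3 hz
    have : w = z := Subtype.ext hwz
    rwa [this] at hw
  have h2 := frattini_nongenerating h1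
  have h3 : (⟨y, hy⟩ : L) ∈ zpowers (⟨x, hx⟩ : L) := by rw [h2]; exact mem_top _
  obtain ⟨k, hk⟩ := h3
  have h4 : x ^ k = y := congrArg Subtype.val hk
  apply hxy
  rw [← h4]
  exact ((Commute.refl x).zpow_right k).eq

/-- Thompson: if elements of order `p` are central, `x ^ p = y ^ p` implies `(x⁻¹ y) ^ p = 1`. -/
theorem inv_mul_pow (hp2 : p ≠ 2) (hP : IsPGroup p P) (hΩ : ∀ x : P, x ^ p = 1 → x ∈ center P)
    (n : ℕ) : ∀ x y : P, Nat.card (closure ({x, y} : Set P)) ≤ n → x ^ p = y ^ p →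
      (x⁻¹ * y) ^ p = 1 := by
  induction n with
  | zero =>
    intro x y h _
    have := Nat.card_pos (α := closure ({x, y} : Set P))
    omega
  | succ n ih =>
    intro x y hn hxy
    by_cases hc : x * y = y * x
    · have h1 : Commute x⁻¹ y := Commute.inv_left hc
      rw [h1.mul_pow, inv_pow, hxy, inv_mul_cancel]
    · have hy : y ∈ closure ({x, y} : Set P) := Subgroup.subset_closure (by simp)
      have hlt := lt_of_not_commute hP hy hc
      have h1 : x ^ p = (y * x * y⁻¹) ^ p := by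
        rw [conj_pow, hxy, ← pow_succ', pow_succ, mul_inv_cancel_right]
      have h2 := ih x (y * x * y⁻¹) (by
        have := Set.Finite.card_lt_card (Set.toFinite _) hlt
        have h3 : Nat.card (closure ({x, y * x * y⁻¹} : Set P)) < Nat.card (closure ({x, y} : Set P)) :=
          this
        omega) h1
      have h3 := hΩ _ h2
      have e : x⁻¹ * (y * x * y⁻¹) = ⁅x⁻¹, y⁆ := by rw [commutatorElement_def]; group
      rw [e] at h2 h3
      have h4 : ⁅y, x⁻¹⁆ ∈ center P := by
        rw [← commutatorElement_inv]; exact inv_mem h3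
      have h5 : ⁅y, x⁻¹⁆ ^ p = 1 := by
        rw [← commutatorElement_inv, inv_pow, h2, inv_one]
      rw [mul_pow_of_comm hp2 ((Subgroup.mem_center_iff.1 h4 _).symm)
        ((Subgroup.mem_center_iff.1 h4 _).symm) h5, inv_pow, hxy, inv_mul_cancel]

theorem card_le (hp2 : p ≠ 2) (hP : IsPGroup p P) (hΩ : ∀ x : P, x ^ p = 1 → x ∈ center P) :
    Nat.card P ≤ Nat.card (frattini P) * Nat.card {x : P // x ^ p = 1} := by
  have hsec : ∀ z : P, ∃ s : P, (∃ x, x ^ p = z) → s ^ p = z := by
    intro z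
    by_cases h : ∃ x, x ^ p = z
    · obtain ⟨x, hx⟩ := h
      exact ⟨x, fun _ => hx⟩
    · exact ⟨1, fun h' => absurd h' h⟩
  choose s hs using hsec
  rw [← Nat.card_prod]
  have hinj : Function.Injective (fun x : P => ((⟨x ^ p, H1.Frat.pow_mem_frattini hP x⟩,
      ⟨(s (x ^ p))⁻¹ * x, inv_mul_pow hp2 hP hΩ _ (s (x ^ p)) x le_rfl (hs _ ⟨x, rfl⟩)⟩) :
      frattini P × {x : P // x ^ p = 1})) := by
    intro x y hxy
    simp only [Prod.mk.injEq, Subtype.mk.injEq] at hxy
    obtain ⟨h1, h2⟩ := hxy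
    rw [h1] at h2
    exact mul_left_cancel h2
  exact Nat.card_le_card_of_injective _ hinj

theorem index_le (hp2 : p ≠ 2) (hP : IsPGroup p P) (hΩ : ∀ x : P, x ^ p = 1 → x ∈ center P) :
    (frattini P).index ≤ Nat.card {x : P // x ^ p = 1} := by
  have h1 := card_le hp2 hP hΩ
  rw [← Subgroup.card_mul_index (frattini P)] at h1
  exact Nat.le_of_mul_le_mul_left h1 Nat.card_pos

theorem exists_gen_of_index (hP : IsPGroup p P) (k : ℕ) (h : (frattini P).index ≤ p ^ k) :
    ∃ T : Finset P, T.card ≤ k ∧ Subgroup.closure (T : Set P) = ⊤ := by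
  classical
  have := Fintype.ofFinite P
  obtain ⟨n, hn⟩ := hP.index (frattini P)
  have hnk : n ≤ k := by
    rw [hn] at h
    exact (Nat.pow_le_pow_iff_right hp.out.one_lt).1 h
  obtain ⟨T, -, hT, hT2⟩ := H1.Frat.exists_subset_card hP hn Finset.univ (by simp) n le_rfl
  refine ⟨T, by omega, ?_⟩
  apply frattini_nongenerating
  apply Subgroup.eq_top_of_card_eq
  rw [hT2, ← hn, mul_comm, Subgroup.card_mul_index]

/-- Alperin's claim. -/
theorem alperin_claim (hp2 : p ≠ 2) (hP : IsPGroup p P) {A M : Subgroup P} [M.Normal]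
    (hMA : M ≤ centralizer (A : Set P)) (hM : ∀ y ∈ M, y ^ p = 1 → y ∈ A)
    (hAexp : ∀ a ∈ A, a ^ p = 1) {x : P} (hx : x ∈ centralizer (A : Set P)) (hxp : x ^ p = 1)
    (n : ℕ) : ∀ m ∈ M, Nat.card (closure ({x, m} : Set P)) ≤ n → (x * m) ^ p = 1 → m ∈ A := by
  induction n with
  | zero =>
    intro m _ h _
    have := Nat.card_pos (α := closure ({x, m} : Set P))
    omega
  | succ n ih =>
    intro m hm hn hxm
    by_cases hc : x * m = m * x
    · have h1 : Commute x m := hc
      rw [h1.mul_pow, hxp, one_mul] at hxm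
      exact hM m hm hxm
    · have hy : m ∈ closure ({x, m} : Set P) := Subgroup.subset_closure (by simp)
      have hlt := lt_of_not_commute hP hy hc
      have hm' : x⁻¹ * (m * x * m⁻¹) ∈ M := by
        have h1 : x⁻¹ * m * x⁻¹⁻¹ ∈ M := Subgroup.Normal.conj_mem inferInstance m hm x⁻¹
        have e : x⁻¹ * (m * x * m⁻¹) = x⁻¹ * m * x⁻¹⁻¹ * m⁻¹ := by group
        rw [e]
        exact mul_mem h1 (inv_mem hm)
      have h1 : (x * (x⁻¹ * (m * x * m⁻¹))) ^ p = 1 := by
        rw [mul_inv_cancel_left, conj_pow, hxp, mul_one, mul_inv_cancel]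
      have hle : closure ({x, x⁻¹ * (m * x * m⁻¹)} : Set P) ≤ closure ({x, m * x * m⁻¹} : Set P) := by
        rw [Subgroup.closure_le]
        have hx1 : x ∈ closure ({x, m * x * m⁻¹} : Set P) := Subgroup.subset_closure (by simp)
        have hx2 : m * x * m⁻¹ ∈ closure ({x, m * x * m⁻¹} : Set P) :=
          Subgroup.subset_closure (by simp)
        rintro z (rfl | rfl)
        · exact hx1
        · exact mul_mem (inv_mem hx1) hx2
      have h2 := ih _ hm' (by
        have h3 : Nat.card (closure ({x, x⁻¹ * (m * x * m⁻¹)} : Set P)) <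
          Nat.card (closure ({x, m} : Set P)) :=
          Set.Finite.card_lt_card (Set.toFinite _) (lt_of_le_of_lt hle hlt)
        omega) h1
      have hcx : Commute (x⁻¹ * (m * x * m⁻¹)) x := (Subgroup.mem_centralizer_iff.1 hx _ h2)
      have hcm : Commute (x⁻¹ * (m * x * m⁻¹)) m :=
        (Subgroup.mem_centralizer_iff.1 (hMA hm) _ h2)
      have e : ⁅m, x⁆ = x⁻¹ * (m * x * m⁻¹) := by
        have h3 : ⁅m, x⁆ = x * (x⁻¹ * (m * x * m⁻¹)) * x⁻¹ := by
          rw [commutatorElement_def]; group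
        rw [h3, ← hcx.eq, mul_inv_cancel_right]
      rw [← e] at h2 hcx hcm
      rw [mul_pow_of_comm hp2 hcx hcm (hAexp _ h2), hxp, one_mul] at hxm
      exact hM m hm hxm

/-- `N = [N, P] A` implies `N ≤ A`. -/
theorem le_of_eq_sup (hP : IsPGroup p P) {N A : Subgroup P} [N.Normal] [A.Normal]
    (h : N ≤ ⁅N, (⊤ : Subgroup P)⁆ ⊔ A) : N ≤ A := by
  have h1 : N.map (QuotientGroup.mk' A) ≤ ⁅N.map (QuotientGroup.mk' A), (⊤ : Subgroup (P ⧸ A))⁆ := by
    have h2 := Subgroup.map_mono (f := QuotientGroup.mk' A) h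
    have h3 : A.map (QuotientGroup.mk' A) = ⊥ := by
      rw [Subgroup.map_eq_bot_iff, QuotientGroup.ker_mk']
    rw [Subgroup.map_sup, h3, sup_bot_eq, Subgroup.map_commutator,
      Subgroup.map_top_of_surjective _ (QuotientGroup.mk'_surjective A)] at h2
    exact h2
  by_contra hN
  have hne : N.map (QuotientGroup.mk' A) ≠ ⊥ := by
    intro h2
    apply hN
    rwa [Subgroup.map_eq_bot_iff, QuotientGroup.ker_mk'] at h2
  have hQ : IsPGroup p (P ⧸ A) := hP.to_quotient A
  have hn : (N.map (QuotientGroup.mk' A)).Normal :=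
    Subgroup.Normal.map inferInstance _ (QuotientGroup.mk'_surjective A)
  have hlt := H1.Coprime2.commutator_lt_of_isPGroup (hQ.to_subgroup ⊤)
    (hQ.to_subgroup (N.map (QuotientGroup.mk' A)))
    (by rw [Subgroup.normalizer_eq_top_iff.2 hn]) hne
  exact absurd h1 (not_le_of_gt hlt)

/-- **Alperin**: for `p` odd, a maximal normal elementary abelian subgroup `A` contains all
elements of order `p` of its centraliser. -/
theorem alperin (hp2 : p ≠ 2) (hP : IsPGroup p P) {A : Subgroup P} [A.Normal]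
    (hAab : ∀ a ∈ A, ∀ b ∈ A, a * b = b * a) (hAexp : ∀ a ∈ A, a ^ p = 1)
    (hmax : ∀ B : Subgroup P, B.Normal → (∀ a ∈ B, ∀ b ∈ B, a * b = b * a) →
      (∀ b ∈ B, b ^ p = 1) → A ≤ B → B ≤ A)
    (n : ℕ) : ∀ x ∈ centralizer (A : Set P), x ^ p = 1 →
      Nat.card (A ⊔ normalClosure {x} : Subgroup P) ≤ n → x ∈ A := by
  induction n with
  | zero =>
    intro x _ _ h
    have := Nat.card_pos (α := (A ⊔ normalClosure {x} : Subgroup P))
    omega
  | succ n ih =>
    intro x hx hxp hn
    set N : Subgroup P := A ⊔ normalClosure {x} with hN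
    have hxN : x ∈ N := mem_sup_right (Subgroup.subset_normalClosure rfl)
    have hAC : A ≤ centralizer (A : Set P) := by
      intro a ha
      rw [Subgroup.mem_centralizer_iff]
      intro b hb
      exact hAab b hb a ha
    have hNC : N ≤ centralizer (A : Set P) := by
      refine sup_le hAC ?_
      apply Subgroup.normalClosure_le_normal
      rintro _ rfl
      exact hx
    by_cases hlt : N ≤ ⁅N, (⊤ : Subgroup P)⁆ ⊔ A
    · exact le_of_eq_sup hP hlt hxN
    set M : Subgroup P := ⁅N, (⊤ : Subgroup P)⁆ ⊔ A with hMdef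
    have hMN : M ≤ N := sup_le (Subgroup.commutator_le_left _ _) le_sup_left
    have hMlt : M < N := lt_of_le_not_ge hMN hlt
    have hM : ∀ y ∈ M, y ^ p = 1 → y ∈ A := by
      intro y hy hyp
      apply ih y (hNC (hMN hy)) hyp
      have h1 : A ⊔ normalClosure {y} ≤ M := by
        refine sup_le le_sup_right ?_
        apply Subgroup.normalClosure_le_normal
        rintro _ rfl
        exact hy
      have h2 : Nat.card (A ⊔ normalClosure {y} : Subgroup P) < Nat.card N :=
        Set.Finite.card_lt_card (Set.toFinite _) (lt_of_le_of_lt h1 hMlt)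
      omega
    have hconj : ∀ g : P, x⁻¹ * (g * x * g⁻¹) ∈ A := by
      intro g
      have hm : x⁻¹ * (g * x * g⁻¹) ∈ M := by
        have e : x⁻¹ * (g * x * g⁻¹) = ⁅x⁻¹, g⁆ := by rw [commutatorElement_def]; group
        rw [e]
        exact mem_sup_left (Subgroup.commutator_mem_commutator (inv_mem hxN) (mem_top g))
      apply alperin_claim hp2 hP (hMN.trans hNC) hM hAexp hx hxp _ _ hm le_rfl
      rw [mul_inv_cancel_left, conj_pow, hxp, mul_one, mul_inv_cancel]
    have hmem : ∀ b ∈ A ⊔ zpowers x, ∃ a ∈ A, ∃ k : ℤ, b = a * x ^ k := by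
      intro b hb
      rw [← SetLike.mem_coe, Subgroup.normal_mul] at hb
      obtain ⟨a, ha, z, ⟨k, rfl⟩, hb⟩ := hb
      exact ⟨a, ha, k, hb.symm⟩
    have hax : ∀ a ∈ A, ∀ k : ℤ, Commute a (x ^ k) := by
      intro a ha k
      have h1 : Commute a x := Subgroup.mem_centralizer_iff.1 hx a ha
      exact h1.zpow_right k
    have hB := hmax (A ⊔ zpowers x) ⟨by
      intro b hb g
      obtain ⟨a, ha, k, rfl⟩ := hmem b hb
      have e : g * (a * x ^ k) * g⁻¹ = (g * a * g⁻¹) * (g * x * g⁻¹) ^ k := by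
        rw [conj_zpow]; group
      rw [e]
      refine mul_mem (mem_sup_left (Subgroup.Normal.conj_mem inferInstance a ha g))
        (zpow_mem ?_ k)
      have e2 : g * x * g⁻¹ = x * (x⁻¹ * (g * x * g⁻¹)) := by group
      rw [e2]
      exact mul_mem (mem_sup_right (mem_zpowers x)) (mem_sup_left (hconj g))⟩ (by
      intro b hb c hc
      obtain ⟨a, ha, k, rfl⟩ := hmem b hb
      obtain ⟨a', ha', k', rfl⟩ := hmem c hc
      have h1 : Commute a (a' * x ^ k') := Commute.mul_right (hAab a ha a' ha') (hax a ha k')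
      have h2 : Commute (x ^ k) (a' * x ^ k') := Commute.mul_right (hax a' ha' k).symm
        ((Commute.refl x).zpow_zpow k k')
      exact (Commute.mul_left h1 h2).eq) (by
      intro b hb
      obtain ⟨a, ha, k, rfl⟩ := hmem b hb
      rw [(hax a ha k).mul_pow, hAexp a ha, one_mul, ← zpow_natCast, ← zpow_mul, mul_comm,
        zpow_mul, zpow_natCast, hxp, one_zpow]) le_sup_left
    exact hB (mem_sup_right (mem_zpowers x))

end H12.OmegaC
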