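import Mathlib
import Cfsg.Agent.Lib.H12.OmegaC
import Cfsg.Agent.Lib.H12.Huppert
import Cfsg.Agent.Lib.H3.CritOdd
import Cfsg.Agent.Lib.H29.PGrp

/-! Chief factors. -/

set_option autoImplicit false

open Subgroup
open scoped commutatorElement

namespace H12.ChiefFac

variable {G : Type*} [Group G]

/-- `H / K` is a chief factor of `G` -/
structure CF (H K : Subgroup G) : Prop where
  hn : H.Normal
  kn : K.Normal
  lt : K < H
  chief : ∀ L : Subgroup G, L.Normal → K ≤ L → L ≤ H → L = K ∨ L = H

theorem CF.inf_or {H K : Subgroup G} (h : CF H K) (N : Subgroup G) [hN : N.Normal] :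
    (CF (H ⊓ N) (K ⊓ N) ∧ (K ⊓ N).relIndex (H ⊓ N) = K.relIndex H) ∨
    (CF (H ⊔ N) (K ⊔ N) ∧ (K ⊔ N).relIndex (H ⊔ N) = K.relIndex H) := by
  have hn := h.hn
  have kn := h.kn
  rcases h.chief (K ⊔ H ⊓ N) inferInstance le_sup_left (sup_le h.lt.le inf_le_left) with h1 | h1
  · right
    have hle : H ⊓ N ≤ K := by rw [← h1]; exact le_sup_right
    have hind : (K ⊔ N).relIndex (H ⊔ N) = K.relIndex H := by
      have e1 : H ⊔ N = H ⊔ (K ⊔ N) := by
        rw [← sup_assoc, sup_eq_left.2 h.lt.le]
      rw [e1, Subgroup.relIndex_sup_right, ← Subgroup.inf_relIndex_right]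
      congr 1
      apply le_antisymm
      · intro x hx
        obtain ⟨hx1, hx2⟩ := Subgroup.mem_inf.1 hx
        rw [← SetLike.mem_coe, Subgroup.mul_normal] at hx1
        obtain ⟨k, hk, n, hnn, rfl⟩ := hx1
        have h2 : n ∈ H := by
          have := H.mul_mem (H.inv_mem (h.lt.le hk)) hx2
          simpa using this
        exact K.mul_mem hk (hle ⟨h2, hnn⟩)
      · exact le_inf le_sup_left h.lt.le
    refine ⟨⟨inferInstance, inferInstance, ?_, ?_⟩, hind⟩
    · refine lt_of_le_of_ne (sup_le_sup_right h.lt.le N) ?_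
      intro he
      rw [he, Subgroup.relIndex_self] at hind
      exact absurd (Subgroup.relIndex_eq_one.1 hind.symm) (not_le_of_gt h.lt)
    · intro L hL hKL hLH
      rcases h.chief (L ⊓ H) inferInstance (le_inf (le_sup_left.trans hKL) h.lt.le) inf_le_right with h2 | h2
      · left
        apply le_antisymm _ hKL
        intro x hx
        have hx1 := hLH hx
        rw [← SetLike.mem_coe, Subgroup.mul_normal] at hx1
        obtain ⟨y, hy, n, hnn, rfl⟩ := hx1
        have h3 : y ∈ L := by
          have := L.mul_mem hx (L.inv_mem (hKL (mem_sup_right hnn)))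
          simpa using this
        have h4 : y ∈ K := by
          rw [← h2]; exact ⟨h3, hy⟩
        exact mul_mem (mem_sup_left h4) (mem_sup_right hnn)
      · right
        apply le_antisymm hLH
        refine sup_le ?_ (le_sup_right.trans hKL)
        rw [← h2]; exact inf_le_left
  · left
    have hind : (K ⊓ N).relIndex (H ⊓ N) = K.relIndex H := by
      conv_rhs => rw [← h1]
      rw [sup_comm, Subgroup.relIndex_sup_right, ← Subgroup.inf_relIndex_right K]
      congr 1
      rw [← inf_assoc, inf_eq_left.2 h.lt.le]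
    refine ⟨⟨inferInstance, inferInstance, ?_, ?_⟩, hind⟩
    · refine lt_of_le_of_ne (inf_le_inf_right N h.lt.le) ?_
      intro he
      rw [he, Subgroup.relIndex_self] at hind
      exact absurd (Subgroup.relIndex_eq_one.1 hind.symm) (not_le_of_gt h.lt)
    · intro L hL hKL hLH
      have hLN : L ≤ N := hLH.trans inf_le_right
      rcases h.chief (K ⊔ L) inferInstance le_sup_left
        (sup_le h.lt.le (hLH.trans inf_le_left)) with h2 | h2
      · left
        apply le_antisymm (le_inf (by rw [← h2]; exact le_sup_right) hLN) hKL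
      · right
        apply le_antisymm hLH
        intro x hx
        obtain ⟨hx1, hx2⟩ := Subgroup.mem_inf.1 hx
        rw [← h2, ← SetLike.mem_coe, Subgroup.mul_normal] at hx1
        obtain ⟨k, hk, l, hl, rfl⟩ := hx1
        have h3 : k ∈ N := by
          have := N.mul_mem hx2 (N.inv_mem (hLN hl))
          simpa using this
        exact L.mul_mem (hKL ⟨hk, h3⟩) hl

/-- a chief factor above `N` is a chief factor of `G / N` -/
theorem CF.quotient {H K : Subgroup G} (h : CF H K) (N : Subgroup G) [hN : N.Normal] (hNK : N ≤ K) :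
    CF (H.map (QuotientGroup.mk' N)) (K.map (QuotientGroup.mk' N)) ∧
      (K.map (QuotientGroup.mk' N)).relIndex (H.map (QuotientGroup.mk' N)) = K.relIndex H := by
  have hs := QuotientGroup.mk'_surjective N
  have hcK : (K.map (QuotientGroup.mk' N)).comap (QuotientGroup.mk' N) = K := by
    rw [Subgroup.comap_map_eq, QuotientGroup.ker_mk', sup_eq_left.2 hNK]
  have hcH : (H.map (QuotientGroup.mk' N)).comap (QuotientGroup.mk' N) = H := by
    rw [Subgroup.comap_map_eq, QuotientGroup.ker_mk', sup_eq_left.2 (hNK.trans h.lt.le)]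
  have hind : (K.map (QuotientGroup.mk' N)).relIndex (H.map (QuotientGroup.mk' N)) = K.relIndex H := by
    rw [← Subgroup.relIndex_comap, hcK]
  refine ⟨⟨h.hn.map _ hs, h.kn.map _ hs, ?_, ?_⟩, hind⟩
  · refine lt_of_le_of_ne (Subgroup.map_mono h.lt.le) ?_
    intro he
    have h1 := congrArg (Subgroup.comap (QuotientGroup.mk' N)) he
    rw [hcK, hcH] at h1
    exact h.lt.ne h1
  · intro L hL hKL hLH
    rcases h.chief (L.comap (QuotientGroup.mk' N)) (hL.comap _)
      (by rw [← hcK]; exact Subgroup.comap_mono hKL)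
      (by rw [← hcH]; exact Subgroup.comap_mono hLH) with h1 | h1
    · left
      rw [← h1, Subgroup.map_comap_eq_self_of_surjective hs]
    · right
      rw [← h1, Subgroup.map_comap_eq_self_of_surjective hs]

/-- a chief factor gives a minimal normal subgroup of `G / K` -/
theorem CF.minimal {H K : Subgroup G} (h : CF H K) [hK : K.Normal] :
    (H.map (QuotientGroup.mk' K)).Normal ∧ H.map (QuotientGroup.mk' K) ≠ ⊥ ∧
      (∀ L : Subgroup (G ⧸ K), L.Normal → L ≤ H.map (QuotientGroup.mk' K) →
        L = ⊥ ∨ L = H.map (QuotientGroup.mk' K)) ∧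
      Nat.card (H.map (QuotientGroup.mk' K)) = K.relIndex H := by
  obtain ⟨h1, h2⟩ := h.quotient K le_rfl
  have h3 : K.map (QuotientGroup.mk' K) = ⊥ := by
    rw [Subgroup.map_eq_bot_iff, QuotientGroup.ker_mk']
  rw [h3] at h1 h2
  refine ⟨h1.hn, h1.lt.ne', fun L hL hLH => h1.chief L hL bot_le hLH, ?_⟩
  rwa [Subgroup.relIndex_bot_left] at h2

end H12.ChiefFac
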