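import Mathlib
import Cfsg.Agent.Lib.H12.ChiefFac
import Cfsg.Agent.Lib.H3.PBasic
import Cfsg.Prelude.Def_CaseTheorems

/-! Chief factors inside a normal `p`-subgroup of a group of `p`-rank at most two. -/

set_option autoImplicit false

open Subgroup Cfsg
open scoped commutatorElement

namespace H12.ChiefRk

open H12.ChiefFac

variable {G : Type*} [Group G] [Finite G] {p : ℕ} [hp : Fact p.Prime]

/-- chief factors `H / K` with `Ω₁(H)` central of order at most `p ^ 2` -/
theorem thompson_cf (hp2 : p ≠ 2) {H K Z : Subgroup G} (h : CF H K) (hH : IsPGroup p H)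
    (hZ : ∀ x ∈ H, x ^ p = 1 → x ∈ Z) (hZH : H ≤ centralizer (Z : Set G)) (hZc : Nat.card Z ≤ p ^ 2) :
    K.relIndex H ≤ p ^ 2 := by
  have hHn := h.hn
  have hKn := h.kn
  have hΦn : ((frattini H).map H.subtype).Normal := inferInstance
  have hΦH : (frattini H).map H.subtype ≤ H := Subgroup.map_subtype_le _
  have hΦK : (frattini H).map H.subtype ≤ K := by
    rcases h.chief (K ⊔ (frattini H).map H.subtype) inferInstance le_sup_left
      (sup_le h.lt.le hΦH) with h1 | h1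
    · rw [← h1]; exact le_sup_right
    · exfalso
      have h2 : K.subgroupOf H ⊔ frattini H = ⊤ := by
        rw [eq_top_iff]
        intro x _
        have hx : (x : G) ∈ K ⊔ (frattini H).map H.subtype := by rw [h1]; exact x.2
        rw [← SetLike.mem_coe, Subgroup.mul_normal] at hx
        obtain ⟨k, hk, f, ⟨f', hf', rfl⟩, hkf⟩ := hx
        have e : x = ⟨k, h.lt.le hk⟩ * f' := Subtype.ext hkf.symm
        rw [e]
        exact mul_mem (mem_sup_left (Subgroup.mem_subgroupOf.2 hk)) (mem_sup_right hf')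
      have h3 := frattini_nongenerating h2
      rw [Subgroup.subgroupOf_eq_top] at h3
      exact absurd h3 (not_le_of_gt h.lt)
  have h1 : frattini H ≤ K.subgroupOf H := by
    intro x hx
    exact Subgroup.mem_subgroupOf.2 (hΦK ⟨x, hx, rfl⟩)
  have h2 : K.relIndex H ≤ (frattini H).index := by
    rw [Subgroup.relIndex]
    exact Nat.le_of_dvd (Nat.pos_of_ne_zero Subgroup.index_ne_zero_of_finite)
      (Subgroup.index_dvd_of_le h1)
  have hmem : ∀ x : H, x ^ p = 1 → (x : G) ∈ Z := by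
    intro x hx
    apply hZ x x.2
    have := congrArg Subtype.val hx
    simpa using this
  refine h2.trans ((OmegaC.index_le hp2 hH ?_).trans (le_trans ?_ hZc))
  · intro x hx
    rw [Subgroup.mem_center_iff]
    intro g
    exact Subtype.ext (Subgroup.mem_centralizer_iff.1 (hZH g.2) _ (hmem x hx)).symm
  · refine Nat.card_le_card_of_injective
      (fun x : {x : H // x ^ p = 1} => (⟨(x : H), hmem x.1 x.2⟩ : Z)) ?_
    intro x y hxy
    simp only [Subtype.mk.injEq] at hxy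
    exact Subtype.ext (Subtype.ext hxy)

theorem relIndex_centralizer_le {P : Subgroup G} {x : G} {Z : Subgroup G}
    (h : ∀ g ∈ P, g * x * g⁻¹ * x⁻¹ ∈ Z) : (centralizer {x}).relIndex P ≤ Nat.card Z := by
  rw [Subgroup.relIndex, Subgroup.index]
  refine Nat.card_le_card_of_injective (fun q : P ⧸ (centralizer {x}).subgroupOf P =>
    (Quotient.liftOn' q (fun g : P => (⟨(g : G) * x * (g : G)⁻¹ * x⁻¹, h g g.2⟩ : Z)) ?_)) ?_
  · intro a b hab
    rw [QuotientGroup.leftRel_apply, Subgroup.mem_subgroupOf, Subgroup.mem_centralizer_singleton_iff] at hab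
    apply Subtype.ext
    have h1 : ((a : G)⁻¹ * b) * x = x * ((a : G)⁻¹ * b) := hab
    change (a : G) * x * (a : G)⁻¹ * x⁻¹ = (b : G) * x * (b : G)⁻¹ * x⁻¹
    have h2 : (b : G) * x * (b : G)⁻¹ = a * (((a : G)⁻¹ * b) * x) * (b : G)⁻¹ := by group
    rw [h2, h1]; group
  · intro q r
    refine Quotient.inductionOn₂' q r (fun a b hab => ?_)
    rw [Quotient.eq'', QuotientGroup.leftRel_apply, Subgroup.mem_subgroupOf,
      Subgroup.mem_centralizer_singleton_iff]
    have h1 : (a : G) * x * (a : G)⁻¹ * x⁻¹ = (b : G) * x * (b : G)⁻¹ * x⁻¹ := congrArg Subtype.val hab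
    have h2 : (a : G) * x * (a : G)⁻¹ = (b : G) * x * (b : G)⁻¹ := mul_right_cancel h1
    change ((a : G)⁻¹ * b) * x = x * ((a : G)⁻¹ * b)
    have h3 : ((a : G)⁻¹ * b) * x = (a : G)⁻¹ * (b * x * (b : G)⁻¹) * b := by group
    rw [h3, ← h2]; group

omit [Finite G] in
theorem sup_zpowers {E : Subgroup G} (hE : ∀ a ∈ E, ∀ b ∈ E, a * b = b * a)
    (hEp : ∀ a ∈ E, a ^ p = 1) {c : G} (hc : ∀ a ∈ E, a * c = c * a) (hcp : c ^ p = 1) :
    (∀ x ∈ E ⊔ zpowers c, ∃ a ∈ E, ∃ k : ℤ, x = a * c ^ k) ∧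
    (∀ a ∈ E ⊔ zpowers c, ∀ b ∈ E ⊔ zpowers c, a * b = b * a) ∧
    (∀ a ∈ E ⊔ zpowers c, a ^ p = 1) := by
  have h4 : zpowers c ≤ normalizer (E : Set G) := by
    rw [Subgroup.zpowers_le]
    apply Subgroup.centralizer_le_normalizer
    rw [Subgroup.mem_centralizer_iff]
    exact hc
  have hmem : ∀ x ∈ E ⊔ zpowers c, ∃ a ∈ E, ∃ k : ℤ, x = a * c ^ k := by
    intro x hx
    rw [← SetLike.mem_coe, Subgroup.coe_mul_of_right_le_normalizer_left _ _ h4] at hx
    obtain ⟨a, ha, z, ⟨k, rfl⟩, hb⟩ := hx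
    exact ⟨a, ha, k, hb.symm⟩
  have hax : ∀ a ∈ E, ∀ k : ℤ, Commute a (c ^ k) := fun a ha k => Commute.zpow_right (hc a ha) k
  refine ⟨hmem, ?_, ?_⟩
  · intro b hb c' hc'
    obtain ⟨a, ha, k, rfl⟩ := hmem b hb
    obtain ⟨a', ha', k', rfl⟩ := hmem c' hc'
    have h1 : Commute a (a' * c ^ k') := Commute.mul_right (hE a ha a' ha') (hax a ha k')
    have h2 : Commute (c ^ k) (a' * c ^ k') := Commute.mul_right (hax a' ha' k).symm
      ((Commute.refl c).zpow_zpow k k')
    exact (Commute.mul_left h1 h2).eq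
  · intro b hb
    obtain ⟨a, ha, k, rfl⟩ := hmem b hb
    rw [(hax a ha k).mul_pow, hEp a ha, one_mul, ← zpow_natCast, ← zpow_mul, mul_comm,
      zpow_mul, zpow_natCast, hcp, one_zpow]

omit [Finite G] hp in
theorem card_le_of_rank (hr : PRankLE p 2 G) {E : Subgroup G} (hE : ∀ a ∈ E, ∀ b ∈ E, a * b = b * a)
    (hEp : ∀ a ∈ E, a ^ p = 1) : Nat.card E ≤ p ^ 2 :=
  hr E ⟨⟨fun a b => Subtype.ext (hE a a.2 b b.2)⟩⟩ hEp

theorem rank_adj (hr : PRankLE p 2 G) {E : Subgroup G} (hE : ∀ a ∈ E, ∀ b ∈ E, a * b = b * a)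
    (hEp : ∀ a ∈ E, a ^ p = 1) (hEc : p ^ 2 ≤ Nat.card E) {c : G} (hc : ∀ a ∈ E, a * c = c * a)
    (hcp : c ^ p = 1) : c ∈ E := by
  obtain ⟨-, h2, h3⟩ := sup_zpowers hE hEp hc hcp
  have h4 := card_le_of_rank hr h2 h3
  have h5 : E = E ⊔ zpowers c := Subgroup.eq_of_le_of_card_ge le_sup_left (h4.trans hEc)
  rw [h5]
  exact mem_sup_right (mem_zpowers c)

theorem isPGroup_of_exp {E : Subgroup G} (hEp : ∀ a ∈ E, a ^ p = 1) : IsPGroup p E := by
  rintro ⟨x, hx⟩
  exact ⟨1, Subtype.ext (by simpa using hEp x hx)⟩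

theorem card_lt_pow {A B : Subgroup G} (hB : IsPGroup p B) (h : A < B) (k : ℕ)
    (hBc : Nat.card B ≤ p ^ (k + 1)) : Nat.card A ≤ p ^ k := by
  obtain ⟨a, ha⟩ := IsPGroup.iff_card.1 hB
  obtain ⟨b, hb⟩ := IsPGroup.iff_card.1 (hB.to_le h.le)
  have h1 : Nat.card A < Nat.card B := Set.Finite.card_lt_card (Set.toFinite _) h
  have h2 : 1 < p := hp.out.one_lt
  rw [ha, hb] at h1
  have h3 : b < a := (Nat.pow_lt_pow_iff_right h2).1 h1
  rw [ha] at hBc
  have h4 : a ≤ k + 1 := (Nat.pow_le_pow_iff_right h2).1 hBc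
  rw [hb]
  exact Nat.pow_le_pow_right h2.le (by omega)

theorem card_ge_pow {A B : Subgroup G} (hB : IsPGroup p B) (h : A < B) (k : ℕ)
    (hAc : p ^ k ≤ Nat.card A) : p ^ (k + 1) ≤ Nat.card B := by
  obtain ⟨a, ha⟩ := IsPGroup.iff_card.1 hB
  obtain ⟨b, hb⟩ := IsPGroup.iff_card.1 (hB.to_le h.le)
  have h1 : Nat.card A < Nat.card B := Set.Finite.card_lt_card (Set.toFinite _) h
  have h2 : 1 < p := hp.out.one_lt
  rw [ha, hb] at h1
  have h3 : b < a := (Nat.pow_lt_pow_iff_right h2).1 h1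
  rw [hb] at hAc
  have h4 : k ≤ b := (Nat.pow_le_pow_iff_right h2).1 hAc
  rw [ha]
  exact Nat.pow_le_pow_right h2.le (by omega)

theorem relIndex_inf_le' {A B C P : Subgroup G} (h : A ⊓ B ⊓ P ≤ C) (hA : A.relIndex P ≤ p)
    (hB : B.relIndex P ≤ p) : C.relIndex P ≤ p ^ 2 := by
  have h1 : C.relIndex P ≤ (A ⊓ B).relIndex P := by
    rw [← Subgroup.inf_relIndex_right C, ← Subgroup.inf_relIndex_right (A ⊓ B)]
    refine Nat.le_of_dvd (Nat.pos_of_ne_zero (by
      rw [Subgroup.relIndex]; exact Subgroup.index_ne_zero_of_finite)) ?_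
    exact Subgroup.relIndex_dvd_of_le_left P (le_inf h inf_le_right)
  refine h1.trans (Subgroup.relIndex_inf_le.trans ?_)
  rw [sq]
  exact Nat.mul_le_mul hA hB

theorem facts_ab (hr : PRankLE p 2 G) {P D : Subgroup G} [P.Normal] [D.Normal] (hP : IsPGroup p P)
    (hDP : D ≤ P) (hD : ∀ a ∈ D, ∀ b ∈ D, a * b = b * a) (hDp : ∀ a ∈ D, a ^ p = 1)
    (hDc : ¬ Nat.card D ≤ p) :
    (∀ c ∈ P, c ∈ centralizer (D : Set G) → c ^ p = 1 → c ∈ D) ∧
      Nat.card (D ⊓ centralizer (D : Set G) : Subgroup G) ≤ p ^ 2 ∧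
      (centralizer (D : Set G)).relIndex P ≤ p ^ 2 := by
  have hDle := card_le_of_rank hr hD hDp
  have hDpg : IsPGroup p D := hP.to_le hDP
  have hDge : p ^ 2 ≤ Nat.card D := by
    by_contra hlt
    obtain ⟨n, hn⟩ := IsPGroup.iff_card.1 hDpg
    rw [hn] at hlt hDc
    have h1 : n < 2 := by
      by_contra h
      exact hlt (Nat.pow_le_pow_right hp.out.pos (by omega))
    apply hDc
    calc p ^ n ≤ p ^ 1 := Nat.pow_le_pow_right hp.out.pos (by omega)
      _ = p := pow_one p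
  refine ⟨?_, ?_, ?_⟩
  · intro c _ hc hcp
    exact rank_adj hr hD hDp hDge (fun a ha => Subgroup.mem_centralizer_iff.1 hc a ha) hcp
  · exact (Subgroup.card_le_of_le inf_le_left).trans hDle
  · have h1 : ∃ x ∈ D, x ≠ 1 := by
      by_contra hcon
      push Not at hcon
      have : D = ⊥ := (Subgroup.eq_bot_iff_forall D).2 hcon
      rw [this, Subgroup.card_bot] at hDc
      exact hDc hp.out.one_lt.le
    obtain ⟨x, hx, hx1⟩ := h1
    have hxo : orderOf x = p := orderOf_eq_prime (hDp x hx) hx1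
    have h2 : ∃ y ∈ D, y ∉ zpowers x := by
      by_contra hcon
      push Not at hcon
      have : D ≤ zpowers x := hcon
      have h3 := Subgroup.card_le_of_le this
      rw [Nat.card_zpowers, hxo] at h3
      exact hDc h3
    obtain ⟨y, hy, hyx⟩ := h2
    have h3 : D ≤ zpowers x ⊔ zpowers y := by
      have h4 : zpowers x ⊔ zpowers y ≤ D := sup_le (by rwa [zpowers_le]) (by rwa [zpowers_le])
      have h5 : zpowers x < zpowers x ⊔ zpowers y := by
        refine lt_of_le_of_ne le_sup_left ?_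
        intro h
        apply hyx
        rw [h]
        exact mem_sup_right (mem_zpowers y)
      have h6 := card_ge_pow (hDpg.to_le h4) h5 1 (by rw [Nat.card_zpowers, hxo, pow_one])
      exact (Subgroup.eq_of_le_of_card_ge h4 (hDle.trans h6)).ge
    have hidx : ∀ v ∈ D, (centralizer {v}).relIndex P ≤ p := by
      intro v hv
      have h4 := H29.PGrp.card_le_mul_centralizer hP
        (by rw [Subgroup.normalizer_eq_top_iff.2 (inferInstance : D.Normal)]; exact le_top) hDle hv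
      have h5 : Nat.card (P ⊓ centralizer {v} : Subgroup G) * (centralizer {v}).relIndex P = Nat.card P := by
        rw [← Subgroup.inf_relIndex_left]
        exact H3.PBasic.card_mul_relIndex inf_le_left
      rw [← h5, mul_comm p] at h4
      exact Nat.le_of_mul_le_mul_left h4 Nat.card_pos
    refine relIndex_inf_le' ?_ (hidx x hx) (hidx y hy)
    intro g hg
    obtain ⟨⟨hg1, hg2⟩, hg3⟩ := hg
    have h4 : D ≤ centralizer {g} := by
      refine h3.trans (sup_le ?_ ?_)
      · rw [zpowers_le, Subgroup.mem_centralizer_singleton_iff]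
        exact (Subgroup.mem_centralizer_singleton_iff.1 hg1).symm
      · rw [zpowers_le, Subgroup.mem_centralizer_singleton_iff]
        exact (Subgroup.mem_centralizer_singleton_iff.1 hg2).symm
    rw [Subgroup.mem_centralizer_iff]
    intro d hd
    exact Subgroup.mem_centralizer_singleton_iff.1 (h4 hd)

theorem facts_nonab (hr : PRankLE p 2 G) {P D : Subgroup G} [P.Normal] [D.Normal] (hP : IsPGroup p P)
    (hDP : D ≤ P) (hcomm : ∀ x ∈ D, ∀ g ∈ P, ⁅x, g⁆ ∈ centralizer (D : Set G))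
    (hDp : ∀ a ∈ D, a ^ p = 1) {x y : G} (hx : x ∈ D) (hy : y ∈ D) (hxy : x * y ≠ y * x) :
    (∀ c ∈ P, c ∈ centralizer (D : Set G) → c ^ p = 1 → c ∈ D) ∧
      Nat.card (D ⊓ centralizer (D : Set G) : Subgroup G) ≤ p ^ 2 ∧
      (centralizer (D : Set G)).relIndex P ≤ p ^ 2 := by
  set Z : Subgroup G := D ⊓ centralizer (D : Set G) with hZ
  have hZc : ∀ a ∈ Z, ∀ b ∈ D, a * b = b * a := fun a ha b hb =>
    (Subgroup.mem_centralizer_iff.1 ha.2 b hb).symm
  have hZab : ∀ a ∈ Z, ∀ b ∈ Z, a * b = b * a := fun a ha b hb => hZc a ha b hb.1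
  have hZp : ∀ a ∈ Z, a ^ p = 1 := fun a ha => hDp a ha.1
  have hDpg : IsPGroup p D := hP.to_le hDP
  have hcZ : ∀ a ∈ D, ∀ g ∈ P, ⁅a, g⁆ ∈ Z := by
    intro a ha g hg
    refine ⟨?_, hcomm a ha g hg⟩
    rw [commutatorElement_def]
    have h1 : g * a⁻¹ * g⁻¹ ∈ D := Subgroup.Normal.conj_mem inferInstance _ (inv_mem ha) g
    have e : a * g * a⁻¹ * g⁻¹ = a * (g * a⁻¹ * g⁻¹) := by group
    rw [e]; exact mul_mem ha h1
  have hcxy : ⁅x, y⁆ ≠ 1 := by
    rw [Ne, commutatorElement_eq_one_iff_mul_comm]; exact hxy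
  have hxZ : x ∉ Z := fun h => hxy (hZc x h y hy)
  obtain ⟨hE1, hE2, hE3⟩ := sup_zpowers (p := p) hZab hZp (fun a ha => hZc a ha x hx) (hDp x hx)
  set E : Subgroup G := Z ⊔ zpowers x with hE
  have hED : E ≤ D := sup_le inf_le_left (by rwa [zpowers_le])
  have hEle := card_le_of_rank hr hE2 hE3
  have hZE : Z < E := by
    refine lt_of_le_of_ne le_sup_left ?_
    intro h
    apply hxZ
    rw [h]; exact mem_sup_right (mem_zpowers x)
  have hEpg : IsPGroup p E := hDpg.to_le hED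
  have hZle : Nat.card Z ≤ p := by
    have := card_lt_pow hEpg hZE 1 (by simpa using hEle)
    rwa [pow_one] at this
  have hco : orderOf ⁅x, y⁆ = p := orderOf_eq_prime (hZp _ (hcZ x hx y (hDP hy))) hcxy
  have hZeq : zpowers ⁅x, y⁆ = Z := by
    apply Subgroup.eq_of_le_of_card_ge
    · rw [zpowers_le]; exact hcZ x hx y (hDP hy)
    · rw [Nat.card_zpowers, hco]; exact hZle
  have hZcard : Nat.card Z = p := by rw [← hZeq, Nat.card_zpowers, hco]
  have hEge : p ^ 2 ≤ Nat.card E := card_ge_pow hEpg hZE 1 (by rw [hZcard, pow_one])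
  refine ⟨?_, ?_, ?_⟩
  · intro c _ hc hcp
    exact hED (rank_adj hr hE2 hE3 hEge (fun a ha => Subgroup.mem_centralizer_iff.1 hc a (hED ha)) hcp)
  · rw [hZcard]
    calc p = p ^ 1 := (pow_one p).symm
      _ ≤ p ^ 2 := Nat.pow_le_pow_right hp.out.pos (by norm_num)
  · have hidx : ∀ v ∈ D, (centralizer {v}).relIndex P ≤ p := by
      intro v hv
      rw [← hZcard]
      apply relIndex_centralizer_le
      intro g hg
      have h1 := hcZ v hv g hg
      rw [← commutatorElement_inv] at h1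
      exact (inv_mem_iff (H := Z)).1 h1
    have hZcent : P ≤ centralizer (Z : Set G) := by
      have hZn : Z.Normal := inferInstance
      have hZb : Z ≠ ⊥ := by
        intro h
        rw [h, Subgroup.card_bot] at hZcard
        exact hp.out.one_lt.ne hZcard
      have h1 := H1.Coprime2.commutator_lt_of_isPGroup hP (hDpg.to_le (inf_le_left : Z ≤ D))
        (by rw [Subgroup.normalizer_eq_top_iff.2 hZn]; exact le_top) hZb
      have h2 := card_lt_pow (hDpg.to_le (inf_le_left : Z ≤ D)) h1 0 (by rw [hZcard]; simp)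
      rw [pow_zero] at h2
      have h3 := Subgroup.eq_bot_of_card_le _ h2
      rw [Subgroup.commutator_comm, Subgroup.commutator_eq_bot_iff_le_centralizer] at h3
      exact h3
    refine relIndex_inf_le' ?_ (hidx x hx) (hidx y hy)
    intro g hg
    obtain ⟨⟨hg1, hg2⟩, hg3⟩ := hg
    rw [Subgroup.mem_centralizer_iff]
    intro d hd
    have hgx : x ∈ centralizer {g} := by
      rw [Subgroup.mem_centralizer_singleton_iff]
      exact (Subgroup.mem_centralizer_singleton_iff.1 hg1).symm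
    have hgy : y ∈ centralizer {g} := by
      rw [Subgroup.mem_centralizer_singleton_iff]
      exact (Subgroup.mem_centralizer_singleton_iff.1 hg2).symm
    have hgZ : ∀ z ∈ Z, z ∈ centralizer {g} := by
      intro z hz
      rw [Subgroup.mem_centralizer_singleton_iff]
      exact Subgroup.mem_centralizer_iff.1 (hZcent hg3) z hz
    have h1 : ⁅x, d⁆ ∈ zpowers ⁅x, y⁆ := by rw [hZeq]; exact hcZ x hx d (hDP hd)
    obtain ⟨i, hi⟩ := h1
    -- `d * y ^ (-i)` commutes with `x`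
    have h2 : ⁅x, d * y ^ (-i)⁆ = 1 := by
      have hcy : Commute ⁅x, y⁆ y := hZc _ (hcZ x hx y (hDP hy)) y hy
      have h3 : ⁅x, y ^ (-i)⁆ = ⁅x, y⁆ ^ (-i) := by
        have hx1 : x * y * x⁻¹ = ⁅x, y⁆ * y := by rw [commutatorElement_def]; group
        have e : ⁅x, y ^ (-i)⁆ = (x * y * x⁻¹) ^ (-i) * (y ^ (-i))⁻¹ := by
          rw [conj_zpow, commutatorElement_def]
        rw [e, hx1, hcy.mul_zpow, mul_inv_cancel_right]
      rw [H3.ClassTwo.comm_mul_right, ← hi, h3]
      · change ⁅x, y⁆ ^ i * ⁅x, y⁆ ^ (-i) = 1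
        rw [← zpow_add, add_neg_cancel, zpow_zero]
      · rw [h3]
        have h4 : Commute ⁅x, y⁆ d := hZc _ (hcZ x hx y (hDP hy)) d hd
        exact (h4.zpow_left (-i)).symm
    have h3 : d * y ^ (-i) ∈ E := by
      have hdy : d * y ^ (-i) ∈ D := mul_mem hd (zpow_mem hy _)
      apply rank_adj hr hE2 hE3 hEge _ (hDp _ hdy)
      intro a ha
      obtain ⟨z, hz, k, rfl⟩ := hE1 a ha
      have h4 : Commute z (d * y ^ (-i)) := hZc z hz _ hdy
      have h5 : Commute x (d * y ^ (-i)) := commutatorElement_eq_one_iff_mul_comm.1 h2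
      exact (h4.mul_left (h5.zpow_left k)).eq
    have h4 : d ∈ centralizer {g} := by
      obtain ⟨z, hz, k, hk⟩ := hE1 _ h3
      have e : d = z * x ^ k * y ^ i := by
        rw [← hk, mul_assoc, ← zpow_add, neg_add_cancel, zpow_zero, mul_one]
      rw [e]
      exact mul_mem (mul_mem (hgZ z hz) (zpow_mem hgx k)) (zpow_mem hgy i)
    exact Subgroup.mem_centralizer_singleton_iff.1 h4

end H12.ChiefRk
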