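import Mathlib
import Cfsg.Agent.Lib.H2.Gaschutz
import Cfsg.Agent.Lib.H29.Elem

/-! Uniqueness of a central extension by a group of order two with a prescribed restriction to
a Sylow four-subgroup. -/

set_option autoImplicit false

namespace H12.Ext

open Subgroup

section basic

variable {Γ : Type*} [Group Γ] {G : Type*} [Group G] {σ : Γ →* G}

theorem ker_cases (hc : Nat.card σ.ker = 2) : ∃ z : Γ, z ≠ 1 ∧ σ z = 1 ∧ z * z = 1 ∧ (∀ g, g * z = z * g) ∧
    ∀ w, σ w = 1 → w = 1 ∨ w = z := by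
  obtain ⟨a, b, hab, huniv⟩ := Nat.card_eq_two_iff.1 hc
  have hex : ∃ z : σ.ker, z ≠ 1 ∧ ∀ w : σ.ker, w = 1 ∨ w = z := by
    have hall : ∀ x : σ.ker, x = a ∨ x = b := by
      intro x
      have : x ∈ ({a, b} : Set σ.ker) := by rw [huniv]; trivial
      simpa using this
    rcases hall 1 with h | h
    · refine ⟨b, fun hb => hab (h.symm.trans hb.symm), fun w => ?_⟩
      rcases hall w with hw | hw
      · left; rw [hw, h]
      · right; exact hw
    · refine ⟨a, fun hb => hab (hb.trans h), fun w => ?_⟩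
      rcases hall w with hw | hw
      · right; exact hw
      · left; rw [hw, h]
  obtain ⟨z, hz, hall⟩ := hex
  have hall' : ∀ w : Γ, σ w = 1 → w = 1 ∨ w = z := by
    intro w hw
    rcases hall ⟨w, hw⟩ with h | h
    · left; exact congrArg Subtype.val h
    · right; exact congrArg Subtype.val h
  have hz1 : (z : Γ) ≠ 1 := fun h => hz (Subtype.ext h)
  have hσz : σ (z : Γ) = 1 := z.2
  refine ⟨z, hz1, hσz, ?_, ?_, hall'⟩
  · rcases hall' ((z : Γ) * z) (by rw [map_mul, hσz, one_mul]) with h | h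
    · exact h
    · exact absurd (mul_eq_left.1 h) hz1
  · intro g
    rcases hall' (g * z * g⁻¹) (by rw [map_mul, map_mul, hσz, mul_one, map_inv, mul_inv_cancel]) with h | h
    · exfalso
      apply hz1
      calc (z : Γ) = g⁻¹ * (g * z * g⁻¹) * g := by group
        _ = 1 := by rw [h]; group
    · exact mul_inv_eq_iff_eq_mul.1 h

end basic

variable {M S P : Type*} [Group M] [Group S] [Group P] [Finite M] [Finite S]

/-- fibre product -/
def FP (σ : M →* P) (τ : S →* P) : Subgroup (M × S) :=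
  (σ.comp (MonoidHom.fst M S)).eqLocus (τ.comp (MonoidHom.snd M S))

theorem mem_FP {σ : M →* P} {τ : S →* P} {x : M × S} : x ∈ FP σ τ ↔ σ x.1 = τ x.2 := Iff.rfl

theorem uniq (σ : M →* P) (τ : S →* P) (hσ : Function.Surjective σ) (hτ : Function.Surjective τ)
    (kσ : Nat.card σ.ker = 2) (kτ : Nat.card τ.ker = 2) (V : Subgroup P) (hVo : Odd V.index)
    (hV : ∀ v ∈ V, v * v = 1) (hM : ∀ a : M, a * a = 1 → σ a = 1) (hS : ∀ b : S, b * b = 1 → τ b = 1) :
    ∃ e : M ≃* S, ∀ m, τ (e m) = σ m := by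
  have hp2 : Fact (Nat.Prime 2) := ⟨Nat.prime_two⟩
  obtain ⟨z, hz1, hσz, hzz, hzc, hzall⟩ := ker_cases kσ
  obtain ⟨y, hy1, hτy, hyy, hyc, hyall⟩ := ker_cases kτ
  let X := FP σ τ
  let d : X := ⟨(z, y), by rw [mem_FP]; simp [hσz, hτy]⟩
  have hd1 : d ≠ 1 := fun h => hz1 (congrArg (fun x : X => x.1.1) h)
  have hdd : d * d = 1 := Subtype.ext (Prod.ext hzz hyy)
  have hdc : ∀ g : X, g * d = d * g := fun g => Subtype.ext (Prod.ext (hzc _) (hyc _))
  let D : Subgroup X := zpowers d
  have hDn : D.Normal := ⟨fun n hn g => by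
    obtain ⟨i, rfl⟩ := hn
    have h1 : g * (fun x => d ^ x) i * g⁻¹ = d ^ i := by
      have : Commute g (d ^ i) := (show Commute g d from hdc g).zpow_right i
      show g * d ^ i * g⁻¹ = d ^ i
      rw [this.eq]; group
    rw [h1]; exact ⟨i, rfl⟩⟩
  have hDmem : ∀ x : X, x ∈ D → x = 1 ∨ x = d := by
    rintro x ⟨i, rfl⟩
    show d ^ i = 1 ∨ d ^ i = d
    rcases Int.even_or_odd' i with ⟨k, rfl | rfl⟩
    · left; rw [zpow_mul]; show (d ^ (2 : ℤ)) ^ k = 1
      rw [zpow_two, hdd, one_zpow]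
    · right; rw [zpow_add, zpow_mul, zpow_one, zpow_two, hdd, one_zpow, one_mul]
  let q : X →* X ⧸ D := QuotientGroup.mk' D
  have hq : Function.Surjective q := QuotientGroup.mk'_surjective D
  have hqk : ∀ x : X, q x = 1 ↔ x ∈ D := fun x => QuotientGroup.eq_one_iff x
  let ψ : X →* P := (σ.comp (MonoidHom.fst M S)).comp X.subtype
  have hψ : Function.Surjective ψ := by
    intro p
    obtain ⟨a, rfl⟩ := hσ p
    obtain ⟨b, hb⟩ := hτ (σ a)
    exact ⟨⟨(a, b), by rw [mem_FP]; exact hb.symm⟩, rfl⟩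
  have hψe : ∀ x : X, ψ x = σ x.1.1 := fun _ => rfl
  have hψe' : ∀ x : X, ψ x = τ x.1.2 := fun x => x.2
  have hψd : ψ d = 1 := hσz
  let K0 : Subgroup X := ψ.ker
  let K : Subgroup (X ⧸ D) := K0.map q
  have hKn : K.Normal := (MonoidHom.normal_ker ψ).map q hq
  -- squares in the preimage of V
  have hsq : ∀ x : X, ψ x ∈ V → x * x ∈ D := by
    intro x hx
    by_cases h1 : ψ x = 1
    · have h2 : x * x = 1 := by
        apply Subtype.ext
        apply Prod.ext
        · show x.1.1 * x.1.1 = 1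
          rcases hzall x.1.1 h1 with h | h
          · rw [h, one_mul]
          · rw [h, hzz]
        · show x.1.2 * x.1.2 = 1
          rcases hyall x.1.2 (by rw [← hψe', h1]) with h | h
          · rw [h, one_mul]
          · rw [h, hyy]
      rw [h2]; exact one_mem _
    · have h2 : x * x = d := by
        apply Subtype.ext
        apply Prod.ext
        · show x.1.1 * x.1.1 = z
          rcases hzall (x.1.1 * x.1.1) (by rw [map_mul]; exact hV _ hx) with h | h
          · exact absurd (hM _ h) h1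
          · exact h
        · show x.1.2 * x.1.2 = y
          rcases hyall (x.1.2 * x.1.2) (by rw [map_mul, ← hψe']; exact hV _ hx) with h | h
          · exact absurd (hS _ h) (by rw [← hψe']; exact h1)
          · exact h
      rw [h2]; exact mem_zpowers d
  -- the subgroup U
  let U0 : Subgroup X := V.comap ψ
  let U : Subgroup (X ⧸ D) := U0.map q
  have hUe : Cfsg.IsElementaryAbelian 2 U := by
    have h2 : ∀ u : U, u * u = 1 := by
      rintro ⟨_, x, hx, rfl⟩
      apply Subtype.ext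
      show q x * q x = 1
      rw [← map_mul, hqk]
      exact hsq x hx
    refine ⟨⟨⟨fun a b => ?_⟩⟩, fun a ha => by rw [pow_two]; exact congrArg Subtype.val (h2 ⟨a, ha⟩)⟩
    have h3 := h2 (a * b)
    have ha : a⁻¹ = a := inv_eq_of_mul_eq_one_left (h2 a)
    have hb : b⁻¹ = b := inv_eq_of_mul_eq_one_left (h2 b)
    have hab : (a * b)⁻¹ = a * b := inv_eq_of_mul_eq_one_left h3
    rw [← hab, mul_inv_rev, ha, hb]
  have hKU : K ≤ U := Subgroup.map_mono (by
    intro x hx
    show ψ x ∈ V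
    rw [MonoidHom.mem_ker.1 hx]; exact one_mem _)
  have hUi : U.index = V.index := by
    have h1 : U0.index = V.index := Subgroup.index_comap_of_surjective V hψ
    rw [← h1]
    apply Subgroup.index_map_eq _ hq
    intro x hx
    rw [MonoidHom.mem_ker, hqk] at hx
    show ψ x ∈ V
    rcases hDmem x hx with rfl | rfl
    · rw [map_one]; exact one_mem _
    · rw [hψd]; exact one_mem _
  obtain ⟨A, hAU, hKA, hKAU⟩ := H29.Elem.exists_compl hUe hKU
  have hKp : IsPGroup 2 K := (H29.Elem.isPGroup hUe).to_le hKU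
  have hKab : IsMulCommutative K := ⟨⟨fun a b => Subtype.ext (H29.Elem.comm hUe (hKU a.2) (hKU b.2))⟩⟩
  obtain ⟨H, hH⟩ := H2.Gaschutz.exists_complement K U (by
    have h1 : Nat.Coprime 2 U.index := by rw [hUi]; exact Nat.coprime_two_left.2 hVo
    obtain ⟨n, hn⟩ := IsPGroup.iff_card.1 hKp
    rw [hn]
    exact Nat.Coprime.pow_left n h1) A hAU (by rw [inf_comm]; exact hKA) hKAU
  -- the subgroup Y
  let Y : Subgroup X := H.comap q
  have hYK : ∀ x : X, x ∈ Y → ψ x = 1 → x = 1 ∨ x = d := by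
    intro x hx h1
    apply hDmem
    rw [← hqk]
    have h2 : q x ∈ K ⊓ H := ⟨⟨x, h1, rfl⟩, hx⟩
    rw [hH.disjoint.eq_bot] at h2
    exact h2
  have hYsurj : ∀ p : P, ∃ x : X, x ∈ Y ∧ ψ x = p := by
    intro p
    obtain ⟨x, rfl⟩ := hψ p
    obtain ⟨⟨k, h⟩, hkh⟩ := hH.2 (q x)
    have hkh' : (k : X ⧸ D) * h = q x := hkh
    obtain ⟨k0, hk0, hk⟩ := k.2
    refine ⟨k0⁻¹ * x, ?_, ?_⟩
    · show q (k0⁻¹ * x) ∈ H
      rw [map_mul, map_inv, hk, ← hkh', inv_mul_cancel_left]
      exact h.2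
    · rw [map_mul, map_inv, MonoidHom.mem_ker.1 hk0, inv_one, one_mul]
  have hdY : d ∈ Y := by
    show q d ∈ H
    rw [(hqk d).2 (mem_zpowers d)]; exact one_mem _
  let f1 : Y →* M := ((MonoidHom.fst M S).comp X.subtype).comp Y.subtype
  let f2 : Y →* S := ((MonoidHom.snd M S).comp X.subtype).comp Y.subtype
  have hf1 : Function.Bijective f1 := by
    constructor
    · rw [injective_iff_map_eq_one]
      intro x hx
      have hx' : x.1.1.1 = 1 := hx
      rcases hYK x.1 x.2 (by rw [hψe, hx', map_one]) with h | h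
      · exact Subtype.ext h
      · exfalso
        apply hz1
        rw [h] at hx'
        exact hx'
    · intro m
      obtain ⟨x, hxY, hx⟩ := hYsurj (σ m)
      rcases hzall (x.1.1⁻¹ * m) (by rw [map_mul, map_inv, ← hψe, hx, inv_mul_cancel]) with h | h
      · exact ⟨⟨x, hxY⟩, (inv_mul_eq_one.1 h)⟩
      · refine ⟨⟨x * d, mul_mem hxY hdY⟩, ?_⟩
        show x.1.1 * z = m
        rw [← h, mul_inv_cancel_left]
  have hf2 : Function.Bijective f2 := by
    constructor
    · rw [injective_iff_map_eq_one]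
      intro x hx
      have hx' : x.1.1.2 = 1 := hx
      rcases hYK x.1 x.2 (by rw [hψe', hx', map_one]) with h | h
      · exact Subtype.ext h
      · exfalso
        apply hy1
        rw [h] at hx'
        exact hx'
    · intro m
      obtain ⟨x, hxY, hx⟩ := hYsurj (τ m)
      rcases hyall (x.1.2⁻¹ * m) (by rw [map_mul, map_inv, ← hψe', hx, inv_mul_cancel]) with h | h
      · exact ⟨⟨x, hxY⟩, (inv_mul_eq_one.1 h)⟩
      · refine ⟨⟨x * d, mul_mem hxY hdY⟩, ?_⟩
        show x.1.2 * y = m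
        rw [← h, mul_inv_cancel_left]
  let e1 : Y ≃* M := MulEquiv.ofBijective f1 hf1
  let e2 : Y ≃* S := MulEquiv.ofBijective f2 hf2
  refine ⟨e1.symm.trans e2, fun m => ?_⟩
  obtain ⟨x, rfl⟩ := e1.surjective m
  rw [MulEquiv.trans_apply, MulEquiv.symm_apply_apply]
  exact (x.1.2).symm

end H12.Ext
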