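import Mathlib
import Cfsg.Agent.Lib.H3.RankTwo
import Cfsg.Agent.Lib.H66.PIndex

/-! Fixed points of elements of an irreducible `p`-group of automorphisms, `p` odd. -/

set_option autoImplicit false

open Subgroup

namespace H12.FixBound

variable {V : Type*} [CommGroup V]

/-- the fixed points of an automorphism -/
def fixS (c : MulAut V) : Subgroup V := MonoidHom.eqLocus (c : V →* V) (MonoidHom.id V)

theorem mem_fixS {c : MulAut V} {v : V} : v ∈ fixS c ↔ c v = v := Iff.rfl

/-- the norm of a cyclic group of automorphisms -/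
theorem norm_fixed {y : MulAut V} {p : ℕ} (hy : y ^ p = 1) (v : V) :
    y (∏ i ∈ Finset.range p, (y ^ i) v) = ∏ i ∈ Finset.range p, (y ^ i) v := by
  rw [map_prod]
  have h1 : ∀ i, y ((y ^ i) v) = (y ^ (i + 1)) v := by
    intro i
    rw [pow_succ', MulAut.mul_apply]
  simp only [h1]
  have h2 := Finset.prod_range_succ (fun i => (y ^ i) v) p
  have h3 := Finset.prod_range_succ' (fun i => (y ^ i) v) p
  rw [h2] at h3
  simp only [hy, pow_zero, MulAut.one_apply] at h3
  exact (mul_right_cancel h3).symm

theorem pow_fixed {y : MulAut V} {v : V} (h : y v = v) (k : ℕ) : (y ^ k) v = v := by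
  induction k with
  | zero => rfl
  | succ k ih => rw [pow_succ, MulAut.mul_apply, h, ih]

theorem inv_fixed {y : MulAut V} {v : V} (h : y v = v) : (y⁻¹) v = v := by
  have : (y⁻¹) (y v) = v := y.symm_apply_apply v
  rwa [h] at this

theorem fixed_of_pow {y : MulAut V} {p : ℕ} (hp : p.Prime) (hy : y ^ p = 1) {v : V} {k : ℕ}
    (hk : ¬ p ∣ k) (h : (y ^ k) v = v) : y v = v := by
  have hcop : k.Coprime p := ((Nat.Prime.coprime_iff_not_dvd hp).2 hk).symm
  obtain ⟨m, -, hm⟩ := Nat.exists_mul_mod_eq_one_of_coprime hcop hp.one_lt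
  have h1 : y ^ (k * m) = y := by
    have h2 : y ^ (k * m) = y ^ 1 := by
      rw [pow_eq_pow_iff_modEq]
      have h3 : k * m ≡ 1 [MOD p] := by
        rw [Nat.ModEq, hm, Nat.mod_eq_of_lt hp.one_lt]
      exact h3.of_dvd (orderOf_dvd_of_pow_eq_one hy)
    rwa [pow_one] at h2
  rw [← h1, pow_mul]
  exact pow_fixed h m

variable {p : ℕ}

/-- the product formula -/
theorem prod_formula (hp : p.Prime) {a z : MulAut V} (hz : z ^ p = 1)
    (hfix : ∀ v, z v = v → v = 1) (v : V) :
    ∏ i ∈ Finset.range p, ∏ k ∈ Finset.range p, (a ^ k * z ^ (i * k)) v = v ^ p := by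
  rw [Finset.prod_comm]
  rw [← Finset.prod_erase_mul (Finset.range p) _ (Finset.mem_range.2 hp.pos)]
  have h1 : ∀ k ∈ (Finset.range p).erase 0, ∏ i ∈ Finset.range p, (a ^ k * z ^ (i * k)) v = 1 := by
    intro k hk
    rw [Finset.mem_erase, Finset.mem_range] at hk
    have h2 : ∀ i, (a ^ k * z ^ (i * k)) v = (a ^ k) (((z ^ k) ^ i) v) := by
      intro i
      rw [MulAut.mul_apply, ← pow_mul, mul_comm i k]
    simp only [h2]
    rw [← map_prod]
    have h3 : ∏ i ∈ Finset.range p, ((z ^ k) ^ i) v = 1 := by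
      apply hfix
      apply fixed_of_pow hp hz (k := k) (fun hd => by
        have := Nat.le_of_dvd (Nat.pos_of_ne_zero hk.1) hd
        omega)
      exact norm_fixed (by rw [← pow_mul, mul_comm, pow_mul, hz, one_pow]) v
    rw [h3, map_one]
  rw [Finset.prod_eq_one h1, one_mul]
  simp

variable [Finite V]

theorem eq_one_of_pow (hV : (Nat.card V).Coprime p) {v : V} (h : v ^ p = 1) : v = 1 := by
  have h1 : orderOf v ∣ p := orderOf_dvd_of_pow_eq_one h
  have h2 : orderOf v ∣ Nat.card V := orderOf_dvd_natCard v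
  exact orderOf_eq_one_iff.1 (Nat.eq_one_of_dvd_coprimes hV h2 h1)

theorem card_fix_pow_le (hp : p.Prime) (hV : (Nat.card V).Coprime p) {a z c : MulAut V}
    (ha : a ^ p = 1) (hz : z ^ p = 1) (haz : a * z = z * a) (hfix : ∀ v, z v = v → v = 1)
    (hcz : c * z = z * c) (hca : c * a = a * z * c) : Nat.card (fixS c) ^ p ≤ Nat.card V := by
  classical
  have hcomm : Commute a z := haz
  let E : ℕ → V →* V := fun i =>
    { toFun := fun v => ∏ k ∈ Finset.range p, (a ^ k * z ^ (i * k)) v
      map_one' := by simp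
      map_mul' := fun v w => by
        rw [← Finset.prod_mul_distrib]
        exact Finset.prod_congr rfl fun k _ => map_mul _ _ _ }
  have hE : ∀ i v, E i v = ∏ k ∈ Finset.range p, (a ^ k * z ^ (i * k)) v := fun i v => rfl
  have hE' : ∀ i v, E i v = ∏ k ∈ Finset.range p, ((a * z ^ i) ^ k) v := by
    intro i v
    rw [hE]
    refine Finset.prod_congr rfl fun k _ => ?_
    rw [(hcomm.pow_right i).mul_pow, ← pow_mul]
  have hyp : ∀ i, (a * z ^ i) ^ p = 1 := by
    intro i
    rw [(hcomm.pow_right i).mul_pow, ha, ← pow_mul, mul_comm, pow_mul, hz, one_pow, one_mul]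
  have hEfix : ∀ i v, (a * z ^ i) (E i v) = E i v := by
    intro i v
    rw [hE']
    exact norm_fixed (hyp i) v
  -- the action of c
  have hcE : ∀ i v, c (E i v) = E (i + 1) (c v) := by
    intro i v
    rw [hE, hE, map_prod]
    refine Finset.prod_congr rfl fun k _ => ?_
    have h1 : c * (a ^ k * z ^ (i * k)) = (a ^ k * z ^ ((i + 1) * k)) * c := by
      have h2 : c * a ^ k = (a * z) ^ k * c := by
        have h3 : SemiconjBy c a (a * z) := hca
        exact (h3.pow_right k)
      have h3 : c * z ^ (i * k) = z ^ (i * k) * c := (show Commute c z from hcz).pow_right _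
      rw [← mul_assoc, h2, mul_assoc, h3, hcomm.mul_pow, add_mul, one_mul, ← mul_assoc, mul_assoc (a ^ k),
        ← pow_add, add_comm k]
    rw [← MulAut.mul_apply, h1, MulAut.mul_apply]
  have hprod : ∀ v, ∏ i ∈ Finset.range p, E i v = v ^ p := fun v => prod_formula hp hz hfix v
  -- (i)
  have h1 : Nat.card (fixS c) ≤ Nat.card (fixS a) := by
    let f : fixS c → fixS a := fun v => ⟨E 0 v, by
      rw [mem_fixS]
      have := hEfix 0 (v : V)
      rwa [pow_zero, mul_one] at this⟩
    apply Nat.card_le_card_of_injective f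
    intro v w hvw
    have h2 : E 0 ((v : V) * (w : V)⁻¹) = 1 := by
      have h3 : E 0 (v : V) = E 0 (w : V) := congrArg Subtype.val hvw
      rw [map_mul, map_inv, h3, mul_inv_cancel]
    have hu : (v : V) * (w : V)⁻¹ ∈ fixS c := mul_mem v.2 (inv_mem w.2)
    rw [mem_fixS] at hu
    have h3 : ∀ i, E i ((v : V) * (w : V)⁻¹) = 1 := by
      intro i
      induction i with
      | zero => exact h2
      | succ i ih =>
        have h4 := hcE i ((v : V) * (w : V)⁻¹)
        rw [ih, map_one, hu] at h4
        exact h4.symm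
    have h4 := hprod ((v : V) * (w : V)⁻¹)
    simp only [h3, Finset.prod_const_one] at h4
    have h5 := eq_one_of_pow hV h4.symm
    exact Subtype.ext (mul_inv_eq_one.1 h5)
  -- (ii)
  have h2 : Nat.card (fixS a) ^ p ≤ Nat.card V := by
    have hyc : ∀ i, (a * z ^ i) * c ^ i = c ^ i * a := by
      intro i
      induction i with
      | zero => simp
      | succ i ih =>
        have h3 : c * z ^ i = z ^ i * c := (show Commute c z from hcz).pow_right _
        rw [pow_succ' c i, mul_assoc c, ← ih, ← mul_assoc c, ← mul_assoc c, hca]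
        rw [pow_succ z i]
        simp only [mul_assoc]
        rw [← mul_assoc (z ^ i) z, ← pow_succ, ← mul_assoc c (z ^ i), h3, pow_succ' z i]
        simp only [mul_assoc]
    have hfx : ∀ i (w : fixS a), (a * z ^ i) ((c ^ i) (w : V)) = (c ^ i) (w : V) := by
      intro i w
      have hw : a (w : V) = w := w.2
      rw [← MulAut.mul_apply, hyc, MulAut.mul_apply, hw]
    let Φ : (Fin p → fixS a) → V := fun w => ∏ i : Fin p, (c ^ (i : ℕ)) (w i : V)
    have hEi : ∀ (j : Fin p) (w : fixS a), E j ((c ^ (j : ℕ)) (w : V)) = ((c ^ (j : ℕ)) (w : V)) ^ p := by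
      intro j w
      rw [hE']
      rw [Finset.prod_congr rfl (fun k _ => pow_fixed (hfx j w) k)]
      simp
    have hEij : ∀ (i j : Fin p) (w : fixS a), i ≠ j → E j ((c ^ (i : ℕ)) (w : V)) = 1 := by
      intro i j w hij
      obtain ⟨u, hu⟩ : ∃ u, u = (c ^ (i : ℕ)) (w : V) := ⟨_, rfl⟩
      have hui := hfx i w
      rw [← hu] at hui ⊢
      have h3 := hEfix j u
      have h4 : (a * z ^ (i : ℕ)) (E j u) = E j u := by
        rw [hE, map_prod]
        refine Finset.prod_congr rfl fun k _ => ?_
        have h5 : (a * z ^ (i : ℕ)) * (a ^ k * z ^ ((j : ℕ) * k)) = (a ^ k * z ^ ((j : ℕ) * k)) * (a * z ^ (i : ℕ)) := by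
          have h6 : Commute (a * z ^ (i : ℕ)) (a ^ k * z ^ ((j : ℕ) * k)) := by
            apply Commute.mul_left
            · exact Commute.mul_right (Commute.self_pow a k) (hcomm.pow_right _)
            · exact Commute.mul_right ((hcomm.symm.pow_left _).pow_right _) ((Commute.refl z).pow_pow _ _)
          exact h6
        rw [← MulAut.mul_apply, h5, MulAut.mul_apply, hui]
      -- fixed by z ^ (i - j)
      obtain ⟨e, he⟩ : ∃ e, e = E j u := ⟨_, rfl⟩
      rw [← he] at h3 h4 ⊢
      apply hfix
      have h5 : (z ^ (i : ℕ)) e = (z ^ (j : ℕ)) e := by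
        rw [MulAut.mul_apply] at h3 h4
        exact a.injective (h4.trans h3.symm)
      rcases lt_or_gt_of_ne (fun h => hij (Fin.ext h) : (i : ℕ) ≠ j) with h6 | h6
      · apply fixed_of_pow hp hz (k := (j : ℕ) - i) (fun hd => by
          have := Nat.le_of_dvd (by omega) hd
          have := j.2
          omega)
        have h7 : z ^ (j : ℕ) = z ^ (i : ℕ) * z ^ ((j : ℕ) - i) := by
          rw [← pow_add]; congr 1; omega
        rw [h7, MulAut.mul_apply] at h5
        exact ((z ^ (i : ℕ)).injective h5).symm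
      · apply fixed_of_pow hp hz (k := (i : ℕ) - j) (fun hd => by
          have := Nat.le_of_dvd (by omega) hd
          have := i.2
          omega)
        have h7 : z ^ (i : ℕ) = z ^ (j : ℕ) * z ^ ((i : ℕ) - j) := by
          rw [← pow_add]; congr 1; omega
        rw [h7, MulAut.mul_apply] at h5
        exact (z ^ (j : ℕ)).injective h5
    have hEΦ : ∀ (j : Fin p) (w : Fin p → fixS a), E j (Φ w) = ((c ^ (j : ℕ)) (w j : V)) ^ p := by
      intro j w
      change E j (∏ i : Fin p, (c ^ (i : ℕ)) (w i : V)) = _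
      rw [map_prod, Finset.prod_eq_single j]
      · exact hEi j (w j)
      · intro i _ hij
        exact hEij i j (w i) hij
      · simp
    have hinj : Function.Injective Φ := by
      intro w w' h
      funext j
      have h3 := hEΦ j w
      rw [h, hEΦ j w'] at h3
      have h4 : ((c ^ (j : ℕ)) (w j : V) * ((c ^ (j : ℕ)) (w' j : V))⁻¹) ^ p = 1 := by
        rw [mul_pow, inv_pow, h3, mul_inv_cancel]
      have h5 := mul_inv_eq_one.1 (eq_one_of_pow hV h4)
      exact Subtype.ext ((c ^ (j : ℕ)).injective h5)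
    have h3 := Nat.card_le_card_of_injective Φ hinj
    rwa [Nat.card_fun, Nat.card_fin] at h3
  exact (Nat.pow_le_pow_left h1 p).trans h2

theorem central_fpf {Γ : Subgroup (MulAut V)}
    (hirr : ∀ W : Subgroup V, (∀ g ∈ Γ, ∀ w ∈ W, g w ∈ W) → W = ⊥ ∨ W = ⊤) {x : MulAut V}
    (hxc : ∀ g ∈ Γ, g * x = x * g) (hx1 : x ≠ 1) : ∀ v, x v = v → v = 1 := by
  intro v hv
  rcases hirr (fixS x) (by
    intro g hg w hw
    rw [mem_fixS] at hw ⊢
    rw [← MulAut.mul_apply, ← hxc g hg, MulAut.mul_apply, hw]) with h | h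
  · have h1 : v ∈ fixS x := hv
    rw [h, mem_bot] at h1
    exact h1
  · exfalso
    apply hx1
    ext w
    have : w ∈ fixS x := by rw [h]; trivial
    exact this

theorem exists_small [hp : Fact p.Prime] (hp2 : p ≠ 2) (hV : (Nat.card V).Coprime p)
    (Γ : Subgroup (MulAut V)) (hΓ : IsPGroup p Γ)
    (hirr : ∀ W : Subgroup V, (∀ g ∈ Γ, ∀ w ∈ W, g w ∈ W) → W = ⊥ ∨ W = ⊤) (hne : Γ ≠ ⊥)
    (C : Set (MulAut V)) (hC : closure C = Γ) :
    ∃ c ∈ C, Nat.card (fixS c) ^ p ≤ Nat.card V := by
  have hCΓ : C ⊆ Γ := by rw [← hC]; exact subset_closure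
  by_cases hcyc : IsCyclic Γ
  · obtain ⟨c, hc, hc1⟩ : ∃ c ∈ C, c ≠ 1 := by
      by_contra hcon
      push Not at hcon
      apply hne
      rw [← hC, closure_eq_bot_iff]
      intro c hc
      exact hcon c hc
    refine ⟨c, hc, ?_⟩
    have h1 : fixS c = ⊥ := by
      rw [eq_bot_iff]
      intro v hv
      rw [mem_bot]
      refine central_fpf hirr (x := c) (fun g hg => ?_) hc1 v hv
      let _ : CommGroup Γ := IsCyclic.commGroup
      have h2 : (⟨g, hg⟩ : Γ) * ⟨c, hCΓ hc⟩ = ⟨c, hCΓ hc⟩ * ⟨g, hg⟩ := mul_comm _ _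
      exact congrArg Subtype.val h2
    rw [h1, card_bot, one_pow]
    exact Nat.card_pos
  · obtain ⟨A, hAn, hAe, hAc⟩ := H3.RankTwo.exists_normal_rank_two hp2 hΓ hcyc
    have hAcomm : ∀ x ∈ A, ∀ y ∈ A, x * y = y * x := fun x hx y hy =>
      congrArg Subtype.val (hAe.1.is_comm.comm (⟨x, hx⟩ : A) ⟨y, hy⟩)
    by_cases hcen : A ≤ center Γ
    · -- contradiction
      exfalso
      have hcf : ∀ x ∈ A, x ≠ 1 → ∀ v, (x : MulAut V) v = v → v = 1 := by
        intro x hx hx1
        apply central_fpf hirr
        · intro g hg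
          exact congrArg Subtype.val (mem_center_iff.1 (hcen hx) ⟨g, hg⟩)
        · intro h
          exact hx1 (Subtype.ext h)
      obtain ⟨z, hz, hz1⟩ : ∃ z ∈ A, z ≠ 1 := by
        by_contra hcon
        push Not at hcon
        have h1 : A = ⊥ := by rw [eq_bot_iff]; exact fun x hx => mem_bot.2 (hcon x hx)
        rw [h1, card_bot] at hAc
        have := hp.out.one_lt
        nlinarith
      obtain ⟨a, ha, haz⟩ : ∃ a ∈ A, a ∉ zpowers z := by
        by_contra hcon
        push Not at hcon
        have h1 : Nat.card A ≤ Nat.card (zpowers z) :=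
          Nat.le_of_dvd Nat.card_pos (card_dvd_of_le hcon)
        rw [hAc, Nat.card_zpowers, orderOf_eq_prime (hAe.2 z hz) hz1] at h1
        have := hp.out.one_lt
        nlinarith
      apply hne
      have hone : ∀ v : V, v = 1 := by
        intro v
        apply eq_one_of_pow hV
        have haz' : Commute (a : MulAut V) (z : MulAut V) := congrArg Subtype.val (hAcomm a ha z hz)
        have hzp : (z : MulAut V) ^ p = 1 := congrArg Subtype.val (hAe.2 z hz)
        have hap : (a : MulAut V) ^ p = 1 := congrArg Subtype.val (hAe.2 a ha)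
        rw [← prod_formula (a := (a : MulAut V)) hp.out hzp (hcf z hz hz1)]
        apply Finset.prod_eq_one
        intro i _
        have h1 : ∏ k ∈ Finset.range p, ((a : MulAut V) ^ k * (z : MulAut V) ^ (i * k)) v =
            ∏ k ∈ Finset.range p, (((a : MulAut V) * (z : MulAut V) ^ i) ^ k) v := by
          refine Finset.prod_congr rfl fun k _ => ?_
          rw [(haz'.pow_right i).mul_pow, ← pow_mul]
        rw [h1]
        apply hcf (a * z ^ i) (mul_mem ha (pow_mem hz i))
        · intro h
          apply haz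
          rw [mul_eq_one_iff_eq_inv.1 h]
          exact inv_mem (pow_mem (mem_zpowers z) i)
        · apply norm_fixed
          exact congrArg Subtype.val (hAe.2 _ (mul_mem ha (pow_mem hz i)))
      rw [eq_bot_iff]
      intro g _
      rw [mem_bot]
      ext v
      rw [hone (g v), hone ((1 : MulAut V) v)]
    · -- c outside the centralizer of A
      obtain ⟨c, hc, hcA⟩ : ∃ c ∈ C, ∃ a ∈ A, c * (a : MulAut V) ≠ a * c := by
        by_contra hcon
        push Not at hcon
        apply hcen
        intro a ha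
        rw [mem_center_iff]
        intro g
        have h1 : ∀ g ∈ Γ, g * (a : MulAut V) = a * g := by
          intro g hg
          rw [← hC] at hg
          induction hg using Subgroup.closure_induction with
          | mem x hx => exact hcon x hx a ha
          | one => rw [one_mul, mul_one]
          | mul x y _ _ hx hy => rw [mul_assoc, hy, ← mul_assoc, hx, mul_assoc]
          | inv x _ hx => rw [inv_mul_eq_iff_eq_mul, ← mul_assoc, hx, mul_inv_cancel_right]
        exact Subtype.ext (h1 g g.2)
      obtain ⟨a, ha, hca⟩ := hcA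
      refine ⟨c, hc, ?_⟩
      let c' : Γ := ⟨c, hCΓ hc⟩
      have hz : c' * a * c'⁻¹ * a⁻¹ ∈ A := mul_mem (hAn.conj_mem a ha c') (inv_mem ha)
      have hzc : ⁅A, (⊤ : Subgroup Γ)⁆ ≤ center Γ := by
        have hAb : A ≠ ⊥ := by
          rintro rfl
          exact hcen bot_le
        have hlt := @H3.PBasic.commutator_top_lt Γ _ hΓ.isNilpotent A hAn hAb
        have h1 : Nat.card ↥(⁅A, (⊤ : Subgroup Γ)⁆) ∣ p ^ 2 := by
          rw [← hAc]; exact card_dvd_of_le hlt.le
        obtain ⟨j, hj, hjc⟩ := (Nat.dvd_prime_pow hp.out).1 h1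
        have hj2 : j ≠ 2 := by
          rintro rfl
          apply hlt.ne
          apply Subgroup.eq_of_le_of_card_ge hlt.le
          rw [hjc, hAc]
        have hj3 : j = 0 ∨ j = 1 := by omega
        rcases hj3 with rfl | rfl
        · rw [pow_zero, card_eq_one] at hjc
          rw [hjc]; exact bot_le
        · rw [pow_one] at hjc
          exact H66.PIndex.le_center_of_card hΓ _ hjc
      have hz' : c' * a * c'⁻¹ * a⁻¹ ∈ center Γ := by
        apply hzc
        rw [Subgroup.commutator_comm]
        exact Subgroup.commutator_mem_commutator (mem_top c') ha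
      obtain ⟨z, hzdef⟩ : ∃ z, z = c' * a * c'⁻¹ * a⁻¹ := ⟨_, rfl⟩
      rw [← hzdef] at hz hz'
      have hz1 : z ≠ 1 := by
        intro h
        rw [h] at hzdef
        apply hca
        have h2 : c' * a = a * c' := by
          have h3 : c' * a * c'⁻¹ = a := (mul_inv_eq_one.1 hzdef.symm)
          exact mul_inv_eq_iff_eq_mul.1 h3
        exact congrArg Subtype.val h2
      have hcaz : c' * a = a * z * c' := by
        rw [hAcomm a ha z hz, hzdef]; group
      apply card_fix_pow_le (a := (a : MulAut V)) (z := (z : MulAut V)) hp.out hV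
      · exact congrArg Subtype.val (hAe.2 a ha)
      · exact congrArg Subtype.val (hAe.2 z hz)
      · exact congrArg Subtype.val (hAcomm a ha z hz)
      · apply central_fpf hirr
        · intro g hg
          exact congrArg Subtype.val (mem_center_iff.1 hz' ⟨g, hg⟩)
        · intro h
          exact hz1 (Subtype.ext h)
      · exact congrArg Subtype.val (mem_center_iff.1 hz' c')
      · exact congrArg Subtype.val hcaz

end H12.FixBound
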