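import Cfsg.Agent.Lib.H63.FrobeniusFix

/-! Variant of the fixed point lemma for Frobenius type actions: norms under `x` vanish. -/

set_option autoImplicit false

namespace H12.FrobNorm

open Finset

section additive

variable {F M : Type*} [Group F] [AddCommGroup M] [DistribMulAction F M]

theorem card_smul_eq_zero (Q : Subgroup F) [Finite Q] (x : F) (r : ℕ) (hr : 0 < r) (hxr : x ^ r = 1)
    (hnorm : ∀ w ∈ Q, x * w * x⁻¹ ∈ Q)
    (h1 : ∀ v : M, (∀ w ∈ Q, w • v = v) → v = 0)
    (h2 : ∀ v : M, ∑ i ∈ range r, x ^ i • v = 0)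
    (h3 : ∀ i, 0 < i → i < r → ∀ w ∈ Q, x ^ i * w = w * x ^ i → w = 1) (v : M) :
    Nat.card Q • v = 0 := by
  have : Fintype Q := Fintype.ofFinite Q
  have hn1 : ∀ i : ℕ, ∀ w ∈ Q, x ^ i * w * (x ^ i)⁻¹ ∈ Q := by
    intro i
    induction i with
    | zero => intro w hw; simpa using hw
    | succ i ih =>
      intro w hw
      have := hnorm _ (ih w hw)
      have e : x ^ (i + 1) * w * (x ^ (i + 1))⁻¹ = x * (x ^ i * w * (x ^ i)⁻¹) * x⁻¹ := by
        rw [pow_succ']
        group
      rw [e]
      exact this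
  have hn2 : ∀ i : ℕ, i ≤ r → ∀ w ∈ Q, (x ^ i)⁻¹ * w * x ^ i ∈ Q := by
    intro i hi w hw
    have := hn1 (r - i) w hw
    have e : x ^ (r - i) = (x ^ i)⁻¹ := by
      rw [eq_inv_iff_mul_eq_one, ← pow_add, Nat.sub_add_cancel hi, hxr]
    rw [e, inv_inv] at this
    exact this
  have hC : ∀ i, 0 < i → i < r → ∑ g : Q, ((g : F) * x ^ i * (g : F)⁻¹) • v = 0 := by
    intro i hi hir
    let θ : Q → Q := fun g => ⟨(x ^ i)⁻¹ * g * x ^ i * (g : F)⁻¹,
      Q.mul_mem (hn2 i hir.le g g.2) (Q.inv_mem g.2)⟩
    have hθ : Function.Injective θ := by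
      intro g h hgh
      have e : (x ^ i)⁻¹ * (g : F) * x ^ i * (g : F)⁻¹ = (x ^ i)⁻¹ * (h : F) * x ^ i * (h : F)⁻¹ :=
        congrArg Subtype.val hgh
      have e2 : (g : F) * x ^ i * (g : F)⁻¹ = (h : F) * x ^ i * (h : F)⁻¹ := by
        rw [mul_assoc, mul_assoc, mul_assoc, mul_assoc] at e
        have := mul_left_cancel e
        rw [mul_assoc, mul_assoc]
        exact this
      have e3 : x ^ i * ((h : F)⁻¹ * g) = ((h : F)⁻¹ * g) * x ^ i := by
        have := congrArg (fun y => (h : F)⁻¹ * y * (g : F)) e2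
        simp only [mul_assoc, inv_mul_cancel, mul_one, inv_mul_cancel_left] at this
        rw [mul_assoc]
        exact this.symm
      have e4 := h3 i hi hir _ (Q.mul_mem (Q.inv_mem h.2) g.2) e3
      apply Subtype.ext
      exact (inv_mul_eq_one.mp e4).symm
    have hbij : Function.Bijective θ := Finite.injective_iff_bijective.mp hθ
    have e : ∀ g : Q, ((g : F) * x ^ i * (g : F)⁻¹) • v = x ^ i • ((θ g : F) • v) := by
      intro g
      rw [← mul_smul]
      congr 1
      show (g : F) * x ^ i * (g : F)⁻¹ = x ^ i * ((x ^ i)⁻¹ * g * x ^ i * (g : F)⁻¹)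
      group
    simp_rw [e]
    rw [← smul_sum]
    have : ∑ g : Q, (θ g : F) • v = ∑ w : Q, (w : F) • v :=
      Fintype.sum_equiv (Equiv.ofBijective θ hbij) _ _ (fun g => rfl)
    rw [this, H63.FrobeniusFix.sum_smul_eq_zero Q h1, smul_zero]
  have hD : ∑ g : Q, ∑ i ∈ range r, ((g : F) * x ^ i * (g : F)⁻¹) • v = 0 := by
    apply sum_eq_zero
    intro g _
    have : ∀ i, ((g : F) * x ^ i * (g : F)⁻¹) • v = (g : F) • (x ^ i • ((g : F)⁻¹ • v)) := by
      intro i
      rw [mul_smul, mul_smul]
    simp_rw [this]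
    rw [← smul_sum, h2, smul_zero]
  rw [sum_comm] at hD
  obtain ⟨s, rfl⟩ : ∃ s, r = s + 1 := ⟨r - 1, by omega⟩
  rw [sum_range_succ'] at hD
  have hE : ∑ i ∈ range s, ∑ g : Q, ((g : F) * x ^ (i + 1) * (g : F)⁻¹) • v = 0 := by
    apply sum_eq_zero
    intro i hi
    exact hC (i + 1) (Nat.succ_pos i) (by have := mem_range.mp hi; omega)
  rw [hE, zero_add] at hD
  simpa using hD

end additive

/-- Group-theoretic form. `V` is an abelian subgroup of `G` normalized by `Q` and `x`. -/
theorem pow_card_eq_one {G : Type*} [Group G] (V Q : Subgroup G) [Finite Q] (x : G) (r : ℕ) (hr : 0 < r)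
    (hxr : x ^ r = 1) (hVc : ∀ a ∈ V, ∀ b ∈ V, a * b = b * a)
    (hQV : Q ≤ Subgroup.normalizer (V : Set G)) (hxV : x ∈ Subgroup.normalizer (V : Set G))
    (hxQ : ∀ w ∈ Q, x * w * x⁻¹ ∈ Q)
    (h1 : ∀ v ∈ V, (∀ w ∈ Q, w * v = v * w) → v = 1)
    (h2 : ∀ v ∈ V, (v * x) ^ r = 1)
    (h3 : ∀ i, 0 < i → i < r → ∀ w ∈ Q, x ^ i * w = w * x ^ i → w = 1) :
    ∀ v ∈ V, v ^ Nat.card Q = 1 := by
  let F := ↥(Subgroup.normalizer (V : Set G))
  let _ : CommGroup V := { (inferInstance : Group V) with
    mul_comm := fun a b => Subtype.ext (hVc a a.2 b b.2) }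
  let act : DistribMulAction F (Additive V) :=
    { smul := fun f v => Additive.ofMul (V.normalizerMonoidHom f (Additive.toMul v))
      one_smul := fun v => by
        show Additive.ofMul (V.normalizerMonoidHom 1 (Additive.toMul v)) = v
        rw [map_one]; rfl
      mul_smul := fun f g v => by
        show Additive.ofMul (V.normalizerMonoidHom (f * g) (Additive.toMul v)) = _
        rw [map_mul]; rfl
      smul_zero := fun f => by
        show Additive.ofMul (V.normalizerMonoidHom f 1) = 0
        rw [map_one]; rfl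
      smul_add := fun f v w => by
        show Additive.ofMul (V.normalizerMonoidHom f (Additive.toMul v * Additive.toMul w)) = _
        rw [map_mul]; rfl }
  have hact : ∀ (f : F) (v : V),
      ((Additive.toMul (f • (Additive.ofMul v : Additive V)) : V) : G) = f * v * (f : G)⁻¹ := by
    intro f v
    rfl
  let Q' : Subgroup F := Q.subgroupOf (Subgroup.normalizer (V : Set G))
  have hQQ' : Nat.card Q' = Nat.card Q := Nat.card_congr (Subgroup.subgroupOfEquivOfLe hQV).toEquiv
  have : Finite Q' := Nat.finite_of_card_ne_zero (by rw [hQQ']; exact Nat.card_pos.ne')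
  let x' : F := ⟨x, hxV⟩
  have hnormx : ∀ (v : V) (k : ℕ),
      ((Additive.toMul (∑ i ∈ range k, x' ^ i • (Additive.ofMul v : Additive V)) : V) : G) * x ^ k =
        ((v : G) * x) ^ k := by
    intro v k
    induction k with
    | zero =>
      rw [range_zero, sum_empty, pow_zero, pow_zero, mul_one]
      rfl
    | succ k ih =>
      rw [sum_range_succ, pow_succ ((v : G) * x), ← ih]
      change ((Additive.toMul (∑ i ∈ range k, x' ^ i • (Additive.ofMul v : Additive V)) : V) : G) *
        ((Additive.toMul (x' ^ k • (Additive.ofMul v : Additive V)) : V) : G) * x ^ (k + 1) = _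
      rw [hact]
      have e : ((x' ^ k : F) : G) = x ^ k := rfl
      rw [e, pow_succ]
      group
  have key := card_smul_eq_zero (F := F) (M := Additive V) Q' x' r hr (Subtype.ext hxr)
    (by
      intro w hw
      exact hxQ (w : G) hw)
    (by
      intro v hv
      have : ((Additive.toMul v : V) : G) = 1 := by
        apply h1 _ (Additive.toMul v).2
        intro w hw
        have h := hv ⟨w, hQV hw⟩ hw
        have h'' := congrArg (fun y : Additive V => ((Additive.toMul y : V) : G)) h
        have h3 := (hact ⟨w, hQV hw⟩ (Additive.toMul v)).symm.trans h''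
        exact mul_inv_eq_iff_eq_mul.mp h3
      have : Additive.toMul v = 1 := Subtype.ext this
      exact this)
    (by
      intro v
      have h4 := hnormx (Additive.toMul v) r
      rw [hxr, mul_one, h2 _ (Additive.toMul v).2] at h4
      exact Subtype.ext h4)
    (by
      intro i hi hir w hw h
      apply Subtype.ext
      apply h3 i hi hir w hw
      exact congrArg Subtype.val h)
  intro v hv
  have := key (Additive.ofMul ⟨v, hv⟩)
  rw [hQQ'] at this
  have h' : (⟨v, hv⟩ : V) ^ Nat.card Q = 1 := this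
  exact congrArg Subtype.val h'

end H12.FrobNorm
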