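import Cfsg.Agent.Lib.H66.OmegaOne
import Cfsg.Agent.Lib.H1.FrobSyl
import Cfsg.Agent.Lib.H1.Coprime2
import Cfsg.Agent.Lib.H12.Basic

/-! S3803: groups of odd order normalizing all subgroups of one order of a 2-group. -/

set_option autoImplicit false

open Subgroup
open scoped commutatorElement Pointwise

namespace H12.OddAct

variable {G : Type*} [Group G] [Finite G]

theorem exists_ge {P K : Subgroup G} (hP : IsPGroup 2 P) (hKP : K ≤ P) {k : ℕ}
    (hk1 : Nat.card K ≤ 2 ^ k) (hk2 : 2 ^ k ≤ Nat.card P) :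
    ∃ E : Subgroup G, K ≤ E ∧ E ≤ P ∧ Nat.card E = 2 ^ k := by
  obtain ⟨m, hm⟩ := IsPGroup.iff_card.1 hP
  obtain ⟨j, hj⟩ := IsPGroup.iff_card.1 (hP.to_le hKP)
  have hkm : k ≤ m := by
    rw [hm] at hk2
    exact (Nat.pow_le_pow_iff_right (by norm_num)).1 hk2
  have hjk : j ≤ k := by
    rw [hj] at hk1
    exact (Nat.pow_le_pow_iff_right (by norm_num)).1 hk1
  have := Fact.mk Nat.prime_two
  obtain ⟨E, hE, hKE⟩ := Sylow.exists_subgroup_card_pow_prime_le 2 (n := j) (m := k)
    (G := P) (by rw [hm]; exact pow_dvd_pow 2 hkm) (K.subgroupOf P)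
    (by rw [Basic.card_subgroupOf hKP, hj]) hjk
  refine ⟨E.map P.subtype, ?_, map_subtype_le _, ?_⟩
  · intro x hx
    exact ⟨⟨x, hKP hx⟩, hKE (mem_subgroupOf.2 hx), rfl⟩
  · rw [card_map_of_injective P.subtype_injective, hE]

/-- all maximal subgroups are invariant -/
theorem le_centralizer_of_maximal {A E : Subgroup G} (hE : IsPGroup 2 E)
    (hcop : (Nat.card A).Coprime (Nat.card E)) (hAE : A ≤ normalizer (E : Set G))
    (hM : ∀ M : Subgroup G, M ≤ E → Nat.card E = 2 * Nat.card M → A ≤ normalizer (M : Set G)) :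
    A ≤ centralizer (E : Set G) := by
  have hEs : Group.IsSolvable E := by
    have := Fact.mk Nat.prime_two
    have := hE.isNilpotent
    infer_instance
  have hsup := H1.Coprime2.commutator_sup_centralizer A E hAE hcop (Or.inr hEs)
  by_contra hcon
  obtain ⟨m, hm⟩ := IsPGroup.iff_card.1 hE
  have hKE : E ⊓ centralizer (A : Set G) ≤ E := inf_le_left
  have hKne : E ⊓ centralizer (A : Set G) ≠ E := by
    intro h
    apply hcon
    rw [le_centralizer_iff]
    exact inf_eq_left.1 h
  obtain ⟨j, hj⟩ := IsPGroup.iff_card.1 (hE.to_le hKE)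
  have hjm : j < m := by
    by_contra hle
    apply hKne
    apply Subgroup.eq_of_le_of_card_ge hKE
    rw [hm, hj]
    exact Nat.pow_le_pow_right (by norm_num) (by omega)
  obtain ⟨M, hKM, hME, hMc⟩ := exists_ge (k := m - 1) hE hKE
    (by rw [hj]; exact Nat.pow_le_pow_right (by norm_num) (by omega))
    (by rw [hm]; exact Nat.pow_le_pow_right (by norm_num) (by omega))
  have hcardM : Nat.card E = 2 * Nat.card M := by
    rw [hm, hMc, ← pow_succ']; congr 1; omega
  have hAM := hM M hME hcardM
  have hidx : (M.subgroupOf E).index = 2 := by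
    have h1 := (M.subgroupOf E).card_mul_index
    rw [Basic.card_subgroupOf hME, hcardM, mul_comm] at h1
    exact Nat.eq_of_mul_eq_mul_right Nat.card_pos h1
  have hcM : ⁅E, A⁆ ≤ M := by
    rw [commutator_le]
    intro x hx a ha
    have hax : a * x⁻¹ * a⁻¹ ∈ E := H1.Coprime.conj_mem_of_le_normalizer hAE ha (inv_mem hx)
    have h1 : ⁅x, a⁆ = x * (a * x⁻¹ * a⁻¹) := by rw [commutatorElement_def]; group
    rw [h1]
    have h2 := Subgroup.mul_mem_iff_of_index_two hidx (a := ⟨x, hx⟩) (b := ⟨_, hax⟩)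
    rw [mem_subgroupOf, mem_subgroupOf, mem_subgroupOf] at h2
    apply h2.2
    change x ∈ M ↔ a * x⁻¹ * a⁻¹ ∈ M
    rw [← (mem_normalizer_iff.1 (hAM ha) x⁻¹), inv_mem_iff]
  have h3 : E ≤ M := by rw [← hsup]; exact sup_le hcM hKM
  have h4 := le_antisymm h3 hME
  rw [h4] at hcardM
  have : 0 < Nat.card M := Nat.card_pos
  omega

/-- cyclic case -/
theorem le_centralizer_of_isCyclic {A E : Subgroup G} (hE : IsPGroup 2 E) (hcyc : IsCyclic E)
    (hcop : (Nat.card A).Coprime (Nat.card E)) (hAE : A ≤ normalizer (E : Set G)) :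
    A ≤ centralizer (E : Set G) := by
  apply le_centralizer_of_maximal hE hcop hAE
  intro M hM _
  intro a ha
  apply H1.SZ.mem_normalizer_of_conj_smul_eq
  apply H1.FrobSyl.eq_of_card_eq_of_le hcyc _ hM
  · rw [H1.SZ.card_conj_smul]
  · rw [← H1.SZ.conj_smul_eq_of_mem_normalizer (hAE ha)]
    exact Subgroup.pointwise_smul_le_pointwise_smul_iff.mpr hM

theorem main (P A D : Subgroup G) (hP : IsPGroup 2 P) (hA : Odd (Nat.card A))
    (hAP : A ≤ normalizer (P : Set G)) (hDP : D ≤ P) (hD1 : 1 < Nat.card D)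
    (hD2 : Nat.card D < Nat.card P)
    (hinv : ∀ E : Subgroup G, E ≤ P → (Nat.card E = Nat.card D ∨ (Nat.card D = 2 ∧ Nat.card E = 4)) →
      A ≤ normalizer (E : Set G)) : A ≤ centralizer (P : Set G) := by
  have hcop2 : ∀ E : Subgroup G, IsPGroup 2 E → (Nat.card A).Coprime (Nat.card E) := by
    intro E hE
    obtain ⟨m, hm⟩ := IsPGroup.iff_card.1 hE
    rw [hm]
    exact Nat.Coprime.pow_right m (Nat.coprime_two_right.2 hA)
  obtain ⟨m, hm⟩ := IsPGroup.iff_card.1 hP
  obtain ⟨k, hk⟩ := IsPGroup.iff_card.1 (hP.to_le hDP)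
  have hkm : k < m := by
    rw [hm, hk] at hD2
    exact (Nat.pow_lt_pow_iff_right (by norm_num)).1 hD2
  have hk0 : k ≠ 0 := by
    rintro rfl
    rw [hk] at hD1
    norm_num at hD1
  -- subgroups of order |D| are centralized
  have hcen : ∀ E : Subgroup G, E ≤ P → Nat.card E = Nat.card D → A ≤ centralizer (E : Set G) := by
    intro E hEP hEc
    obtain ⟨E', hEE', hE'P, hE'c⟩ := exists_ge (k := k + 1) hP hEP
      (by rw [hEc, hk]; exact Nat.pow_le_pow_right (by norm_num) (by omega))
      (by rw [hm]; exact Nat.pow_le_pow_right (by norm_num) (by omega))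
    by_cases hcyc : IsCyclic E'
    · have : IsCyclic E := isCyclic_of_injective (Subgroup.inclusion hEE') (Subgroup.inclusion_injective hEE')
      exact le_centralizer_of_isCyclic (hP.to_le hEP) this (hcop2 E (hP.to_le hEP))
        (hinv E hEP (Or.inl hEc))
    · -- a second maximal subgroup
      obtain ⟨x, hx, hxE⟩ : ∃ x ∈ E', x ∉ E := by
        by_contra hcon
        push Not at hcon
        have h1 := le_antisymm hEE' hcon
        rw [h1, hE'c, hk] at hEc
        have := Nat.pow_lt_pow_right (a := 2) (by norm_num) (Nat.lt_succ_self k)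
        omega
      have hxlt : Nat.card (zpowers x) ≤ 2 ^ k := by
        have h1 : zpowers x ≤ E' := by rw [zpowers_le]; exact hx
        obtain ⟨j, hj⟩ := IsPGroup.iff_card.1 (hP.to_le (h1.trans hE'P))
        have h2 : Nat.card (zpowers x) ≤ Nat.card E' :=
          Nat.le_of_dvd Nat.card_pos (card_dvd_of_le h1)
        rw [hj, hE'c] at h2
        have h3 := (Nat.pow_le_pow_iff_right (a := 2) (by norm_num)).1 h2
        have h4 : j ≠ k + 1 := by
          rintro rfl
          apply hcyc
          have h5 : zpowers x = E' := Subgroup.eq_of_le_of_card_ge h1 (by rw [hj, hE'c])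
          rw [← h5]
          infer_instance
        rw [hj]
        exact Nat.pow_le_pow_right (by norm_num) (by omega)
      obtain ⟨M, hxM, hME', hMc⟩ := exists_ge (k := k) (hP.to_le hE'P)
        (show zpowers x ≤ E' by rw [zpowers_le]; exact hx) hxlt
        (by rw [hE'c]; exact Nat.pow_le_pow_right (by norm_num) (by omega))
      have hsup : E ⊔ M = E' := by
        have h1 : E ⊔ M ≤ E' := sup_le hEE' hME'
        obtain ⟨j, hj⟩ := IsPGroup.iff_card.1 ((hP.to_le hE'P).to_le h1)
        have h2 : Nat.card E < Nat.card (E ⊔ M : Subgroup G) := by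
          refine lt_of_le_of_ne (Nat.le_of_dvd Nat.card_pos (card_dvd_of_le le_sup_left)) ?_
          intro h3
          have h4 := Subgroup.eq_of_le_of_card_ge (le_sup_left : E ≤ E ⊔ M) h3.ge
          apply hxE
          rw [h4]
          exact le_sup_right (a := E) (hxM (mem_zpowers x))
        rw [hEc, hk, hj] at h2
        have h3 := (Nat.pow_lt_pow_iff_right (a := 2) (by norm_num)).1 h2
        apply Subgroup.eq_of_le_of_card_ge h1
        rw [hj, hE'c]
        exact Nat.pow_le_pow_right (by norm_num) (by omega)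
      have hAE' : A ≤ normalizer (E' : Set G) := by
        rw [← hsup]
        exact H1.Coprime2.le_normalizer_sup (hinv E hEP (Or.inl hEc))
          (hinv M (hME'.trans hE'P) (Or.inl (by rw [hMc, hk])))
      have h1 := le_centralizer_of_maximal (hP.to_le hE'P) (hcop2 E' (hP.to_le hE'P)) hAE' (by
        intro N hN hNc
        apply hinv N (hN.trans hE'P) (Or.inl _)
        rw [hE'c, pow_succ, mul_comm] at hNc
        rw [hk]
        exact (Nat.eq_of_mul_eq_mul_left (by norm_num) hNc).symm)
      exact h1.trans (centralizer_le hEE')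
  apply H66.OmegaOne.le_centralizer_of_two A P hP hAP (hcop2 P hP)
  intro x hx hx4 a ha
  have hxP : zpowers x ≤ P := by rw [zpowers_le]; exact hx
  have hx4' : Nat.card (zpowers x) ∣ 2 ^ 2 := by
    rw [Nat.card_zpowers]; exact orderOf_dvd_of_pow_eq_one hx4
  obtain ⟨j, hj, hjc⟩ := (Nat.dvd_prime_pow Nat.prime_two).1 hx4'
  suffices h : A ≤ centralizer ((zpowers x : Subgroup G) : Set G) by
    exact (mem_centralizer_iff.1 (h ha) x (mem_zpowers x)).symm
  by_cases hjk : j ≤ k
  · obtain ⟨E, hxE, hEP, hEc⟩ := exists_ge (k := k) hP hxP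
      (by rw [hjc]; exact Nat.pow_le_pow_right (by norm_num) hjk)
      (by rw [hm]; exact Nat.pow_le_pow_right (by norm_num) (by omega))
    exact (hcen E hEP (by rw [hEc, hk])).trans (centralizer_le hxE)
  · have hk1 : k = 1 := by omega
    have hj2 : j = 2 := by omega
    subst hk1 hj2
    apply le_centralizer_of_isCyclic (hP.to_le hxP) inferInstance (hcop2 _ (hP.to_le hxP))
    apply hinv _ hxP (Or.inr ⟨by rw [hk]; norm_num, by rw [hjc]; norm_num⟩)

end H12.OddAct
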