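import Mathlib
import Cfsg.Agent.Lib.H12.OddAct
import Cfsg.Agent.Lib.H2.Frobenius
import Cfsg.Agent.Lib.H87.AutTwo

/-! Groups with generalized quaternion Sylow 2-subgroups whose Sylow 2-intersections are cyclic. -/

set_option autoImplicit false

namespace H12.GWCon

open Subgroup
open scoped Pointwise

variable {G : Type*} [Group G] [Finite G]

/-- `D` admits an odd order automorphism induced by its normaliser -/
def Bad (D : Subgroup G) : Prop :=
  IsPGroup 2 D ∧ ∃ g ∈ normalizer (D : Set G), Nat.Coprime (orderOf g) 2 ∧ g ∉ centralizer (D : Set G)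

theorem exists_bad (h : ¬ Cfsg.HasNormalPComplement 2 G) : ∃ D : Subgroup G, Bad D := by
  have hp2 : Fact (Nat.Prime 2) := ⟨Nat.prime_two⟩
  by_contra hcon
  apply h
  apply H2.Frobenius.hasNPC_of_local
  intro D hD g hg hgo
  by_contra hgc
  exact hcon ⟨D, hD, g, hg, hgo, hgc⟩

theorem bad_not_cyclic {D : Subgroup G} (h : Bad D) : ¬ IsCyclic D := by
  intro hc
  obtain ⟨hD, g, hg, hgo, hgc⟩ := h
  apply hgc
  have h1 : (Nat.card (zpowers g)).Coprime (Nat.card D) := by
    obtain ⟨n, hn⟩ := IsPGroup.iff_card.1 hD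
    rw [hn, Nat.card_zpowers]
    exact Nat.Coprime.pow_right n hgo
  exact H12.OddAct.le_centralizer_of_isCyclic hD hc h1 (zpowers_le.2 hg) (mem_zpowers g)

theorem exists_bad_sylow (h : ¬ Cfsg.HasNormalPComplement 2 G)
    (hC : ∀ S T : Sylow 2 G, S ≠ T → IsCyclic ↥((S : Subgroup G) ⊓ (T : Subgroup G))) :
    ∃ S : Sylow 2 G, Bad (S : Subgroup G) := by
  have hp2 : Fact (Nat.Prime 2) := ⟨Nat.prime_two⟩
  obtain ⟨D, hD, hmax⟩ := (Set.toFinite {D : Subgroup G | Bad D}).exists_maximal (exists_bad h)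
  have hD' : Bad D := hD
  obtain ⟨hDp, g, hg, hgo, hgc⟩ := hD'
  obtain ⟨T, hT⟩ := hDp.exists_le_sylow
  by_cases hDT : D = (T : Subgroup G)
  · exact ⟨T, by rw [← hDT]; exact hD⟩
  exfalso
  let R : Subgroup G := normalizer (D : Set G)
  have hDR : D ≤ R := le_normalizer
  -- the Sylow subgroup of R
  have hDRn : (D.subgroupOf R).Normal := Subgroup.normal_in_normalizer
  have hDRp : IsPGroup 2 (D.subgroupOf R) := hDp.comap_of_injective R.subtype R.subtype_injective
  have hle : ∀ P : Sylow 2 R, D ≤ (P : Subgroup R).map R.subtype := by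
    intro P
    have h1 : D.subgroupOf R ≤ P := hDRp.le_sylow_of_normal P
    have h2 := Subgroup.map_mono (f := R.subtype) h1
    rwa [Subgroup.map_subgroupOf_eq_of_le hDR] at h2
  have huniq : ∀ P1 P2 : Sylow 2 R, P1 = P2 := by
    intro P1 P2
    obtain ⟨S1, hS1⟩ := (P1.2.map R.subtype).exists_le_sylow
    obtain ⟨S2, hS2⟩ := (P2.2.map R.subtype).exists_le_sylow
    have h12 : S1 = S2 := by
      by_contra hne
      have hcyc := hC S1 S2 hne
      have hDle : D ≤ (S1 : Subgroup G) ⊓ S2 := le_inf ((hle P1).trans hS1) ((hle P2).trans hS2)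
      apply bad_not_cyclic hD
      exact isCyclic_of_injective (Subgroup.inclusion hDle) (Subgroup.inclusion_injective hDle)
    subst h12
    have hsg : IsPGroup 2 ((S1 : Subgroup G).subgroupOf R) := S1.2.comap_of_injective R.subtype R.subtype_injective
    have h1 : ∀ P : Sylow 2 R, (P : Subgroup R).map R.subtype ≤ S1 → (S1 : Subgroup G).subgroupOf R = P := by
      intro P hP
      apply P.3 hsg
      intro x hx
      exact hP ⟨x, hx, rfl⟩
    apply Sylow.ext
    rw [← h1 P1 hS1, ← h1 P2 hS2]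
  obtain ⟨P⟩ : Nonempty (Sylow 2 R) := inferInstance
  have hPn : (P : Subgroup R).Normal := by
    have : Subsingleton (Sylow 2 R) := ⟨huniq⟩
    exact P.normal_of_subsingleton
  -- R ∩ T is bigger than D
  have hgt : D < (P : Subgroup R).map R.subtype := by
    refine lt_of_le_of_ne (hle P) ?_
    intro heq
    have hlt : D < (T : Subgroup G) := lt_of_le_of_ne hT hDT
    have hTn : Group.IsNilpotent (T : Subgroup G) := T.2.isNilpotent
    have h1 : (D.subgroupOf (T : Subgroup G)) < ⊤ := by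
      rw [lt_top_iff_ne_top, Ne, Subgroup.subgroupOf_eq_top]
      exact fun h => hlt.not_ge h
    have h2 := normalizerCondition_of_isNilpotent (G := (T : Subgroup G)) _ h1
    obtain ⟨x, hx1, hx2⟩ := SetLike.exists_of_lt h2
    have hxR : (x : G) ∈ R := by
      show (x : G) ∈ normalizer (D : Set G)
      rw [Subgroup.mem_normalizer_iff] at hx1 ⊢
      intro d
      constructor
      · intro hd
        exact (hx1 ⟨d, hT hd⟩).1 hd
      · intro hd
        have hdT : (x : G) * d * (x : G)⁻¹ ∈ (T : Subgroup G) := hT hd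
        have hdT' : d ∈ (T : Subgroup G) := by
          have h3 := mul_mem (mul_mem (inv_mem x.2) hdT) x.2
          have e : (x : G)⁻¹ * ((x : G) * d * (x : G)⁻¹) * x = d := by group
          rwa [e] at h3
        exact (hx1 ⟨d, hdT'⟩).2 hd
    have hTR : IsPGroup 2 ((T : Subgroup G).subgroupOf R) := T.2.comap_of_injective R.subtype R.subtype_injective
    obtain ⟨P', hP'⟩ := hTR.exists_le_sylow
    rw [huniq P' P] at hP'
    have h3 : (x : G) ∈ (P : Subgroup R).map R.subtype := ⟨⟨x, hxR⟩, hP' x.2, rfl⟩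
    rw [← heq] at h3
    exact hx2 h3
  have hbad : Bad ((P : Subgroup R).map R.subtype) := by
    refine ⟨P.2.map R.subtype, g, ?_, hgo, ?_⟩
    · rw [Subgroup.mem_normalizer_iff]
      intro y
      constructor
      · rintro ⟨y', hy', rfl⟩
        exact ⟨⟨g, hg⟩ * y' * ⟨g, hg⟩⁻¹, hPn.conj_mem y' hy' ⟨g, hg⟩, rfl⟩
      · rintro ⟨y', hy', hy''⟩
        refine ⟨⟨g, hg⟩⁻¹ * y' * ⟨g, hg⟩, by
          have h5 := hPn.conj_mem y' hy' ⟨g, hg⟩⁻¹
          rw [inv_inv] at h5
          exact h5, ?_⟩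
        show g⁻¹ * (y' : G) * g = y
        have : (y' : G) = g * y * g⁻¹ := hy''
        rw [this]; group
    · intro h1
      apply hgc
      exact Subgroup.centralizer_le (SetLike.coe_subset_coe.2 hgt.le) h1
  exact hgt.not_ge (hmax hbad hgt.le)

/-- `|S| = 8` -/
theorem sylow_eight (h : ¬ Cfsg.HasNormalPComplement 2 G)
    (hQ : ∀ S : Sylow 2 G, ∃ n : ℕ, Nonempty (↥(S : Subgroup G) ≃* QuaternionGroup (2 ^ (n + 1))))
    (hC : ∀ S T : Sylow 2 G, S ≠ T → IsCyclic ↥((S : Subgroup G) ⊓ (T : Subgroup G))) (S : Sylow 2 G) :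
    Nonempty (↥(S : Subgroup G) ≃* QuaternionGroup 2) := by
  have hp2 : Fact (Nat.Prime 2) := ⟨Nat.prime_two⟩
  obtain ⟨T, hT⟩ := exists_bad_sylow h hC
  obtain ⟨n, ⟨e⟩⟩ := hQ T
  have hn : n = 0 := by
    by_contra hn
    obtain ⟨-, g, hg, hgo, hgc⟩ := hT
    have h1 := H87.AutTwo.isPGroup_aut_quaternion (n + 1) (by omega)
    let f : normalizer ((T : Subgroup G) : Set G) →* MulAut (T : Subgroup G) := (T : Subgroup G).normalizerMonoidHom
    let c : MulAut (T : Subgroup G) ≃* MulAut (QuaternionGroup (2 ^ (n + 1))) := MulAut.congr e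
    obtain ⟨k, hk'⟩ := h1 (c (f ⟨g, hg⟩))
    rw [← map_pow, ← map_pow] at hk'
    have hk2 : f ⟨g, hg⟩ ^ 2 ^ k = 1 := by
      rw [← map_pow]
      exact c.injective (by rw [hk', map_one])
    have h3 : orderOf (f ⟨g, hg⟩) ∣ orderOf g := by
      refine (orderOf_map_dvd f _).trans ?_
      rw [Subgroup.orderOf_mk]
    have h4 : orderOf (f ⟨g, hg⟩) = 1 := by
      have h5 : orderOf (f ⟨g, hg⟩) ∣ 2 ^ k := orderOf_dvd_of_pow_eq_one hk2
      have h6 : Nat.Coprime (orderOf g) (2 ^ k) := Nat.Coprime.pow_right k hgo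
      exact Nat.Coprime.eq_one_of_dvd (Nat.Coprime.coprime_dvd_left h3 h6) h5
    rw [orderOf_eq_one_iff] at h4
    apply hgc
    rw [mem_centralizer_iff]
    intro d hd
    have h7 : f ⟨g, hg⟩ ⟨d, hd⟩ = ⟨d, hd⟩ := by rw [h4]; rfl
    have h8 : g * d * g⁻¹ = d := congrArg Subtype.val h7
    rw [mul_inv_eq_iff_eq_mul] at h8
    exact h8.symm
  subst hn
  obtain ⟨x, hx⟩ := MulAction.exists_smul_eq G S T
  have e2 : (S : Subgroup G) ≃* (T : Subgroup G) := S.equiv T
  exact ⟨e2.trans e⟩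

end H12.GWCon
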