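import Mathlib
import Cfsg.Agent.Lib.H12.GWConA
import Cfsg.Agent.Lib.H12.ExtUniq
import Cfsg.Agent.Lib.H59.GW4a
import Cfsg.Agent.Lib.H37.ExtCl1
import Cfsg.Agent.Lib.H39.PNilp
import Cfsg.Agent.Lib.H58.SL2Prod
import Cfsg.Agent.S0201

/-! Consumers of the Gorenstein-Walter theorem for groups with a Sylow four-subgroup: S3307. -/

set_option autoImplicit false

universe u

namespace H12.GWCon

open Subgroup

/-- Feit–Thompson as a hypothesis -/
def FT : Prop := ∀ (K : Type u) [Group K] [Finite K], Odd (Nat.card K) → Group.IsSolvable K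

/-- Gorenstein-Walter for Sylow four-subgroups as a hypothesis -/
def GWS : Prop := ∀ (H : Type u) [Group H] [Finite H], IsSimpleGroup H → ∀ V : Subgroup H, Nat.card V = 4 →
  (∀ v ∈ V, v * v = 1) → Odd V.index →
  ∃ (F : Type) (_ : Field F) (_ : Fintype F), (Fintype.card F % 8 = 3 ∨ Fintype.card F % 8 = 5) ∧
    3 < Fintype.card F ∧ Nonempty (H ≃* Matrix.ProjectiveSpecialLinearGroup (Fin 2) F)

theorem solvable_of_normal {G : Type*} [Group G] (N : Subgroup G) [N.Normal] (h1 : Group.IsSolvable N)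
    (h2 : Group.IsSolvable (G ⧸ N)) : Group.IsSolvable G := by
  apply Group.isSolvable_of_ker_le_range N.subtype (QuotientGroup.mk' N)
  rw [QuotientGroup.ker_mk', Subgroup.range_subtype]

theorem solvable_of_pGroup {G : Type*} [Group G] [Finite G] {p : ℕ} [Fact p.Prime] (h : IsPGroup p G) :
    Group.IsSolvable G := by
  have : Group.IsNilpotent G := h.isNilpotent
  infer_instance

theorem solvable_of_npc {G : Type u} [Group G] [Finite G] (ft : FT.{u}) (h : Cfsg.HasNormalPComplement 2 G) :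
    Group.IsSolvable G := by
  haveI : Fact (Nat.Prime 2) := ⟨Nat.prime_two⟩
  obtain ⟨N, hN, hc, k, hk⟩ := H39.PNilp.iff_exists.1 h
  apply solvable_of_normal N (ft N (Nat.coprime_two_right.1 hc))
  exact solvable_of_pGroup (p := 2) (IsPGroup.of_card (n := k) (by rw [← Subgroup.index_eq_card]; exact hk))

/-- involutions in `Q₈` -/
theorem q8_unique : ∀ x y : QuaternionGroup 2, x * x = 1 → y * y = 1 → x ≠ 1 → y ≠ 1 → x = y := by decide

theorem q8_four : ∀ x : QuaternionGroup 2, (x * x) * (x * x) = 1 := by decide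

/-- `SL₂(q)` from `PSL₂(q)` and the involutions. -/
theorem sl2_of_psl2 {F : Type} [Field F] [Fintype F] (hodd : (2 : F) ≠ 0) {M : Type*} [Group M] [Finite M]
    {L : Type*} [Group L] (e : L ≃* Matrix.ProjectiveSpecialLinearGroup (Fin 2) F) (σ : M →* L)
    (hσ : Function.Surjective σ) (kσ : Nat.card σ.ker = 2) (V : Subgroup L) (hVo : Odd V.index)
    (hV : ∀ v ∈ V, v * v = 1) (hM : ∀ a : M, a * a = 1 → σ a = 1) :
    Nonempty (M ≃* Matrix.SpecialLinearGroup (Fin 2) F) := by
  let τ : Matrix.SpecialLinearGroup (Fin 2) F →* L :=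
    (e.symm : Matrix.ProjectiveSpecialLinearGroup (Fin 2) F →* L).comp
      (QuotientGroup.mk' (Subgroup.center (Matrix.SpecialLinearGroup (Fin 2) F)))
  have hτ1 : ∀ b, τ b = 1 ↔ b ∈ Subgroup.center (Matrix.SpecialLinearGroup (Fin 2) F) := by
    intro b
    show e.symm (QuotientGroup.mk' _ b) = 1 ↔ _
    rw [map_eq_one_iff e.symm e.symm.injective]
    exact QuotientGroup.eq_one_iff b
  have hne : (1 : Matrix.SpecialLinearGroup (Fin 2) F) ≠ -1 := by
    intro h
    have h1 := congrArg (fun A : Matrix.SpecialLinearGroup (Fin 2) F => A.1 0 0) h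
    have h2 : (1 : F) = -1 := by simpa using h1
    apply hodd
    linear_combination h2
  obtain ⟨f, -⟩ := H12.Ext.uniq σ τ hσ (e.symm.surjective.comp (QuotientGroup.mk'_surjective _)) kσ (by
      rw [Nat.card_eq_two_iff]
      refine ⟨1, ⟨-1, (hτ1 _).2 ((H45.SL2.mem_center_iff _).2 (Or.inr rfl))⟩, ?_, ?_⟩
      · intro h; exact hne (congrArg Subtype.val h)
      · ext ⟨x, hx⟩
        simp only [Set.mem_insert_iff, Set.mem_singleton_iff, Set.mem_univ, iff_true]
        rcases (H45.SL2.mem_center_iff _).1 ((hτ1 x).1 hx) with h | h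
        · left; exact Subtype.ext h
        · right; exact Subtype.ext h) V hVo hV hM (by
      intro b hb
      rw [hτ1, H45.SL2.mem_center_iff]
      exact H58.SL2Prod.eq_one_or_neg_one_of_sq hodd hb)
  exact ⟨f⟩

/-- a surjection with kernel meeting a subgroup trivially restricts to an isomorphism -/
theorem map_equiv {A B : Type*} [Group A] [Group B] (f : A →* B) (S : Subgroup A)
    (h : ∀ x ∈ S, f x = 1 → x = 1) : Nonempty (S ≃* S.map f) :=
  ⟨MulEquiv.ofBijective (f.subgroupMap S) ⟨by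
    rw [injective_iff_map_eq_one]
    intro x hx
    exact Subtype.ext (h x x.2 (congrArg Subtype.val hx)), f.subgroupMap_surjective S⟩⟩

theorem main {G : Type u} [Group G] [Finite G] (hFT : FT.{u}) (hGW : GWS.{u}) (hns : ¬ Group.IsSolvable G)
    (hQ : ∀ S : Sylow 2 G, ∃ n : ℕ, Nonempty (↥(S : Subgroup G) ≃* QuaternionGroup (2 ^ (n + 1))))
    (hC : ∀ S T : Sylow 2 G, S ≠ T → IsCyclic ↥((S : Subgroup G) ⊓ (T : Subgroup G))) :
    (∀ S : Sylow 2 G, Nonempty (↥(S : Subgroup G) ≃* QuaternionGroup 2)) ∧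
    ∃ (G₁ : Subgroup G) (_ : G₁.Normal) (_ : ((Cfsg.oddCore G).subgroupOf G₁).Normal),
      Odd G₁.index ∧ Cfsg.oddCore G ≤ G₁ ∧
      ∃ (F : Type) (_ : Field F) (_ : Fintype F), (Fintype.card F % 8 = 3 ∨ Fintype.card F % 8 = 5) ∧ 3 < Fintype.card F ∧
        Nonempty (↥G₁ ⧸ (Cfsg.oddCore G).subgroupOf G₁ ≃* Matrix.SpecialLinearGroup (Fin 2) F) := by
  haveI hp2 : Fact (Nat.Prime 2) := ⟨Nat.prime_two⟩
  have h8 := sylow_eight (fun h => hns (solvable_of_npc hFT h)) hQ hC
  refine ⟨h8, ?_⟩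
  let O : Subgroup G := Cfsg.oddCore G
  have hOn : O.Normal := H1.Cores.pPrimeCore_normal 2
  have hOc : (Nat.card O).Coprime 2 := H1.Cores.coprime_card_pPrimeCore 2
  let H := G ⧸ O
  let π : G →* H := QuotientGroup.mk' O
  have hπ : Function.Surjective π := QuotientGroup.mk'_surjective O
  have hHcore : Cfsg.pPrimeCore 2 H = ⊥ := H1.Cores.pPrimeCore_quotient_pPrimeCore 2
  have hHns : ¬ Group.IsSolvable H := fun h => hns (solvable_of_normal O (hFT O (Nat.coprime_two_right.1 hOc)) h)
  -- Sylow subgroups of H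
  obtain ⟨S⟩ : Nonempty (Sylow 2 G) := inferInstance
  let S' : Sylow 2 H := S.mapSurjective hπ
  have hS'8 : Nonempty ((S' : Subgroup H) ≃* QuaternionGroup 2) := by
    obtain ⟨e⟩ := h8 S
    obtain ⟨f⟩ := map_equiv π (S : Subgroup G) (by
      intro x hx h1
      have h2 : x ∈ O := (QuotientGroup.eq_one_iff x).1 h1
      have h3 : (S : Subgroup G) ⊓ O = ⊥ := H1.Cores.disjoint_of_isPGroup (Q := O) S.2 hOc
      have h4 : x ∈ (S : Subgroup G) ⊓ O := ⟨hx, h2⟩
      rw [h3] at h4; exact h4)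
    exact ⟨f.symm.trans e⟩
  have hT8 : ∀ T : Sylow 2 H, Nonempty ((T : Subgroup H) ≃* QuaternionGroup 2) := by
    intro T
    obtain ⟨e⟩ := hS'8
    exact ⟨(T.equiv S').trans e⟩
  obtain ⟨e8⟩ := hS'8
  have hcen2 : Nat.card (Subgroup.center H) = 2 := by
    apply Cfsg.Agent.S0201.result S' 0 e8
    intro N hN hodd
    have h1 : N ≤ Cfsg.pPrimeCore 2 H := H1.Cores.le_pPrimeCore hN (Nat.coprime_two_right.2 hodd)
    rw [hHcore] at h1
    exact le_bot_iff.1 h1
  -- the central involution
  obtain ⟨⟨z, hzc⟩, hz⟩ := exists_prime_orderOf_dvd_card' (G := Subgroup.center H) 2 (by rw [hcen2])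
  have hz2 : orderOf z = 2 := by rw [← hz, Subgroup.orderOf_mk]
  have hz1 : z ≠ 1 := by
    intro h; rw [h, orderOf_one] at hz2; omega
  have hzz : z * z = 1 := by
    have := pow_orderOf_eq_one z
    rwa [hz2, pow_two] at this
  have hzcm : ∀ g : H, g * z = z * g := fun g => Subgroup.mem_center_iff.1 hzc g
  have hZn : (zpowers z).Normal := ⟨fun n hn g => by
    have h1 : n ∈ Subgroup.center H := (zpowers_le.2 hzc) hn
    rw [Subgroup.mem_center_iff.1 h1 g, mul_inv_cancel_right]; exact hn⟩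
  have hzT : ∀ T : Sylow 2 H, z ∈ T := by
    intro T
    have h1 : IsPGroup 2 (zpowers z) := IsPGroup.of_card (n := 1) (by rw [Nat.card_zpowers, hz2, pow_one])
    exact h1.le_sylow_of_normal T (mem_zpowers z)
  have hinv : ∀ t : H, t * t = 1 → t = 1 ∨ t = z := by
    intro t ht
    by_cases ht1 : t = 1
    · left; exact ht1
    right
    have h1 : IsPGroup 2 (zpowers t) := IsPGroup.of_card (n := 1) (by
      rw [Nat.card_zpowers, pow_one]
      exact orderOf_eq_prime (by rw [pow_two]; exact ht) ht1)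
    obtain ⟨T, hT⟩ := h1.exists_le_sylow
    obtain ⟨e⟩ := hT8 T
    have htT : t ∈ T := hT (mem_zpowers t)
    have h2 := q8_unique (e ⟨t, htT⟩) (e ⟨z, hzT T⟩) (by
        rw [← map_mul, ← map_one e]; congr 1; exact Subtype.ext ht) (by
        rw [← map_mul, ← map_one e]; congr 1; exact Subtype.ext hzz) (by
        rw [Ne, map_eq_one_iff e e.injective]; exact fun h => ht1 (congrArg Subtype.val h)) (by
        rw [Ne, map_eq_one_iff e e.injective]; exact fun h => hz1 (congrArg Subtype.val h))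
    exact congrArg Subtype.val (e.injective h2)
  let Z : Subgroup H := zpowers z
  have hZmem : ∀ x, x ∈ Z → x = 1 ∨ x = z := by
    intro x hx
    apply hinv
    have h1 : x ^ 2 = 1 := by
      obtain ⟨i, rfl⟩ := hx
      show (z ^ i) ^ 2 = 1
      rw [← zpow_natCast, ← zpow_mul, mul_comm, zpow_mul, zpow_natCast, pow_two, hzz, one_zpow]
    rwa [pow_two] at h1
  -- the quotient
  let K := H ⧸ Z
  let ρ : H →* K := QuotientGroup.mk' Z
  have hρ : Function.Surjective ρ := QuotientGroup.mk'_surjective Z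
  have hρ1 : ∀ x, ρ x = 1 ↔ x ∈ Z := fun x => QuotientGroup.eq_one_iff x
  have hKcore : Cfsg.pPrimeCore 2 K = ⊥ := H37.ExtCl.core_quotient_central hHcore hz2 hzc
  have hZsol : Group.IsSolvable Z := solvable_of_pGroup (p := 2) (IsPGroup.of_card (n := 1) (by rw [Nat.card_zpowers, hz2, pow_one]))
  have hKns : ¬ Group.IsSolvable K := fun h => hHns (solvable_of_normal Z hZsol h)
  let SK : Sylow 2 K := S'.mapSurjective hρ
  have hSKsq : ∀ v ∈ (SK : Subgroup K), v * v = 1 := by
    rintro _ ⟨x, hx, rfl⟩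
    show ρ x * ρ x = 1
    rw [← map_mul, hρ1]
    have h1 := q8_four (e8 ⟨x, hx⟩)
    rw [← map_mul, ← map_mul, ← map_one e8] at h1
    have h2 : (x * x) * (x * x) = 1 := congrArg Subtype.val (e8.injective h1)
    rcases hinv _ h2 with h | h
    · rw [h]; exact one_mem _
    · rw [h]; exact mem_zpowers z
  have hSK4 : Nat.card (SK : Subgroup K) = 4 := by
    have h1 : Nat.card (S' : Subgroup H) = 8 := by
      rw [Nat.card_congr e8.toEquiv]
      rw [Nat.card_eq_fintype_card, QuaternionGroup.card]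
    have h2 : Z ≤ (S' : Subgroup H) := zpowers_le.2 (hzT S')
    have h3 : Nat.card Z * Nat.card (SK : Subgroup K) = Nat.card (S' : Subgroup H) :=
      H1.Cores.card_map_mk' Z (S' : Subgroup H) h2
    have h4 : Nat.card Z = 2 := by rw [Nat.card_zpowers, hz2]
    rw [h4, h1] at h3
    omega
  have hSKk : IsKleinFour (SK : Subgroup K) := by
    refine ⟨hSK4, ?_⟩
    have h1 : Monoid.exponent (SK : Subgroup K) ∣ 2 := Monoid.exponent_dvd_of_forall_pow_eq_one (fun x => by
      rw [pow_two]; exact Subtype.ext (hSKsq x x.2))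
    rcases (Nat.dvd_prime Nat.prime_two).1 h1 with h | h
    · exfalso
      have h2 := Monoid.exp_eq_one_iff.1 h
      have h3 : Nat.card (SK : Subgroup K) ≤ 1 := Finite.card_le_one_iff_subsingleton.2 h2
      omega
    · exact h
  rcases H59.GW4.struct SK hSKk hKcore with h | ⟨h1, h2, -⟩ | ⟨L, hL, hSL, hLs, hLn, hLc⟩
  · exfalso
    apply hKns
    have h1 : IsPGroup 2 (⊤ : Subgroup K) := by rw [← h]; exact SK.2
    exact solvable_of_pGroup (h1.of_equiv Subgroup.topEquiv)
  · exfalso
    apply hKns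
    have h3 : Fact (Nat.Prime 3) := ⟨Nat.prime_three⟩
    apply solvable_of_normal (SK : Subgroup K) (solvable_of_pGroup SK.2)
    apply solvable_of_pGroup (p := 3)
    apply IsPGroup.of_card (n := 1)
    rw [← Subgroup.index_eq_card, h2, pow_one]
  -- the simple case
  have hSKodd : Odd (SK : Subgroup K).index := by
    rw [← Nat.not_even_iff_odd, even_iff_two_dvd]
    exact SK.not_dvd_index
  obtain ⟨F, iF, iFt, hF8, hF3, ⟨e⟩⟩ := hGW L hLs ((SK : Subgroup K).subgroupOf L) (by
      rw [Nat.card_congr (Subgroup.subgroupOfEquivOfLe hSL).toEquiv]; exact hSK4) (by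
      intro v hv
      exact Subtype.ext (hSKsq v hv)) (by
      have h1 : (SK : Subgroup K).relIndex L ∣ (SK : Subgroup K).index := Subgroup.relIndex_dvd_index_of_le hSL
      exact Odd.of_dvd_nat hSKodd h1)
  have hFodd : (2 : F) ≠ 0 := H58.SL2Prod.two_ne_zero_of_odd (by
    rw [Nat.odd_iff]; omega)
  let M : Subgroup H := L.comap ρ
  let σ : M →* L := ρ.subgroupComap L
  have hσ : Function.Surjective σ := MonoidHom.subgroupComap_surjective_of_surjective ρ L hρ
  have hσe : ∀ x : M, σ x = 1 ↔ (x : H) ∈ Z := by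
    intro x
    rw [← hρ1]
    constructor
    · intro h; exact congrArg Subtype.val h
    · intro h; exact Subtype.ext h
  have hzM : z ∈ M := by
    show ρ z ∈ L
    rw [(hρ1 z).2 (mem_zpowers z)]; exact one_mem _
  have kσ : Nat.card σ.ker = 2 := by
    rw [Nat.card_eq_two_iff]
    refine ⟨1, ⟨⟨z, hzM⟩, (hσe _).2 (mem_zpowers z)⟩, ?_, ?_⟩
    · intro h; exact hz1 (congrArg (fun x : σ.ker => ((x : M) : H)) h).symm
    · ext ⟨x, hx⟩
      simp only [Set.mem_insert_iff, Set.mem_singleton_iff, Set.mem_univ, iff_true]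
      rcases hZmem x ((hσe x).1 hx) with h | h
      · left; exact Subtype.ext (Subtype.ext h)
      · right; exact Subtype.ext (Subtype.ext h)
  obtain ⟨f⟩ := sl2_of_psl2 hFodd e σ hσ kσ ((SK : Subgroup K).subgroupOf L) (by
      have h1 : (SK : Subgroup K).relIndex L ∣ (SK : Subgroup K).index := Subgroup.relIndex_dvd_index_of_le hSL
      exact Odd.of_dvd_nat hSKodd h1) (by
      intro v hv
      exact Subtype.ext (hSKsq v hv)) (by
      intro a ha
      rw [hσe]
      rcases hinv a (congrArg Subtype.val ha) with h | h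
      · rw [h]; exact one_mem _
      · rw [h]; exact mem_zpowers z)
  have hMn : M.Normal := hL.comap ρ
  let G₁ : Subgroup G := M.comap π
  have hG₁n : G₁.Normal := hMn.comap π
  have hOG : O ≤ G₁ := by
    intro x hx
    have h1 : π x = 1 := (QuotientGroup.eq_one_iff x).2 hx
    show π x ∈ M
    rw [h1]; exact one_mem _
  let θ : G₁ →* M := π.subgroupComap M
  have hθ : Function.Surjective θ := MonoidHom.subgroupComap_surjective_of_surjective π M hπ
  have hker : θ.ker = O.subgroupOf G₁ := by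
    ext x
    rw [MonoidHom.mem_ker, Subgroup.mem_subgroupOf, ← QuotientGroup.eq_one_iff]
    constructor
    · intro h; exact congrArg Subtype.val h
    · intro h; exact Subtype.ext h
  refine ⟨G₁, hG₁n, by rw [← hker]; infer_instance, ?_, hOG, F, iF, iFt, hF8, hF3, ?_⟩
  · have h1 : G₁.index = L.index := by
      rw [show G₁.index = M.index from Subgroup.index_comap_of_surjective M hπ]
      exact Subgroup.index_comap_of_surjective L hρ
    rw [h1]
    exact Odd.of_dvd_nat hSKodd (Subgroup.index_dvd_of_le hSL)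
  · exact ⟨((QuotientGroup.quotientMulEquivOfEq hker.symm).trans
      (QuotientGroup.quotientKerEquivOfSurjective θ hθ)).trans f⟩

end H12.GWCon
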