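import Cfsg.Agent.Lib.H12.GWConB
import Cfsg.Agent.Lib.H28.GW4Final

/-!
# The form of Gorenstein-Walter (Sylow 2 of order 4) used in S3307, S3896 (helper12)
-/

set_option autoImplicit false

universe u

namespace H12.GWCon

open Subgroup Cfsg

theorem gws : GWS.{u} := by
  intro H _ _ hs V hV hV2 hodd
  haveI : Fact (Nat.Prime 2) := ⟨Nat.prime_two⟩
  have hP : IsPGroup 2 V := IsPGroup.of_card (n := 2) (by rw [hV]; norm_num)
  have hidx : ¬ 2 ∣ V.index := fun h => (Nat.not_even_iff_odd.2 hodd) (even_iff_two_dvd.2 h)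
  obtain ⟨F, hF, hF2, h1, h2, h3⟩ := H28.GW4Final.gw4 H hs ⟨hP.toSylow hidx, hV⟩
  exact ⟨F, hF, hF2, h1, h2, h3⟩

end H12.GWCon
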