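import Cfsg.Agent.Lib.H11.Supersolvable2
import Cfsg.Agent.Lib.H1.Coprime2
import Cfsg.Agent.Lib.H12.Basic

set_option autoImplicit false

/-! In a supersolvable group `X`, `p'`-subgroups of `X' X^{p-1}` centralize normal
`p`-subgroups. -/

namespace H12.HuppertA

open Subgroup

/-- the subgroup `X' X^{p-1}` -/
def Dp (X : Type*) [Group X] (p : ℕ) : Subgroup X :=
  commutator X ⊔ Subgroup.closure (Set.range fun x : X => x ^ (p - 1))

theorem commutator_le_Dp (X : Type*) [Group X] (p : ℕ) : commutator X ≤ Dp X p := le_sup_left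

theorem pow_mem_Dp {X : Type*} [Group X] (p : ℕ) (x : X) : x ^ (p - 1) ∈ Dp X p :=
  le_sup_right (a := commutator X) (Subgroup.subset_closure ⟨x, rfl⟩)

theorem map_Dp_le {X Y : Type*} [Group X] [Group Y] (p : ℕ) (f : X →* Y) :
    (Dp X p).map f ≤ Dp Y p := by
  unfold Dp
  rw [Subgroup.map_sup]
  apply sup_le
  · refine le_trans ?_ le_sup_left
    rw [commutator_def, commutator_def, Subgroup.map_commutator]
    exact Subgroup.commutator_mono le_top le_top
  · refine le_trans ?_ le_sup_right
    rw [MonoidHom.map_closure]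
    apply Subgroup.closure_mono
    rintro _ ⟨_, ⟨x, rfl⟩, rfl⟩
    exact ⟨f x, by simp⟩

theorem Dp_le_centralizer {X : Type*} [Group X] [Finite X] {p : ℕ} [hp : Fact p.Prime]
    (M : Subgroup X) [M.Normal] (hM : Nat.card M = p) :
    Dp X p ≤ Subgroup.centralizer (M : Set X) := by
  have hcyc : IsCyclic M := isCyclic_of_prime_card hM
  let ψ : X →* (ZMod (Nat.card M))ˣ :=
    (IsCyclic.mulAutMulEquiv M).toMonoidHom.comp (MulAut.conjNormal (H := M))
  have hker : ψ.ker ≤ Subgroup.centralizer (M : Set X) := by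
    intro x hx
    rw [MonoidHom.mem_ker] at hx
    have h1 : MulAut.conjNormal (H := M) x = 1 := by
      apply (IsCyclic.mulAutMulEquiv M).injective
      rw [map_one]
      exact hx
    rw [Subgroup.mem_centralizer_iff]
    intro m hm
    have h2 := DFunLike.congr_fun h1 (⟨m, hm⟩ : M)
    have h3 : x * m * x⁻¹ = m := by
      have := congrArg Subtype.val h2
      simpa using this
    rw [mul_inv_eq_iff_eq_mul] at h3
    exact h3.symm
  refine le_trans ?_ hker
  unfold Dp
  apply sup_le
  · exact Abelianization.commutator_subset_ker ψ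
  · rw [Subgroup.closure_le]
    rintro _ ⟨x, rfl⟩
    rw [SetLike.mem_coe, MonoidHom.mem_ker, map_pow]
    have : Fact (Nat.card M).Prime := by rw [hM]; exact hp
    have h4 := ZMod.units_pow_card_sub_one_eq_one (Nat.card M) (ψ x)
    rw [← h4]
    congr 2
    exact hM.symm

theorem le_centralizer (n : ℕ) : ∀ {X : Type*} [Group X] [Finite X] (_ : Nat.card X = n)
    (_ : Cfsg.IsSupersolvable X) {p : ℕ} [Fact p.Prime] (R A : Subgroup X) (_ : R.Normal)
    (_ : IsPGroup p R) (_ : (Nat.card A).Coprime p) (_ : A ≤ Dp X p),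
    A ≤ Subgroup.centralizer (R : Set X) := by
  induction n using Nat.strong_induction_on with
  | _ n ih =>
    intro X _ _ hn hX p hp R A hR hRp hA hAD
    by_cases hRb : R = ⊥
    · subst hRb
      intro a _
      rw [Subgroup.mem_centralizer_iff]
      intro h hh
      rw [SetLike.mem_coe, Subgroup.mem_bot] at hh
      subst hh; simp
    obtain ⟨M, hM, hMR, hMp⟩ := H11.Supersolvable2.exists_normal_prime_le hX R hRb
    have hMcard : Nat.card M = p := by
      have h1 : IsPGroup p M := hRp.to_le hMR
      obtain ⟨k, hk⟩ := h1.exists_card_eq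
      rw [hk] at hMp ⊢
      have h2 : k = 1 := by
        have := hMp.eq_one_of_pow
        exact this
      rw [h2, pow_one]
    have hlt : Nat.card (X ⧸ M) < n := by
      rw [← hn, Subgroup.card_eq_card_quotient_mul_card_subgroup M]
      exact (lt_mul_iff_one_lt_right Nat.card_pos).2 hMp.one_lt
    have h1 := ih _ hlt rfl (H11.Supersolvable.quotient hX M) (p := p)
      (R.map (QuotientGroup.mk' M)) (A.map (QuotientGroup.mk' M))
      (hR.map _ (QuotientGroup.mk'_surjective M)) (hRp.map _)
      (Nat.Coprime.coprime_dvd_left (Subgroup.card_map_dvd _ _) hA)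
      ((Subgroup.map_mono hAD).trans (map_Dp_le p _))
    have h2 : ⁅R, A⁆ ≤ M := by
      rw [Subgroup.commutator_le]
      intro r hr a ha
      rw [← QuotientGroup.eq_one_iff]
      have h3 := Subgroup.mem_centralizer_iff.1 (h1 ⟨a, ha, rfl⟩) _ ⟨r, hr, rfl⟩
      exact commutatorElement_eq_one_iff_mul_comm.2 h3
    have h4 : ⁅M, A⁆ = ⊥ := by
      rw [Subgroup.commutator_comm, Subgroup.commutator_eq_bot_iff_le_centralizer]
      exact hAD.trans (Dp_le_centralizer M hMcard)
    apply H1.Coprime2.le_centralizer_of_series A R M _ _ _ h2 h4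
    · rw [Subgroup.normalizer_eq_top]; exact le_top
    · obtain ⟨k, hk⟩ := hRp.exists_card_eq
      rw [hk]
      exact Nat.Coprime.pow_right k hA
    · right
      have : Group.IsNilpotent R := hRp.isNilpotent
      infer_instance

end H12.HuppertA
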