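import Mathlib
import Cfsg.Agent.Lib.H12.KTwoB
import Cfsg.Agent.Lib.H28.RelSyl
import Cfsg.Agent.Lib.H26.ZStarUse

/-! The equality case of S3895: structure of the Sylow subgroup. -/

set_option autoImplicit false

namespace H12.KTwo

open H68.Isolated H68.TwoClass MulAction Subgroup
open scoped Pointwise

universe u

variable {G : Type u} [Group G] [Finite G]

/-- the situation -/
structure DD (P : Sylow 2 G) (x a b d : G) : Prop where
  aP : a ∈ P
  bP : b ∈ P
  dP : d ∈ P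
  xa : x * a * x⁻¹ = b
  xb : x * b * x⁻¹ = d
  xd : x * d * x⁻¹ = a
  nab : a⁻¹ * b ∉ center G
  na : a ∉ center G
  cl : ∀ g : G, g * a * g⁻¹ ∈ P → g * a * g⁻¹ = a ∨ g * a * g⁻¹ = b ∨ g * a * g⁻¹ = d
  rest : ∀ y ∈ P, (∀ z ∈ center G, y ≠ z ∧ y ≠ a * z ∧ y ≠ b * z ∧ y ≠ d * z) → ∀ g g' : G,
    g * y * g⁻¹ ∈ P → g' * y * g'⁻¹ ∈ P → g * y * g⁻¹ ≠ y → g' * y * g'⁻¹ ≠ y → g * y * g⁻¹ = g' * y * g'⁻¹
  zP : center G ≤ (P : Subgroup G)

theorem conj_center {g z : G} (hz : z ∈ center G) : g * z * g⁻¹ = z := by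
  rw [mem_center_iff.1 hz g, mul_inv_cancel_right]

theorem conj_not_center {g y : G} (h : y ∉ center G) : g * y * g⁻¹ ∉ center G := by
  intro h1
  apply h
  have h2 := conj_center (g := g⁻¹) h1
  have h3 : g⁻¹ * (g * y * g⁻¹) * g⁻¹⁻¹ = y := by group
  rw [h3] at h2
  rw [h2]; exact h1

theorem mem_of_nn (P : Sylow 2 G) {y : (P : Subgroup G)} (s : Finset (P : Subgroup G))
    (hs : ∀ c ∈ s, toClass P c = toClass P y) (h : nn P y ≤ s.card) (c : (P : Subgroup G))
    (hc : toClass P c = toClass P y) : c ∈ s := by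
  classical
  by_contra hcs
  have h1 := nn_ge P (y := y) (insert c s) (by
    intro e he
    rcases Finset.mem_insert.1 he with rfl | he
    · exact hc
    · exact hs e he)
  rw [Finset.card_insert_of_notMem hcs] at h1
  omega

theorem center_isPGroup (hO : Cfsg.pPrimeCore 2 G = ⊥) : IsPGroup 2 (center G) := by
  rw [IsPGroup.iff_orderOf]
  rintro ⟨c, hc⟩
  rw [Subgroup.orderOf_mk]
  obtain ⟨k, m, hm, hkm⟩ := Nat.exists_eq_two_pow_mul_odd (n := orderOf c) (orderOf_pos c).ne'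
  have h1 : orderOf (c ^ 2 ^ k) = m := by
    rw [orderOf_pow, hkm, Nat.gcd_eq_right (Dvd.intro _ rfl), Nat.mul_div_cancel_left _ (by positivity)]
  have hn : (zpowers (c ^ 2 ^ k)).Normal := by
    refine ⟨fun n hn g => ?_⟩
    have h2 : n ∈ center G := (zpowers_le.2 (pow_mem hc _)) hn
    rw [conj_center h2]; exact hn
  have h2 : zpowers (c ^ 2 ^ k) ≤ Cfsg.pPrimeCore 2 G := by
    apply H1.Cores.le_pPrimeCore hn
    rw [Nat.card_zpowers, h1]
    exact Nat.coprime_two_right.2 hm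
  rw [hO, le_bot_iff, zpowers_eq_bot] at h2
  exact (Nat.dvd_prime_pow Nat.prime_two).1 (orderOf_dvd_of_pow_eq_one h2) |>.imp (fun _ h => h.2)

theorem exists_DD (hZ : H26.ZStarUse.ZStarHyp.{u}) (hO : Cfsg.pPrimeCore 2 G = ⊥) (P : Sylow 2 G) (x w : G)
    (hwk : ∀ k : ℕ, x ^ k * w * (x ^ k)⁻¹ ∈ P) (hx : ∀ z : G, IsIso P z → x * z * x⁻¹ = z)
    (h01 : ¬ IsIso P (w⁻¹ * (x * w * x⁻¹))) (h02 : ¬ IsIso P (w⁻¹ * (x ^ 2 * w * (x ^ 2)⁻¹)))
    (hk : 2 * Nat.card (PClass 2 G) = Nat.card (P : Subgroup G)) : ∃ a b d : G, DD P x a b d := by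
  classical
  have hp2 : Fact (Nat.Prime 2) := ⟨Nat.prime_two⟩
  have hzP : center G ≤ (P : Subgroup G) := (center_isPGroup hO).le_sylow_of_normal P
  have hiso : ∀ z, IsIso P z ↔ z ∈ center G := by
    intro z
    constructor
    · intro h
      have h1 : isoSubgroup P ≤ center G := H26.ZStarUse.isoIn_aux hZ _ G P (isoSubgroup P) rfl hO (isoSubgroup_le P)
        (fun c hc y hy => hc.2 y hy)
      exact h1 h
    · intro h
      exact ⟨hzP h, fun g _ => conj_center h⟩
  have hw0 : w ∈ P := by simpa using hwk 0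
  have hw1 : x * w * x⁻¹ ∈ P := by simpa using hwk 1
  have hw2 := hwk 2
  obtain ⟨e1, e2⟩ := eqcase P x w hw0 hw1 hw2 hx h01 h02 hk
  have e3 : x * (x * w * x⁻¹) * x⁻¹ = x ^ 2 * w * (x ^ 2)⁻¹ := by rw [pow_two]; group
  have hne1 : w ≠ x * w * x⁻¹ := by
    intro h
    apply h01
    rw [← h, inv_mul_cancel]; exact IsIso.one P
  have hne2 : w ≠ x ^ 2 * w * (x ^ 2)⁻¹ := by
    intro h
    apply h02
    rw [← h, inv_mul_cancel]; exact IsIso.one P
  have hne3 : x * w * x⁻¹ ≠ x ^ 2 * w * (x ^ 2)⁻¹ := by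
    intro h
    rw [← e3] at h
    apply hne1
    have := congrArg (fun y => x⁻¹ * y * x) h
    simpa [mul_assoc] using this
  have hcl : ∀ g : G, g * w * g⁻¹ ∈ P → g * w * g⁻¹ = w ∨ g * w * g⁻¹ = x * w * x⁻¹ ∨
      g * w * g⁻¹ = x ^ 2 * w * (x ^ 2)⁻¹ := by
    intro g hg
    have h3 := e1 ⟨w, hw0⟩ ⟨1, IsIso.one P, Or.inl (by simp)⟩
    have h4 := mem_of_nn P (y := ⟨w, hw0⟩) {⟨w, hw0⟩, ⟨x * w * x⁻¹, hw1⟩, ⟨x ^ 2 * w * (x ^ 2)⁻¹, hw2⟩} (by
      intro c hc
      simp only [Finset.mem_insert, Finset.mem_singleton] at hc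
      rcases hc with rfl | rfl | rfl
      · rfl
      · symm; rw [toClass_eq_iff]; exact ⟨x, rfl⟩
      · symm; rw [toClass_eq_iff]; exact ⟨x ^ 2, rfl⟩) (by
      rw [h3]
      rw [Finset.card_insert_of_notMem, Finset.card_insert_of_notMem, Finset.card_singleton]
      · simp only [Finset.mem_singleton, Subtype.mk.injEq]; exact hne3
      · simp only [Finset.mem_insert, Finset.mem_singleton, Subtype.mk.injEq, not_or]
        exact ⟨hne1, hne2⟩) ⟨g * w * g⁻¹, hg⟩ (by
      symm; rw [toClass_eq_iff]; exact ⟨g, rfl⟩)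
    simpa [Finset.mem_insert, Subtype.mk.injEq] using h4
  refine ⟨w, x * w * x⁻¹, x ^ 2 * w * (x ^ 2)⁻¹, hw0, hw1, hw2, rfl, e3, ?_, ?_, ?_, hcl, ?_, hzP⟩
  · have e4 : x * (x ^ 2 * w * (x ^ 2)⁻¹) * x⁻¹ = x ^ 3 * w * (x ^ 3)⁻¹ := by rw [pow_succ' x 2]; group
    rw [e4]
    rcases hcl _ (hwk 3) with h | h | h
    · exact h
    · exfalso
      rw [← e4] at h
      apply hne2
      have := congrArg (fun y => x⁻¹ * y * x) h
      have h5 : x⁻¹ * (x * (x ^ 2 * w * (x ^ 2)⁻¹) * x⁻¹) * x = x ^ 2 * w * (x ^ 2)⁻¹ := by group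
      have h6 : x⁻¹ * (x * w * x⁻¹) * x = w := by group
      simp only [h5, h6] at this
      exact this.symm
    · exfalso
      rw [← e4, ← e3] at h
      apply hne3
      have := congrArg (fun y => x⁻¹ * y * x) h
      have h5 : x⁻¹ * (x * (x * (x * w * x⁻¹) * x⁻¹) * x⁻¹) * x = x * (x * w * x⁻¹) * x⁻¹ := by group
      have h6 : x⁻¹ * (x * (x * w * x⁻¹) * x⁻¹) * x = x * w * x⁻¹ := by group
      simp only [h5, h6] at this
      rw [← e3]; exact this.symm
  · rw [← hiso]; exact h01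
  · rw [← hiso]
    intro h
    exact hne1 (hx w h).symm
  · intro y hy hT g g' hg hg' hgy hgy'
    have h2 := e2 ⟨y, hy⟩ (by
      rw [hiso]; intro h; exact (hT y h).1 rfl) (by
      rintro ⟨z, hz, h⟩
      obtain ⟨-, h3, h4, h5⟩ := hT z ((hiso z).1 hz)
      rcases h with h | h | h
      · exact h3 h
      · exact h4 h
      · exact h5 h)
    have h4 := mem_of_nn P (y := ⟨y, hy⟩) {⟨y, hy⟩, ⟨g * y * g⁻¹, hg⟩} (by
      intro c hc
      simp only [Finset.mem_insert, Finset.mem_singleton] at hc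
      rcases hc with rfl | rfl
      · rfl
      · symm; rw [toClass_eq_iff]; exact ⟨g, rfl⟩) (by
      rw [h2, Finset.card_pair]
      intro h; exact hgy (congrArg Subtype.val h).symm) ⟨g' * y * g'⁻¹, hg'⟩ (by
      symm; rw [toClass_eq_iff]; exact ⟨g', rfl⟩)
    simp only [Finset.mem_insert, Finset.mem_singleton, Subtype.mk.injEq] at h4
    rcases h4 with h | h
    · exact absurd h hgy'
    · exact h.symm

namespace DD

variable {P : Sylow 2 G} {x a b d : G}

theorem nb (h : DD P x a b d) : b ∉ center G := by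
  rw [← h.xa]; exact conj_not_center h.na

theorem rot (h : DD P x a b d) : DD P x b d a where
  aP := h.bP
  bP := h.dP
  dP := h.aP
  xa := h.xb
  xb := h.xd
  xd := h.xa
  nab := by
    have e : b⁻¹ * d = x * (a⁻¹ * b) * x⁻¹ := by
      rw [← h.xb]
      nth_rw 1 [← h.xa]
      group
    rw [e]; exact conj_not_center h.nab
  na := h.nb
  cl := by
    intro g hg
    have e : g * b * g⁻¹ = (g * x) * a * (g * x)⁻¹ := by rw [← h.xa]; group
    rw [e] at hg ⊢
    rcases h.cl _ hg with h1 | h1 | h1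
    · right; right; exact h1
    · left; exact h1
    · right; left; exact h1
  rest := by
    intro y hy hT
    apply h.rest y hy
    intro z hz
    obtain ⟨h1, h2, h3, h4⟩ := hT z hz
    exact ⟨h1, h4, h2, h3⟩
  zP := h.zP

theorem ne_ab (h : DD P x a b d) : a ≠ b := by
  intro h1
  apply h.nab
  rw [h1, inv_mul_cancel]; exact one_mem _

theorem ne_bd (h : DD P x a b d) : b ≠ d := h.rot.ne_ab
theorem ne_da (h : DD P x a b d) : d ≠ a := h.rot.rot.ne_ab

/-- conjugates of the three elements in `P` -/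
theorem cl' (h : DD P x a b d) {u : G} (hu : u = a ∨ u = b ∨ u = d) {g : G} (hg : g * u * g⁻¹ ∈ P) :
    g * u * g⁻¹ = a ∨ g * u * g⁻¹ = b ∨ g * u * g⁻¹ = d := by
  rcases hu with rfl | rfl | rfl
  · exact h.cl g hg
  · rcases h.rot.cl g hg with h1 | h1 | h1
    · right; left; exact h1
    · right; right; exact h1
    · left; exact h1
  · rcases h.rot.rot.cl g hg with h1 | h1 | h1
    · right; right; exact h1
    · left; exact h1
    · right; left; exact h1

theorem memP (h : DD P x a b d) {u : G} (hu : u = a ∨ u = b ∨ u = d) : u ∈ P := by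
  rcases hu with rfl | rfl | rfl
  · exact h.aP
  · exact h.bP
  · exact h.dP

/-- one of the three elements is central in `P` -/
theorem exists_central (h : DD P x a b d) : ∃ a' b' d' : G, DD P x a' b' d' ∧ ∀ p ∈ P, p * a' * p⁻¹ = a' := by
  classical
  have hp2 : Fact (Nat.Prime 2) := ⟨Nat.prime_two⟩
  let Y := {u : G // u = a ∨ u = b ∨ u = d}
  letI : MulAction (P : Subgroup G) Y :=
    { smul := fun p u => ⟨p * u * (p : G)⁻¹, h.cl' u.2 (mul_mem (mul_mem p.2 (h.memP u.2)) (inv_mem p.2))⟩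
      one_smul := fun u => Subtype.ext (by show ((1 : (P : Subgroup G)) : G) * u * ((1 : (P : Subgroup G)) : G)⁻¹ = u; simp)
      mul_smul := fun p q u => Subtype.ext (by
        show ((p * q : (P : Subgroup G)) : G) * u * ((p * q : (P : Subgroup G)) : G)⁻¹ = p * (q * u * (q : G)⁻¹) * (p : G)⁻¹
        rw [Subgroup.coe_mul]; group) }
  have hY : Nat.card Y = 3 := by
    have h1 : Nat.card Y = ((({a, b, d} : Finset G) : Set G)).ncard := by
      rw [← Nat.card_coe_set_eq]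
      apply Nat.card_congr
      exact Equiv.subtypeEquivRight (fun u => by simp)
    rw [h1, Set.ncard_coe_finset, Finset.card_insert_of_notMem, Finset.card_insert_of_notMem, Finset.card_singleton]
    · simp only [Finset.mem_singleton]; exact h.ne_bd
    · simp only [Finset.mem_insert, Finset.mem_singleton, not_or]
      exact ⟨h.ne_ab, h.ne_da.symm⟩
  obtain ⟨⟨u, hu⟩, hfix⟩ := P.2.nonempty_fixed_point_of_prime_not_dvd_card Y (by rw [hY]; norm_num)
  have hfix' : ∀ p ∈ P, p * u * p⁻¹ = u := by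
    intro p hp
    exact congrArg Subtype.val (hfix ⟨p, hp⟩)
  rcases hu with rfl | rfl | rfl
  · exact ⟨_, _, _, h, hfix'⟩
  · exact ⟨_, _, _, h.rot, hfix'⟩
  · exact ⟨_, _, _, h.rot.rot, hfix'⟩

end DD

end H12.KTwo
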