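import Mathlib
import Cfsg.Agent.Lib.H12.KTwoC

/-! The equality case of S3895: the subgroup `C_P(a,b,d)` has order `4 |Z(G)|`. -/

set_option autoImplicit false

namespace H12.KTwo

open H68.Isolated H68.TwoClass MulAction Subgroup
open scoped Pointwise

universe u

variable {G : Type u} [Group G]

/-- the pointwise centralizer -/
def Ca (a b d : G) : Subgroup G := centralizer ({a, b, d} : Set G)

theorem mem_Ca {a b d g : G} : g ∈ Ca a b d ↔ g * a = a * g ∧ g * b = b * g ∧ g * d = d * g := by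
  rw [Ca, mem_centralizer_iff]
  constructor
  · intro h
    exact ⟨(h a (by simp)).symm, (h b (by simp)).symm, (h d (by simp)).symm⟩
  · rintro ⟨h1, h2, h3⟩ y hy
    simp only [Set.mem_insert_iff, Set.mem_singleton_iff] at hy
    rcases hy with rfl | rfl | rfl
    · exact h1.symm
    · exact h2.symm
    · exact h3.symm

/-- the setwise stabilizer -/
def Na (a b d : G) : Subgroup G := normalizer ({a, b, d} : Set G)

theorem Na_le (a b d : G) : Na a b d ≤ normalizer (Ca a b d : Set G) := by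
  have key : ∀ g ∈ Na a b d, ∀ k ∈ Ca a b d, g * k * g⁻¹ ∈ Ca a b d := by
    intro g hg k hk
    rw [Ca, mem_centralizer_iff] at hk ⊢
    intro y hy
    have h1 : g⁻¹ * y * g ∈ ({a, b, d} : Set G) := by
      rw [Na, mem_set_normalizer_iff] at hg
      rw [hg]
      have e : g * (g⁻¹ * y * g) * g⁻¹ = y := by group
      rw [e]; exact hy
    have h2 := hk _ h1
    calc y * (g * k * g⁻¹) = g * ((g⁻¹ * y * g) * k) * g⁻¹ := by group
      _ = g * (k * (g⁻¹ * y * g)) * g⁻¹ := by rw [h2]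
      _ = g * k * g⁻¹ * y := by group
  intro g hg
  rw [mem_normalizer_iff]
  intro k
  constructor
  · exact key g hg k
  · intro hk
    have := key g⁻¹ (inv_mem hg) _ hk
    have e : g⁻¹ * (g * k * g⁻¹) * g⁻¹⁻¹ = k := by group
    rwa [e] at this

theorem Ca_le (a b d : G) : Ca a b d ≤ Na a b d := by
  intro g hg
  rw [Ca, mem_centralizer_iff] at hg
  rw [Na, mem_set_normalizer_iff]
  intro y
  constructor
  · intro hy
    rw [← hg y hy, mul_inv_cancel_right]; exact hy
  · intro hy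
    have h1 := hg _ hy
    have h2 : g * y * g⁻¹ = y := by
      calc g * y * g⁻¹ = g⁻¹ * (g * (g * y * g⁻¹)) := by group
        _ = g⁻¹ * ((g * y * g⁻¹) * g) := by rw [h1]
        _ = y := by group
    rwa [h2] at hy

theorem two_pow_three {i j : ℕ} (h : 2 ^ j = 2 ^ i + 3) : i = 0 ∧ j = 2 := by
  have hj : j ≠ 0 := by
    rintro rfl
    have : 0 < 2 ^ i := by positivity
    simp at h
  have hi : i = 0 := by
    by_contra hi
    obtain ⟨i', rfl⟩ := Nat.exists_eq_succ_of_ne_zero hi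
    obtain ⟨j', rfl⟩ := Nat.exists_eq_succ_of_ne_zero hj
    rw [pow_succ, pow_succ] at h
    omega
  subst hi
  refine ⟨rfl, ?_⟩
  have h1 : 2 ^ j = 2 ^ 2 := by rw [h]; norm_num
  exact Nat.pow_right_injective (le_refl 2) h1

variable [Finite G]

namespace DD

variable {P : Sylow 2 G} {x a b d : G}

theorem P_le_Na (h : DD P x a b d) : (P : Subgroup G) ≤ Na a b d := by
  have key : ∀ p ∈ P, ∀ y ∈ ({a, b, d} : Set G), p * y * p⁻¹ ∈ ({a, b, d} : Set G) := by
    intro p hp y hy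
    simp only [Set.mem_insert_iff, Set.mem_singleton_iff] at hy ⊢
    exact h.cl' hy (mul_mem (mul_mem hp (h.memP hy)) (inv_mem hp))
  intro p hp
  rw [Na, mem_set_normalizer_iff]
  intro y
  constructor
  · exact key p hp y
  · intro hy
    have := key p⁻¹ (inv_mem hp) _ hy
    have e : p⁻¹ * (p * y * p⁻¹) * p⁻¹⁻¹ = y := by group
    rwa [e] at this

theorem x_mem_Na (h : DD P x a b d) : x ∈ Na a b d := by
  rw [Na, mem_set_normalizer_iff]
  intro y
  simp only [Set.mem_insert_iff, Set.mem_singleton_iff]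
  have hinj : ∀ u v : G, x * u * x⁻¹ = x * v * x⁻¹ → u = v := by
    intro u v huv
    have := mul_right_cancel huv
    exact mul_left_cancel this
  constructor
  · rintro (rfl | rfl | rfl)
    · right; left; exact h.xa
    · right; right; exact h.xb
    · left; exact h.xd
  · rintro (h1 | h1 | h1)
    · right; right; exact hinj _ _ (h1.trans h.xd.symm)
    · left; exact hinj _ _ (h1.trans h.xa.symm)
    · right; left; exact hinj _ _ (h1.trans h.xb.symm)

/-- an element of odd order normalizing `C_P(a,b,d)` and moving `a`, `b`, `d` -/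
theorem exists_odd (h : DD P x a b d) : ∃ m : G, Odd (orderOf m) ∧
    m ∈ normalizer (((P : Subgroup G) ⊓ Ca a b d : Subgroup G) : Set G) ∧
    m * a ≠ a * m ∧ m * b ≠ b * m ∧ m * d ≠ d * m := by
  have hp2 : Fact (Nat.Prime 2) := ⟨Nat.prime_two⟩
  have h1 : H28.RelSyl.IsSyl 2 (P : Subgroup G) (Na a b d) :=
    (H28.RelSyl.isSyl_top P).of_le_of_le h.P_le_Na le_top
  have h2 := h1.inf_normal (Na_le a b d) (Ca_le a b d)
  obtain ⟨n, hn, m, hm, hnm⟩ := h2.frattini (Na_le a b d) h.x_mem_Na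
  obtain ⟨hna, hnb, hnd⟩ := mem_Ca.1 hn
  have hmx : m = n⁻¹ * x := by rw [hnm]; group
  have hconj : ∀ u v : G, x * u * x⁻¹ = v → n * v = v * n → m * u * m⁻¹ = v := by
    intro u v huv hv
    rw [hmx]
    calc n⁻¹ * x * u * (n⁻¹ * x)⁻¹ = n⁻¹ * (x * u * x⁻¹) * n := by group
      _ = n⁻¹ * (v * n) := by rw [huv, mul_assoc]
      _ = v := by rw [← hv]; group
  have ma := hconj a b h.xa hnb
  have mb := hconj b d h.xb hnd
  have md := hconj d a h.xd hna
  have m3 : ∀ u v w : G, m * u * m⁻¹ = v → m * v * m⁻¹ = w → m * w * m⁻¹ = u → m ^ 3 * u = u * m ^ 3 := by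
    intro u v w e1 e2 e3
    have : m ^ 3 * u * (m ^ 3)⁻¹ = u := by
      calc m ^ 3 * u * (m ^ 3)⁻¹ = m * (m * (m * u * m⁻¹) * m⁻¹) * m⁻¹ := by rw [pow_succ, pow_two]; group
        _ = u := by rw [e1, e2, e3]
    exact mul_inv_eq_iff_eq_mul.1 this
  obtain ⟨k, r, hr, hkr⟩ := Nat.exists_eq_two_pow_mul_odd (n := orderOf m) (orderOf_pos m).ne'
  have hmove : ∀ u v w : G, m * u * m⁻¹ = v → m * v * m⁻¹ = w → m * w * m⁻¹ = u → u ≠ v →
      m ^ 2 ^ k * u ≠ u * m ^ 2 ^ k := by
    intro u v w e1 e2 e3 huv hc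
    apply huv
    have hc3 : Commute (m ^ 3) u := m3 u v w e1 e2 e3
    have hc2 : Commute (m ^ 2 ^ k) u := hc
    have hcop : Nat.Coprime (2 ^ k) 3 := Nat.Coprime.pow_left k (by norm_num)
    have hb : (1 : ℤ) = 3 * Nat.gcdA 3 (2 ^ k) + 2 ^ k * Nat.gcdB 3 (2 ^ k) := by
      have := Nat.gcd_eq_gcd_ab 3 (2 ^ k)
      rw [hcop.symm.gcd_eq_one] at this
      exact_mod_cast this
    have hm1 : m = (m ^ 3) ^ (Nat.gcdA 3 (2 ^ k)) * (m ^ 2 ^ k) ^ (Nat.gcdB 3 (2 ^ k)) := by
      rw [← zpow_natCast m 3, ← zpow_natCast m (2 ^ k), ← zpow_mul, ← zpow_mul, ← zpow_add]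
      push_cast
      rw [← hb, zpow_one]
    have hcm : Commute m u := by
      rw [hm1]
      exact (hc3.zpow_left _).mul_left (hc2.zpow_left _)
    rw [← e1, hcm.eq, mul_inv_cancel_right]
  refine ⟨m ^ 2 ^ k, ?_, pow_mem hm _, hmove a b d ma mb md h.ne_ab, hmove b d a mb md ma h.ne_bd,
    hmove d a b md ma mb h.ne_da⟩
  rw [orderOf_pow, hkr, Nat.gcd_eq_right (Dvd.intro _ rfl), Nat.mul_div_cancel_left _ (by positivity)]
  exact hr

theorem comm_all (h : DD P x a b d) (ha : ∀ p ∈ P, p * a * p⁻¹ = a) :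
    a ∈ Ca a b d ∧ b ∈ Ca a b d ∧ d ∈ Ca a b d := by
  have hab : b * a = a * b := mul_inv_eq_iff_eq_mul.1 (ha b h.bP)
  have hda : d * a = a * d := mul_inv_eq_iff_eq_mul.1 (ha d h.dP)
  have hbd : b * d = d * b := by
    rcases h.cl' (u := d) (g := b) (Or.inr (Or.inr rfl)) (mul_mem (mul_mem h.bP h.dP) (inv_mem h.bP)) with h1 | h1 | h1
    · exfalso
      apply h.ne_da
      calc d = b⁻¹ * (b * d * b⁻¹) * b := by group
        _ = b⁻¹ * (a * b) := by rw [h1, mul_assoc]
        _ = b⁻¹ * (b * a) := by rw [hab]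
        _ = a := by group
    · exfalso
      apply h.ne_bd
      calc b = b⁻¹ * (b) * b := by group
        _ = b⁻¹ * (b * d * b⁻¹) * b := by rw [h1]
        _ = d := by group
    · exact mul_inv_eq_iff_eq_mul.1 h1
  exact ⟨mem_Ca.2 ⟨rfl, hab.symm, hda.symm⟩, mem_Ca.2 ⟨hab, rfl, hbd⟩, mem_Ca.2 ⟨hda, hbd.symm, rfl⟩⟩

/-- the main count -/
theorem core (h : DD P x a b d) (ha : ∀ p ∈ P, p * a * p⁻¹ = a) :
    (∀ c ∈ (P : Subgroup G) ⊓ Ca a b d, ∃ z ∈ center G, c = z ∨ c = a * z ∨ c = b * z ∨ c = d * z) ∧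
    Nat.card ((P : Subgroup G) ⊓ Ca a b d : Subgroup G) = 4 * Nat.card (center G) := by
  classical
  have hp2 : Fact (Nat.Prime 2) := ⟨Nat.prime_two⟩
  obtain ⟨m, hmo, hmn, hma, hmb, hmd⟩ := h.exists_odd
  obtain ⟨haa, hb, hd⟩ := h.comm_all ha
  set C : Subgroup G := (P : Subgroup G) ⊓ Ca a b d with hC
  have hZC : center G ≤ C := by
    intro z hz
    refine ⟨h.zP hz, mem_Ca.2 ⟨?_, ?_, ?_⟩⟩ <;> exact (mem_center_iff.1 hz _).symm
  -- outside T, `m` acts trivially
  have hout : ∀ y ∈ C, (∀ z ∈ center G, y ≠ z ∧ y ≠ a * z ∧ y ≠ b * z ∧ y ≠ d * z) → m * y = y * m := by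
    intro y hy hT
    have hmy : m * y * m⁻¹ ∈ C := (mem_normalizer_iff.1 hmn y).1 hy
    have hm2y : m ^ 2 * y * (m ^ 2)⁻¹ ∈ C := (mem_normalizer_iff.1 (pow_mem hmn 2) y).1 hy
    by_contra hne
    have h1 : m * y * m⁻¹ ≠ y := fun he => hne (mul_inv_eq_iff_eq_mul.1 he)
    by_cases h2 : m ^ 2 * y * (m ^ 2)⁻¹ = y
    · -- odd order
      apply hne
      have hc2 : Commute (m ^ 2) y := mul_inv_eq_iff_eq_mul.1 h2
      obtain ⟨j, hj⟩ := hmo
      have hm1 : m = (m ^ 2) ^ (j + 1) := by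
        rw [← pow_mul, show 2 * (j + 1) = orderOf m + 1 by omega, pow_succ, pow_orderOf_eq_one, one_mul]
      have hc : Commute m y := by
        rw [hm1]; exact hc2.pow_left _
      exact hc
    · have h3 := h.rest y hy.1 hT m (m ^ 2) hmy.1 hm2y.1 h1 h2
      apply h1
      have e : m ^ 2 * y * (m ^ 2)⁻¹ = m * (m * y * m⁻¹) * m⁻¹ := by rw [pow_two]; group
      rw [e] at h3
      have h4 := mul_right_cancel h3
      exact (mul_left_cancel h4).symm
  set F : Subgroup G := C ⊓ centralizer {m} with hF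
  have hZF : center G ≤ F := by
    intro z hz
    exact ⟨hZC hz, mem_centralizer_singleton_iff.2 (mem_center_iff.1 hz m).symm⟩
  have hFm : ∀ y, y ∈ F ↔ y ∈ C ∧ m * y = y * m := by
    intro y
    rw [hF, mem_inf, mem_centralizer_singleton_iff]
    exact and_congr_right fun _ => eq_comm
  -- T without Z is moved
  have hmove : ∀ z ∈ center G, m * (a * z) ≠ a * z * m ∧ m * (b * z) ≠ b * z * m ∧ m * (d * z) ≠ d * z * m := by
    have key : ∀ u : G, m * u ≠ u * m → ∀ z ∈ center G, m * (u * z) ≠ u * z * m := by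
      intro u hu z hz he
      apply hu
      have hz' := mem_center_iff.1 hz m
      have : m * u * z = u * m * z := by
        calc m * u * z = m * (u * z) := by group
          _ = u * z * m := he
          _ = u * (z * m) := by group
          _ = u * (m * z) := by rw [hz']
          _ = u * m * z := by group
      exact mul_right_cancel this
    intro z hz
    exact ⟨key a hma z hz, key b hmb z hz, key d hmd z hz⟩
  -- disjointness of the cosets
  have hab : ∀ z ∈ center G, ∀ z' ∈ center G, a * z ≠ b * z' := by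
    intro z hz z' hz' he
    apply h.nab
    have : a⁻¹ * b = z * z'⁻¹ := by
      calc a⁻¹ * b = a⁻¹ * (b * z') * z'⁻¹ := by group
        _ = a⁻¹ * (a * z) * z'⁻¹ := by rw [he]
        _ = z * z'⁻¹ := by group
    rw [this]; exact mul_mem hz (inv_mem hz')
  have hbd : ∀ z ∈ center G, ∀ z' ∈ center G, b * z ≠ d * z' := by
    intro z hz z' hz' he
    apply h.rot.nab
    have : b⁻¹ * d = z * z'⁻¹ := by
      calc b⁻¹ * d = b⁻¹ * (d * z') * z'⁻¹ := by group
        _ = b⁻¹ * (b * z) * z'⁻¹ := by rw [he]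
        _ = z * z'⁻¹ := by group
    rw [this]; exact mul_mem hz (inv_mem hz')
  have hda : ∀ z ∈ center G, ∀ z' ∈ center G, d * z ≠ a * z' := by
    intro z hz z' hz' he
    apply h.rot.rot.nab
    have : d⁻¹ * a = z * z'⁻¹ := by
      calc d⁻¹ * a = d⁻¹ * (a * z') * z'⁻¹ := by group
        _ = d⁻¹ * (d * z) * z'⁻¹ := by rw [he]
        _ = z * z'⁻¹ := by group
    rw [this]; exact mul_mem hz (inv_mem hz')
  let co : G → Set G := fun u => (fun z => u * z) '' (center G : Set G)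
  have hco : ∀ u, (co u).ncard = Nat.card (center G) := by
    intro u
    rw [Set.ncard_image_of_injective _ (mul_right_injective u)]
    rfl
  have hset : (C : Set G) = (F : Set G) ∪ (co a ∪ (co b ∪ co d)) := by
    ext y
    simp only [Set.mem_union, SetLike.mem_coe, co, Set.mem_image]
    constructor
    · intro hy
      by_cases hT : ∀ z ∈ center G, y ≠ z ∧ y ≠ a * z ∧ y ≠ b * z ∧ y ≠ d * z
      · left; exact (hFm y).2 ⟨hy, hout y hy hT⟩
      · push Not at hT
        obtain ⟨z, hz, hT⟩ := hT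
        by_cases h1 : y = z
        · left; rw [h1]; exact hZF hz
        by_cases h2 : y = a * z
        · right; left; exact ⟨z, hz, h2.symm⟩
        by_cases h3 : y = b * z
        · right; right; left; exact ⟨z, hz, h3.symm⟩
        · right; right; right; exact ⟨z, hz, (hT h1 h2 h3).symm⟩
    · rintro (hy | ⟨z, hz, rfl⟩ | ⟨z, hz, rfl⟩ | ⟨z, hz, rfl⟩)
      · exact ((hFm y).1 hy).1
      · exact mul_mem ⟨h.aP, haa⟩ (hZC hz)
      · exact mul_mem ⟨h.bP, hb⟩ (hZC hz)
      · exact mul_mem ⟨h.dP, hd⟩ (hZC hz)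
  have hd1 : Disjoint (co b) (co d) := by
    rw [Set.disjoint_left]
    rintro y ⟨z, hz, rfl⟩ ⟨z', hz', he⟩
    exact hbd z hz z' hz' he.symm
  have hd2 : Disjoint (co a) (co b ∪ co d) := by
    rw [Set.disjoint_left]
    rintro y ⟨z, hz, rfl⟩ (⟨z', hz', he⟩ | ⟨z', hz', he⟩)
    · exact hab z hz z' hz' he.symm
    · exact hda z' hz' z hz he
  have hd3 : Disjoint (F : Set G) (co a ∪ (co b ∪ co d)) := by
    rw [Set.disjoint_left]
    rintro y hy (⟨z, hz, rfl⟩ | ⟨z, hz, rfl⟩ | ⟨z, hz, rfl⟩)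
    · exact (hmove z hz).1 ((hFm _).1 hy).2
    · exact (hmove z hz).2.1 ((hFm _).1 hy).2
    · exact (hmove z hz).2.2 ((hFm _).1 hy).2
  have hcard : Nat.card C = Nat.card F + 3 * Nat.card (center G) := by
    have h1 : (C : Set G).ncard = (F : Set G).ncard + 3 * Nat.card (center G) := by
      rw [hset, Set.ncard_union_eq hd3 (Set.toFinite _) (Set.toFinite _),
        Set.ncard_union_eq hd2 (Set.toFinite _) (Set.toFinite _),
        Set.ncard_union_eq hd1 (Set.toFinite _) (Set.toFinite _), hco, hco, hco]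
      ring
    exact h1
  have hCp : IsPGroup 2 C := P.2.to_le inf_le_left
  obtain ⟨c, hc⟩ := IsPGroup.iff_card.1 hCp
  obtain ⟨f, hf⟩ := IsPGroup.iff_card.1 (hCp.to_le (inf_le_left : F ≤ C))
  obtain ⟨e, he⟩ := IsPGroup.iff_card.1 (hCp.to_le hZC)
  have hef : e ≤ f := by
    have h1 := Subgroup.card_dvd_of_le hZF
    rw [he, hf] at h1
    exact (Nat.pow_dvd_pow_iff_le_right (by norm_num)).1 h1
  have hec : e ≤ c := by
    have h1 := Subgroup.card_dvd_of_le hZC
    rw [he, hc] at h1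
    exact (Nat.pow_dvd_pow_iff_le_right (by norm_num)).1 h1
  obtain ⟨i, rfl⟩ := Nat.exists_eq_add_of_le hef
  obtain ⟨j, rfl⟩ := Nat.exists_eq_add_of_le hec
  have hij : 2 ^ j = 2 ^ i + 3 := by
    rw [hc, hf, he, pow_add, pow_add] at hcard
    have h1 : 2 ^ e * 2 ^ j = 2 ^ e * (2 ^ i + 3) := by rw [hcard]; ring
    exact Nat.eq_of_mul_eq_mul_left (by positivity) h1
  obtain ⟨rfl, rfl⟩ := two_pow_three hij
  have hFZ : center G = F := by
    apply Subgroup.eq_of_le_of_card_ge hZF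
    rw [hf, he, add_zero]
  constructor
  · intro y hy
    by_cases hT : ∀ z ∈ center G, y ≠ z ∧ y ≠ a * z ∧ y ≠ b * z ∧ y ≠ d * z
    · exfalso
      have h1 : y ∈ F := (hFm y).2 ⟨hy, hout y hy hT⟩
      rw [← hFZ] at h1
      exact (hT y h1).1 rfl
    · push Not at hT
      obtain ⟨z, hz, hT⟩ := hT
      refine ⟨z, hz, ?_⟩
      by_contra hcon
      push Not at hcon
      exact hcon.2.2.2 (hT hcon.1 hcon.2.1 hcon.2.2.1)
  · rw [hc, he, pow_add]; ring

/-- squares in `C_P(a,b,d)` are central -/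
theorem sq (h : DD P x a b d) (ha : ∀ p ∈ P, p * a * p⁻¹ = a) :
    ∀ c ∈ (P : Subgroup G) ⊓ Ca a b d, c * c ∈ center G := by
  have hp2 : Fact (Nat.Prime 2) := ⟨Nat.prime_two⟩
  obtain ⟨haa, hb, hd⟩ := h.comm_all ha
  obtain ⟨hT, -⟩ := h.core ha
  have h7 : ∀ z ∈ center G, a ^ 7 = z → a ∈ center G := by
    intro z hz h1
    obtain ⟨k, hk⟩ := P.2 ⟨a, h.aP⟩
    have hk' : a ^ 2 ^ k = 1 := congrArg Subtype.val hk
    have hcop : Nat.Coprime 7 (2 ^ k) := Nat.Coprime.pow_right k (by norm_num)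
    have hb : (1 : ℤ) = 7 * Nat.gcdA 7 (2 ^ k) + 2 ^ k * Nat.gcdB 7 (2 ^ k) := by
      have := Nat.gcd_eq_gcd_ab 7 (2 ^ k)
      rw [hcop.gcd_eq_one] at this
      exact_mod_cast this
    have hm1 : a = (a ^ 7) ^ (Nat.gcdA 7 (2 ^ k)) * (a ^ 2 ^ k) ^ (Nat.gcdB 7 (2 ^ k)) := by
      rw [← zpow_natCast a 7, ← zpow_natCast a (2 ^ k), ← zpow_mul, ← zpow_mul, ← zpow_add]
      push_cast
      rw [← hb, zpow_one]
    rw [hm1, hk', one_zpow, mul_one, h1]
    exact zpow_mem hz _
  -- conjugation by x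
  have hxz : ∀ z ∈ center G, x * z * x⁻¹ = z := fun z hz => conj_center hz
  have hstep : ∀ u v : G, x * u * x⁻¹ = v → ∀ s t : G, x * s * x⁻¹ = t → ∀ z ∈ center G, u * u = s * z → v * v = t * z := by
    intro u v huv s t hst z hz he
    rw [← huv, ← hst]
    have hz' := mem_center_iff.1 hz
    calc x * u * x⁻¹ * (x * u * x⁻¹) = x * (u * u) * x⁻¹ := by group
      _ = x * (s * z) * x⁻¹ := by rw [he]
      _ = x * s * x⁻¹ * (x * z * x⁻¹) := by group
      _ = x * s * x⁻¹ * z := by rw [hxz z hz]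
  have h4 : ∀ u v z : G, z ∈ center G → u * u = v * z → (u * u) * (u * u) = (v * v) * (z * z) := by
    intro u v z hz he
    rw [he]
    have hz' := mem_center_iff.1 hz
    calc v * z * (v * z) = v * (z * v) * z := by group
      _ = v * (v * z) * z := by rw [hz' v]
      _ = _ := by group
  have hasq : a * a ∈ center G := by
    obtain ⟨z, hz, h1 | h1 | h1 | h1⟩ := hT (a * a) ⟨mul_mem h.aP h.aP, mul_mem haa haa⟩
    · rw [h1]; exact hz
    · exfalso
      exact h.na (by rw [mul_left_cancel h1]; exact hz)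
    · -- a a = b z
      exfalso
      have h2 := hstep a b h.xa b d h.xb z hz h1
      have h3 := hstep b d h.xb d a h.xd z hz h2
      have e1 := h4 a b z hz h1
      rw [h2] at e1
      have hzc := mem_center_iff.1 hz
      -- a^4 = d z^3
      have e2 : a ^ 4 = d * (z ^ 3) := by
        calc a ^ 4 = a * a * (a * a) := by simp only [pow_succ, pow_zero, one_mul, mul_assoc]
          _ = d * z * (z * z) := e1
          _ = d * z ^ 3 := by simp only [pow_succ, pow_zero, one_mul, mul_assoc]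
      have e3 : a ^ 8 = a * (z ^ 7) := by
        calc a ^ 8 = a ^ 4 * a ^ 4 := by group
          _ = d * (z ^ 3 * d) * z ^ 3 := by rw [e2]; group
          _ = d * (d * z ^ 3) * z ^ 3 := by rw [mem_center_iff.1 (pow_mem hz 3) d]
          _ = (d * d) * z ^ 6 := by group
          _ = a * z * z ^ 6 := by rw [h3]
          _ = a * z ^ 7 := by group
      have e4 : a ^ 7 = z ^ 7 := by
        apply mul_left_cancel (a := a)
        rw [← e3]; group
      exact h.na (h7 _ (pow_mem hz 7) e4)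
    · exfalso
      have h2 := hstep a b h.xa d a h.xd z hz h1
      have h3 := hstep b d h.xb a b h.xa z hz h2
      -- a a = d z, d d = b z, b b = a z
      have e2 : a ^ 4 = b * (z ^ 3) := by
        calc a ^ 4 = a * a * (a * a) := by simp only [pow_succ, pow_zero, one_mul, mul_assoc]
          _ = d * d * (z * z) := h4 a d z hz h1
          _ = b * z * (z * z) := by rw [h3]
          _ = b * z ^ 3 := by simp only [pow_succ, pow_zero, one_mul, mul_assoc]
      have e3 : a ^ 8 = a * (z ^ 7) := by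
        calc a ^ 8 = a ^ 4 * a ^ 4 := by group
          _ = b * (z ^ 3 * b) * z ^ 3 := by rw [e2]; group
          _ = b * (b * z ^ 3) * z ^ 3 := by rw [mem_center_iff.1 (pow_mem hz 3) b]
          _ = (b * b) * z ^ 6 := by group
          _ = a * z * z ^ 6 := by rw [h2]
          _ = a * z ^ 7 := by group
      have e4 : a ^ 7 = z ^ 7 := by
        apply mul_left_cancel (a := a)
        rw [← e3]; group
      exact h.na (h7 _ (pow_mem hz 7) e4)
  have hbsq : b * b ∈ center G := by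
    have e : b * b = x * (a * a) * x⁻¹ := by rw [← h.xa]; group
    rw [e, conj_center hasq]; exact hasq
  have hdsq : d * d ∈ center G := by
    have e : d * d = x * (b * b) * x⁻¹ := by rw [← h.xb]; group
    rw [e, conj_center hbsq]; exact hbsq
  intro c hc
  obtain ⟨z, hz, rfl | rfl | rfl | rfl⟩ := hT c hc
  · exact mul_mem hz hz
  · have := h4 a a z hz
    have e : a * z * (a * z) = a * a * (z * z) := by
      calc a * z * (a * z) = a * (z * a) * z := by group
        _ = a * (a * z) * z := by rw [mem_center_iff.1 hz a]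
        _ = _ := by group
    rw [e]; exact mul_mem hasq (mul_mem hz hz)
  · have e : b * z * (b * z) = b * b * (z * z) := by
      calc b * z * (b * z) = b * (z * b) * z := by group
        _ = b * (b * z) * z := by rw [mem_center_iff.1 hz b]
        _ = _ := by group
    rw [e]; exact mul_mem hbsq (mul_mem hz hz)
  · have e : d * z * (d * z) = d * d * (z * z) := by
      calc d * z * (d * z) = d * (z * d) * z := by group
        _ = d * (d * z) * z := by rw [mem_center_iff.1 hz d]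
        _ = _ := by group
    rw [e]; exact mul_mem hdsq (mul_mem hz hz)

/-- conjugates of elements of `C_P(a,b,d)` in `P` lie in `C_P(a,b,d)` -/
theorem closed (h : DD P x a b d) (ha : ∀ p ∈ P, p * a * p⁻¹ = a) {c g : G}
    (hc : c ∈ (P : Subgroup G) ⊓ Ca a b d) (hg : g * c * g⁻¹ ∈ P) : g * c * g⁻¹ ∈ (P : Subgroup G) ⊓ Ca a b d := by
  obtain ⟨haa, hb, hd⟩ := h.comm_all ha
  obtain ⟨hT, -⟩ := h.core ha
  have hZC : ∀ z ∈ center G, z ∈ (P : Subgroup G) ⊓ Ca a b d := by
    intro z hz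
    refine ⟨h.zP hz, mem_Ca.2 ⟨?_, ?_, ?_⟩⟩ <;> exact (mem_center_iff.1 hz _).symm
  have key : ∀ u, (u = a ∨ u = b ∨ u = d) → ∀ z ∈ center G, g * (u * z) * g⁻¹ ∈ P →
      g * (u * z) * g⁻¹ ∈ (P : Subgroup G) ⊓ Ca a b d := by
    intro u hu z hz hP
    have e : g * (u * z) * g⁻¹ = (g * u * g⁻¹) * z := by
      calc g * (u * z) * g⁻¹ = (g * u * g⁻¹) * (g * z * g⁻¹) := by group
        _ = _ := by rw [conj_center hz]
    rw [e] at hP ⊢
    have hP' : g * u * g⁻¹ ∈ P := by
      have := mul_mem hP (inv_mem (h.zP hz))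
      rwa [mul_inv_cancel_right] at this
    refine mul_mem ⟨hP', ?_⟩ (hZC z hz)
    rcases h.cl' hu hP' with h1 | h1 | h1
    · rw [h1]; exact haa
    · rw [h1]; exact hb
    · rw [h1]; exact hd
  obtain ⟨z, hz, rfl | rfl | rfl | rfl⟩ := hT c hc
  · rw [conj_center hz]; exact hZC _ hz
  · exact key a (Or.inl rfl) z hz hg
  · exact key b (Or.inr (Or.inl rfl)) z hz hg
  · exact key d (Or.inr (Or.inr rfl)) z hz hg

/-- elements of `P` outside `C_P(a,b,d)` interchange `b` and `d` -/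
theorem swap (h : DD P x a b d) (ha : ∀ p ∈ P, p * a * p⁻¹ = a) {p : G} (hp : p ∈ P) (hpC : p ∉ Ca a b d) :
    p * b * p⁻¹ = d := by
  have hpa := ha p hp
  have hb := h.cl' (u := b) (g := p) (Or.inr (Or.inl rfl)) (mul_mem (mul_mem hp h.bP) (inv_mem hp))
  rcases hb with h1 | h1 | h1
  · exfalso
    apply h.ne_ab
    exact mul_left_cancel (mul_right_cancel (hpa.trans h1.symm))
  · exfalso
    apply hpC
    have hd := h.cl' (u := d) (g := p) (Or.inr (Or.inr rfl)) (mul_mem (mul_mem hp h.dP) (inv_mem hp))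
    have hd' : p * d * p⁻¹ = d := by
      rcases hd with h2 | h2 | h2
      · exfalso
        apply h.ne_da
        exact mul_left_cancel (mul_right_cancel (h2.trans hpa.symm))
      · exfalso
        apply h.ne_bd
        exact (mul_left_cancel (mul_right_cancel (h2.trans h1.symm))).symm
      · exact h2
    exact mem_Ca.2 ⟨mul_inv_eq_iff_eq_mul.1 hpa, mul_inv_eq_iff_eq_mul.1 h1, mul_inv_eq_iff_eq_mul.1 hd'⟩
  · exact h1

/-- `|P : C_P(a,b,d)| ≤ 2` -/
theorem prod_mem (h : DD P x a b d) (ha : ∀ p ∈ P, p * a * p⁻¹ = a) {p q : G} (hp : p ∈ P) (hq : q ∈ P)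
    (hpC : p ∉ Ca a b d) (hqC : q ∉ Ca a b d) : p * q⁻¹ ∈ Ca a b d := by
  by_contra hcon
  have h1 := h.swap ha hp hpC
  have h2 := h.swap ha hq hqC
  have h3 := h.swap ha (mul_mem hp (inv_mem hq)) hcon
  -- (p q⁻¹) d (p q⁻¹)⁻¹ = p b p⁻¹ = d
  have h4 : p * q⁻¹ * d * (p * q⁻¹)⁻¹ = d := by
    calc p * q⁻¹ * d * (p * q⁻¹)⁻¹ = p * (q⁻¹ * d * q) * p⁻¹ := by group
      _ = p * (q⁻¹ * (q * b * q⁻¹) * q) * p⁻¹ := by rw [h2]
      _ = p * b * p⁻¹ := by group
      _ = d := h1
  apply h.ne_bd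
  exact mul_left_cancel (mul_right_cancel (h3.trans h4.symm))

end DD

end H12.KTwo
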