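import Mathlib
import Cfsg.Agent.Lib.H12.KTwoD
import Cfsg.Agent.Lib.H12.KTwoE
import Cfsg.Agent.Lib.H12.GWConB
import Cfsg.Agent.Lib.H98.DicksonIdent
import Cfsg.Agent.Lib.H71.AFour

/-! S3896, modulo Gorenstein-Walter for Sylow four-subgroups. -/

set_option autoImplicit false

namespace H12.KTwo

open H68.Isolated H68.TwoClass MulAction Subgroup
open scoped Pointwise

universe u

variable {G : Type u} [Group G] [Finite G]

/-- the conclusion of S3896 for `X = G/Z(G)` -/
def Concl (X : Type u) [Group X] : Prop :=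
  Nonempty (X ≃* ↥(alternatingGroup (Fin 4))) ∨ Nonempty (X ≃* Equiv.Perm (Fin 4)) ∨
    ∃ S : Subgroup X, S.Normal ∧ IsSimpleGroup ↥S ∧ ¬ IsMulCommutative ↥S ∧
      Subgroup.centralizer (S : Set X) = ⊥ ∧
      ∃ (F : Type) (_ : Field F) (_ : Fintype F), 3 < Fintype.card F ∧ (Fintype.card F % 8 = 3 ∨ Fintype.card F % 8 = 5) ∧
        Nonempty (↥S ≃* Matrix.ProjectiveSpecialLinearGroup (Fin 2) F)

theorem klein_of {X : Type*} [Group X] (S : Subgroup X) (h4 : Nat.card S = 4) (hsq : ∀ v ∈ S, v * v = 1) :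
    IsKleinFour S := by
  refine ⟨h4, ?_⟩
  have h1 : Monoid.exponent S ∣ 2 := Monoid.exponent_dvd_of_forall_pow_eq_one (fun x => by
    rw [pow_two]; exact Subtype.ext (hsq x x.2))
  have hfin : Finite S := Nat.finite_of_card_ne_zero (by rw [h4]; norm_num)
  rcases (Nat.dvd_prime Nat.prime_two).1 h1 with h | h
  · exfalso
    have h2 := Monoid.exp_eq_one_iff.1 h
    have h3 : Nat.card S ≤ 1 := Finite.card_le_one_iff_subsingleton.2 h2
    omega
  · exact h

/-- Gorenstein-Walter in a group with a Sylow four-subgroup -/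
theorem gw_apply (hGW : H12.GWCon.GWS.{u}) {X : Type u} [Group X] [Finite X] (S : Sylow 2 X)
    (hS4 : Nat.card (S : Subgroup X) = 4) (hsq : ∀ v ∈ (S : Subgroup X), v * v = 1)
    (L : Subgroup X) (hSL : (S : Subgroup X) ≤ L) (hLs : IsSimpleGroup L) :
    ∃ (F : Type) (_ : Field F) (_ : Fintype F), (Fintype.card F % 8 = 3 ∨ Fintype.card F % 8 = 5) ∧
    3 < Fintype.card F ∧ Nonempty (L ≃* Matrix.ProjectiveSpecialLinearGroup (Fin 2) F) := by
  have hp2 : Fact (Nat.Prime 2) := ⟨Nat.prime_two⟩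
  have hodd : Odd (S : Subgroup X).index := by
    rw [← Nat.not_even_iff_odd, even_iff_two_dvd]
    exact S.not_dvd_index
  exact hGW L hLs ((S : Subgroup X).subgroupOf L) (by
      rw [Nat.card_congr (Subgroup.subgroupOfEquivOfLe hSL).toEquiv]; exact hS4) (by
      intro v hv
      exact Subtype.ext (hsq v hv)) (by
      have h1 : (S : Subgroup X).relIndex L ∣ (S : Subgroup X).index := Subgroup.relIndex_dvd_index_of_le hSL
      exact Odd.of_dvd_nat hodd h1)

namespace DD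

variable {P : Sylow 2 G} {x a b d : G}

theorem mk_ne (h : DD P x a b d) : (QuotientGroup.mk' (center G) a) ≠ QuotientGroup.mk' (center G) b := by
  intro h1
  exact h.nab (QuotientGroup.eq.1 h1)

/-- `G/Z(G)` has no normal subgroup of order two -/
theorem no_two (h : DD P x a b d) (ha : ∀ p ∈ P, p * a * p⁻¹ = a) (N : Subgroup (G ⧸ center G)) (hN : N.Normal) :
    Nat.card N ≠ 2 := by
  intro hN2
  have hp2 : Fact (Nat.Prime 2) := ⟨Nat.prime_two⟩
  let ρ : G →* G ⧸ center G := QuotientGroup.mk' (center G)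
  have hρ : Function.Surjective ρ := QuotientGroup.mk'_surjective _
  have hρ1 : ∀ y, ρ y = 1 ↔ y ∈ center G := fun y => QuotientGroup.eq_one_iff y
  have hNp : IsPGroup 2 N := IsPGroup.of_card (n := 1) (by rw [hN2, pow_one])
  have hNP : N ≤ (P.mapSurjective hρ : Subgroup (G ⧸ center G)) := hNp.le_sylow_of_normal _
  obtain ⟨⟨t, htN⟩, ht⟩ := exists_prime_orderOf_dvd_card' (G := N) 2 (by rw [hN2])
  have ht1 : t ≠ 1 := by
    intro h1
    have h2 : (⟨t, htN⟩ : N) = 1 := Subtype.ext h1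
    rw [h2, orderOf_one] at ht
    omega
  obtain ⟨y, hyP, hyt⟩ := hNP htN
  have hyt' : ρ y = t := hyt
  have hcen : ∀ g : G ⧸ center G, g * t * g⁻¹ = t := by
    intro g
    have h1 : g * t * g⁻¹ ∈ N := hN.conj_mem t htN g
    have hall : ∀ s : N, s = 1 ∨ s = ⟨t, htN⟩ := by
      obtain ⟨u, v, huv, huniv⟩ := Nat.card_eq_two_iff.1 hN2
      have hc : ∀ s : N, s = u ∨ s = v := by
        intro s
        have : s ∈ ({u, v} : Set N) := by rw [huniv]; trivial
        simpa using this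
      intro s
      have hn1 : (1 : N) ≠ ⟨t, htN⟩ := fun h => ht1 (congrArg Subtype.val h).symm
      rcases hc 1 with h1 | h1 <;> rcases hc ⟨t, htN⟩ with h2 | h2 <;> rcases hc s with h3 | h3
      · exact absurd (h1.trans h2.symm) hn1
      · exact absurd (h1.trans h2.symm) hn1
      · left; rw [h3, h1]
      · right; rw [h3, h2]
      · right; rw [h3, h2]
      · left; rw [h3, h1]
      · exact absurd (h1.trans h2.symm) hn1
      · exact absurd (h1.trans h2.symm) hn1
    rcases hall ⟨_, h1⟩ with h2 | h2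
    · exfalso
      have h3 : g * t * g⁻¹ = 1 := congrArg Subtype.val h2
      apply ht1
      calc t = g⁻¹ * (g * t * g⁻¹) * g := by group
        _ = 1 := by rw [h3]; group
    · exact congrArg Subtype.val h2
  have hcom : ∀ g : G, g * y * g⁻¹ * y⁻¹ ∈ center G := by
    intro g
    rw [← hρ1, map_mul, map_mul, map_mul, map_inv, map_inv, hyt', hcen, mul_inv_cancel]
  by_cases hyC : y ∈ Ca a b d
  · obtain ⟨z, hz, h1 | h1 | h1 | h1⟩ := (h.core ha).1 y ⟨hyP, hyC⟩
    · apply ht1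
      rw [← hyt', hρ1, h1]; exact hz
    · apply h.nab
      have h2 := hcom x
      rw [h1] at h2
      have h3 : x * (a * z) * x⁻¹ * (a * z)⁻¹ = b * a⁻¹ := by
        calc x * (a * z) * x⁻¹ * (a * z)⁻¹ = (x * a * x⁻¹) * (x * z * x⁻¹) * z⁻¹ * a⁻¹ := by group
          _ = b * z * z⁻¹ * a⁻¹ := by rw [h.xa, conj_center hz]
          _ = b * a⁻¹ := by group
      rw [h3] at h2
      have h4 := conj_center (g := a⁻¹) h2
      have h5 : a⁻¹ * (b * a⁻¹) * a⁻¹⁻¹ = a⁻¹ * b := by group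
      rw [h5] at h4
      rw [h4]; exact h2
    · apply h.rot.nab
      have h2 := hcom x
      rw [h1] at h2
      have h3 : x * (b * z) * x⁻¹ * (b * z)⁻¹ = d * b⁻¹ := by
        calc x * (b * z) * x⁻¹ * (b * z)⁻¹ = (x * b * x⁻¹) * (x * z * x⁻¹) * z⁻¹ * b⁻¹ := by group
          _ = d * z * z⁻¹ * b⁻¹ := by rw [h.xb, conj_center hz]
          _ = d * b⁻¹ := by group
      rw [h3] at h2
      have h4 := conj_center (g := b⁻¹) h2
      have h5 : b⁻¹ * (d * b⁻¹) * b⁻¹⁻¹ = b⁻¹ * d := by group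
      rw [h5] at h4
      rw [h4]; exact h2
    · apply h.rot.rot.nab
      have h2 := hcom x
      rw [h1] at h2
      have h3 : x * (d * z) * x⁻¹ * (d * z)⁻¹ = a * d⁻¹ := by
        calc x * (d * z) * x⁻¹ * (d * z)⁻¹ = (x * d * x⁻¹) * (x * z * x⁻¹) * z⁻¹ * d⁻¹ := by group
          _ = a * z * z⁻¹ * d⁻¹ := by rw [h.xd, conj_center hz]
          _ = a * d⁻¹ := by group
      rw [h3] at h2
      have h4 := conj_center (g := d⁻¹) h2
      have h5 : d⁻¹ * (a * d⁻¹) * d⁻¹⁻¹ = d⁻¹ * a := by group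
      rw [h5] at h4
      rw [h4]; exact h2
  · have h1 := h.swap ha hyP hyC
    apply h.rot.nab
    -- y b y⁻¹ b⁻¹ = (b y b⁻¹ y⁻¹)⁻¹
    have h2 := inv_mem (hcom b)
    have h3 : (b * y * b⁻¹ * y⁻¹)⁻¹ = (y * b * y⁻¹) * b⁻¹ := by group
    rw [h3, h1] at h2
    have h4 := conj_center (g := b⁻¹) h2
    have h5 : b⁻¹ * (d * b⁻¹) * b⁻¹⁻¹ = b⁻¹ * d := by group
    rw [h5] at h4
    rw [h4]; exact h2

/-- the conclusion for `G/Z(G)` -/
theorem concl (h : DD P x a b d) (ha : ∀ p ∈ P, p * a * p⁻¹ = a) (hO : Cfsg.pPrimeCore 2 G = ⊥)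
    (hGW : H12.GWCon.GWS.{u}) : Concl (G ⧸ center G) := by
  have hp2 : Fact (Nat.Prime 2) := ⟨Nat.prime_two⟩
  let Z : Subgroup G := center G
  let X := G ⧸ Z
  let ρ : G →* X := QuotientGroup.mk' Z
  have hρ : Function.Surjective ρ := QuotientGroup.mk'_surjective _
  have hρ1 : ∀ y, ρ y = 1 ↔ y ∈ Z := fun y => QuotientGroup.eq_one_iff y
  have hXcore : Cfsg.pPrimeCore 2 X = ⊥ :=
    H26.ZStarUse.pPrimeCore_quotient_central hO Z le_rfl (center_isPGroup hO)
  have hZpos : 0 < Nat.card Z := Nat.card_pos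
  obtain ⟨haa, hb, hd⟩ := h.comm_all ha
  obtain ⟨hT, hC4⟩ := h.core ha
  have hsq := h.sq ha
  have hZC : Z ≤ (P : Subgroup G) ⊓ Ca a b d := by
    intro z hz
    refine ⟨h.zP hz, mem_Ca.2 ⟨?_, ?_, ?_⟩⟩ <;> exact (mem_center_iff.1 hz _).symm
  set C : Subgroup G := (P : Subgroup G) ⊓ Ca a b d with hC
  -- the image of C
  have hCb4 : Nat.card (C.map ρ) = 4 := by
    have h1 : Nat.card Z * Nat.card (C.map ρ) = Nat.card C := H1.Cores.card_map_mk' Z C hZC
    rw [hC4, mul_comm 4] at h1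
    exact Nat.eq_of_mul_eq_mul_left hZpos h1
  have hCbsq : ∀ v ∈ C.map ρ, v * v = 1 := by
    rintro _ ⟨y, hy, rfl⟩
    rw [← map_mul, hρ1]
    exact hsq y hy
  have hCcomm : ∀ v ∈ C.map ρ, ∀ w ∈ C.map ρ, v * w = w * v := by
    intro v hv w hw
    have h1 := hCbsq _ (mul_mem hv hw)
    have e1 : v⁻¹ = v := inv_eq_of_mul_eq_one_left (hCbsq v hv)
    have e2 : w⁻¹ = w := inv_eq_of_mul_eq_one_left (hCbsq w hw)
    have e3 : (v * w)⁻¹ = v * w := inv_eq_of_mul_eq_one_left h1
    rw [← e3, mul_inv_rev, e1, e2]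
  by_cases hPC : (P : Subgroup G) ≤ Ca a b d
  · -- Klein Sylow
    have hCP : C = (P : Subgroup G) := inf_eq_left.2 hPC
    let S : Sylow 2 X := P.mapSurjective hρ
    have hSC : (S : Subgroup X) = C.map ρ := by rw [hCP]; rfl
    have hS4 : Nat.card (S : Subgroup X) = 4 := by rw [hSC]; exact hCb4
    have hSsq : ∀ v ∈ (S : Subgroup X), v * v = 1 := by rw [hSC]; exact hCbsq
    rcases H59.GW4.struct S (klein_of _ hS4 hSsq) hXcore with h1 | ⟨h1, h2, h3⟩ | ⟨L, hL, hSL, hLs, hLn, hLc⟩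
    · exfalso
      apply h.mk_ne
      have hall : ∀ v : X, v ∈ C.map ρ := by
        intro v; rw [← hSC, h1]; exact mem_top _
      have h4 := hCcomm (ρ x) (hall _) (ρ a) (hall _)
      show ρ a = ρ b
      rw [← h.xa, map_mul, map_mul, map_inv, h4, mul_inv_cancel_right]
    · left
      apply H71.AFour.iso_A4 (S : Subgroup X) hS4 h3.le
      have h4 := Subgroup.card_mul_index (S : Subgroup X)
      rw [hS4, h2] at h4
      exact h4.symm
    · right; right
      obtain ⟨F, iF, iFt, hF8, hF3, e⟩ := gw_apply hGW S hS4 hSsq L hSL hLs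
      exact ⟨L, hL, hLs, hLn, hLc, F, iF, iFt, hF3, hF8, e⟩
  · -- dihedral Sylow of order 8 modulo the centre
    obtain ⟨p, hp, hpC⟩ := Set.not_subset.1 hPC
    have hpC' : p ∉ Ca a b d := hpC
    have hrel : C.relIndex (P : Subgroup G) = 2 := by
      show (C.subgroupOf (P : Subgroup G)).index = 2
      rw [Subgroup.index_eq_two_iff]
      refine ⟨⟨p, hp⟩⁻¹, ?_⟩
      intro q
      by_cases hq : (q : G) ∈ Ca a b d
      · right
        refine ⟨⟨q.2, hq⟩, ?_⟩
        intro hcon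
        apply hpC'
        have h1 : (q : G) * p⁻¹ ∈ Ca a b d := hcon.2
        have h2 := (Ca a b d).mul_mem ((Ca a b d).inv_mem h1) hq
        have e : ((q : G) * p⁻¹)⁻¹ * q = p := by group
        rwa [e] at h2
      · left
        refine ⟨⟨(P : Subgroup G).mul_mem q.2 ((P : Subgroup G).inv_mem hp), h.prod_mem ha q.2 hp hq hpC'⟩, ?_⟩
        intro hcon
        exact hq hcon.2
    obtain ⟨G0, hG0n, hG0i, hG0C⟩ := exists_index_two P C hrel (fun y hy g hg => h.closed ha hy hg) inf_le_left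
    have hCG0 : C ≤ G0 := by rw [← hG0C]; exact inf_le_right
    let X0 : Subgroup X := G0.map ρ
    have hX0n : X0.Normal := hG0n.map ρ hρ
    have hX0i : X0.index = 2 := by
      rw [← hG0i]
      apply Subgroup.index_map_eq _ hρ
      rw [QuotientGroup.ker_mk']
      exact hZC.trans hCG0
    let SX : Sylow 2 X := P.mapSurjective hρ
    have hinter : (SX : Subgroup X) ⊓ X0 = C.map ρ := by
      apply le_antisymm
      · rintro v ⟨⟨q, hq, hqv⟩, ⟨g, hg, hgv⟩⟩
        have hqv' : ρ q = v := hqv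
        have h1 : q⁻¹ * g ∈ Z := by rw [← hρ1, map_mul, map_inv, hqv', hgv, inv_mul_cancel]
        have h2 : q ∈ G0 := by
          have h3 := G0.mul_mem hg (G0.inv_mem (hCG0 (hZC h1)))
          have e : g * (q⁻¹ * g)⁻¹ = q := by group
          rwa [e] at h3
        refine ⟨q, ?_, hqv'⟩
        rw [← hG0C]; exact ⟨hq, h2⟩
      · exact le_inf (Subgroup.map_mono inf_le_left) (Subgroup.map_mono hCG0)
    have hsyl0 : H28.RelSyl.IsSyl 2 (C.map ρ) X0 := by
      rw [← hinter]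
      apply (H28.RelSyl.isSyl_top SX).inf_normal _ le_top
      intro g _
      exact (Subgroup.normalizer_eq_top_iff.2 hX0n).symm ▸ mem_top g
    let S0 : Sylow 2 X0 := hsyl0.toSylow
    have hS0 : (S0 : Subgroup X0) = (C.map ρ).subgroupOf X0 := hsyl0.coe_toSylow
    have hS04 : Nat.card (S0 : Subgroup X0) = 4 := by
      rw [hS0, Nat.card_congr (Subgroup.subgroupOfEquivOfLe hsyl0.le).toEquiv]; exact hCb4
    have hS0sq : ∀ v ∈ (S0 : Subgroup X0), v * v = 1 := by
      intro v hv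
      rw [hS0] at hv
      exact Subtype.ext (hCbsq _ hv)
    have hcore0 : Cfsg.pPrimeCore 2 X0 = ⊥ := by
      have h1 := H1.Cores.map_subtype_pPrimeCore 2 X0
      rw [hXcore, inf_bot_eq] at h1
      exact (Subgroup.map_eq_bot_iff_of_injective _ X0.subtype_injective).1 h1
    rcases H59.GW4.struct S0 (klein_of _ hS04 hS0sq) hcore0 with h1 | ⟨h1, h2, h3⟩ | ⟨L, hL, hSL, hLs, hLn, hLc⟩
    · exfalso
      have hall : ∀ v ∈ X0, v ∈ C.map ρ := by
        intro v hv
        have h4 : (⟨v, hv⟩ : X0) ∈ (S0 : Subgroup X0) := by rw [h1]; exact mem_top _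
        rw [hS0] at h4
        exact h4
      -- x² ∈ G0
      have hx2 : x ^ 2 ∈ G0 := by
        rw [pow_two]; exact Subgroup.mul_self_mem_of_index_two hG0i x
      have haG0 : a ∈ G0 := hCG0 ⟨h.aP, haa⟩
      have h4 := hCcomm (ρ (x ^ 2)) (hall _ ⟨_, hx2, rfl⟩) (ρ a) (hall _ ⟨_, haG0, rfl⟩)
      have h5 : ρ d = ρ a := by
        have e : d = x ^ 2 * a * (x ^ 2)⁻¹ := by rw [← h.xb, ← h.xa, pow_two]; group
        rw [e, map_mul, map_mul, map_inv, h4, mul_inv_cancel_right]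
      exact h.rot.rot.mk_ne h5
    · right; left
      apply H98.DicksonIdent.S4_of
      · have h4 := Subgroup.card_mul_index (S0 : Subgroup X0)
        rw [hS04, h2] at h4
        have h5 := Subgroup.card_mul_index X0
        rw [← h4, hX0i] at h5
        exact h5.symm
      · intro N hN
        refine ⟨h.no_two ha N hN, ?_⟩
        intro hN3
        have h4 : N ≤ Cfsg.pPrimeCore 2 X := by
          apply H1.Cores.le_pPrimeCore hN
          rw [hN3]; norm_num
        rw [hXcore, le_bot_iff] at h4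
        rw [h4, Subgroup.card_bot] at hN3
        omega
    · right; right
      obtain ⟨F, iF, iFt, hF8, hF3, ⟨e⟩⟩ := gw_apply hGW S0 hS04 hS0sq L hSL hLs
      obtain ⟨h4, h5⟩ := lift_simple X0 hX0n hX0i (fun N hN => h.no_two ha N hN) L hL hLs hLc
      let f : L ≃* (L.map X0.subtype : Subgroup X) := L.equivMapOfInjective X0.subtype X0.subtype_injective
      have hLs' : IsSimpleGroup (L.map X0.subtype : Subgroup X) := by
        have := hLs
        exact f.symm.isSimpleGroup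
      refine ⟨L.map X0.subtype, h4, hLs', ?_, h5, F, iF, iFt, hF3, hF8, ⟨f.symm.trans e⟩⟩
      intro hcm
      apply hLn
      refine ⟨⟨fun u v => ?_⟩⟩
      apply f.injective
      rw [map_mul, map_mul]
      exact hcm.is_comm.comm _ _

end DD

theorem main (hZ : H26.ZStarUse.ZStarHyp.{u}) (hGW : H12.GWCon.GWS.{u}) (P : Sylow 2 G)
    (hO : Cfsg.pPrimeCore 2 G = ⊥)
    (hk : 2 * Nat.card (PClass 2 G) = Nat.card (P : Subgroup G)) : Concl (G ⧸ center G) := by
  have hp2 : Fact (Nat.Prime 2) := ⟨Nat.prime_two⟩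
  obtain ⟨Q, x, w, h1, h2, h3, h4⟩ := exists_data (not_hasNPC P hk)
  have hPQ : Nat.card (P : Subgroup G) = Nat.card (Q : Subgroup G) := H2.Frobenius.card_sylow_eq P Q
  rw [hPQ] at hk
  obtain ⟨a, b, d, h⟩ := exists_DD hZ hO Q x w h1 h2 h3 h4 hk
  obtain ⟨a', b', d', h', ha'⟩ := h.exists_central
  exact h'.concl ha' hO hGW

end H12.KTwo
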