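import Mathlib

/-!
O'Nan project, piece 2: a transitive group of collineations of a projective space
containing nontrivial elation groups `N x` (centre `x`), with enough transitivity on the lines,
contains every transvection.
-/

set_option autoImplicit false

namespace H12.ONan

open Submodule Module

universe u1 u2 u3 u4

/-- the hypotheses on `G`, the points `X`, the coordinates `v` and the elation groups `N`. -/
structure Geo (G : Type u1) (X : Type u2) (K : Type u3) (V : Type u4) [Group G] [MulAction G X]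
    [Field K] [AddCommGroup V] [Module K V] where
  v : X → V
  N : X → Subgroup G
  v_ne : ∀ x, v x ≠ 0
  surj : ∀ w : V, w ≠ 0 → ∃ x, ∃ c : K, w = c • v x
  inj : ∀ x y, (∃ c : K, v x = c • v y) → x = y
  col : ∀ (g : G) (x y z : X), v z ∈ span K {v x, v y} → v (g • z) ∈ span K {v (g • x), v (g • y)}
  conj : ∀ (g : G) (x : X) (n : G), n ∈ N x → g * n * g⁻¹ ∈ N (g • x)
  fixc : ∀ x, ∀ n ∈ N x, n • x = x
  ntriv : ∀ x, ∃ n ∈ N x, n ≠ 1
  line : ∀ x, ∀ n ∈ N x, ∀ y, v (n • y) ∈ span K {v x, v y}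
  ax : ∀ x, ∀ n ∈ N x, ∀ y z : X, y ≠ z → ∃ t : X, n • t = t ∧ v t ∈ span K {v y, v z}
  tr : ∀ x, ∀ n ∈ N x, ∀ b : X, n • b = b → ∀ z z' : X, n • z ≠ z → z' ≠ b → v z' ∈ span K {v b, v z} →
    ∃ h ∈ N b, h • z = z' ∧ ∀ y : X, n • y = y → h • y = y

namespace Geo

variable {G : Type u1} {X : Type u2} {K : Type u3} {V : Type u4} [Group G] [MulAction G X]
    [Field K] [AddCommGroup V] [Module K V] (A : Geo G X K V)

/-- two points with `a v x + b v y = 0` and `x ≠ y`: `a = b = 0`. -/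
theorem indep {x y : X} (hxy : x ≠ y) {a b : K} (h : a • A.v x + b • A.v y = 0) : a = 0 ∧ b = 0 := by
  have ha : a = 0 := by
    by_contra ha
    apply hxy
    apply A.inj
    refine ⟨-(a⁻¹ * b), ?_⟩
    have h1 : a⁻¹ • (a • A.v x + b • A.v y) = 0 := by rw [h, smul_zero]
    rw [smul_add, smul_smul, smul_smul, inv_mul_cancel₀ ha, one_smul] at h1
    rw [neg_smul]
    exact eq_neg_of_add_eq_zero_left h1
  refine ⟨ha, ?_⟩
  rw [ha, zero_smul, zero_add, smul_eq_zero] at h
  exact h.resolve_right (A.v_ne y)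

/-- the image point of `y` on the line `x y`. -/
theorem line' {x : X} {n : G} (hn : n ∈ A.N x) {y : X} (hy : y ≠ x) :
    ∃ a b : K, b ≠ 0 ∧ A.v (n • y) = a • A.v x + b • A.v y := by
  obtain ⟨a, b, hab⟩ := mem_span_pair.1 (A.line x n hn y)
  refine ⟨a, b, ?_, hab.symm⟩
  intro hb
  rw [hb, zero_smul, add_zero] at hab
  have h1 : n • y = x := A.inj _ _ ⟨a, hab.symm⟩
  have h2 : n • y = n • x := by rw [h1, A.fixc x n hn]
  exact hy (MulAction.injective n h2)

/-- exchange. -/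
theorem exch {x y z : X} (hxy : x ≠ y) (h : A.v y ∈ span K {A.v x, A.v z}) :
    A.v z ∈ span K {A.v x, A.v y} := by
  obtain ⟨a, b, hab⟩ := mem_span_pair.1 h
  have hb : b ≠ 0 := by
    intro hb
    rw [hb, zero_smul, add_zero] at hab
    exact hxy (A.inj _ _ ⟨a, hab.symm⟩).symm
  refine mem_span_pair.2 ⟨-(b⁻¹ * a), b⁻¹, ?_⟩
  rw [← hab, smul_add, smul_smul, smul_smul, inv_mul_cancel₀ hb, one_smul]
  module

/-- if two different points of the line `y1 y2` are `x`, `y`, the line is `x y`. -/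
theorem two_pts {x y y1 y2 : X} (hxy : x ≠ y) (hx : A.v x ∈ span K {A.v y1, A.v y2})
    (hy : A.v y ∈ span K {A.v y1, A.v y2}) : A.v y1 ∈ span K {A.v x, A.v y} := by
  obtain ⟨a, b, hab⟩ := mem_span_pair.1 hx
  obtain ⟨c, d, hcd⟩ := mem_span_pair.1 hy
  have hdet : a * d - b * c ≠ 0 := by
    intro h0
    by_cases hd : d = 0
    · by_cases hb : b = 0
      · have h1 : A.v y = c • A.v y1 := by rw [← hcd, hd, zero_smul, add_zero]
        have h2 : A.v x = a • A.v y1 := by rw [← hab, hb, zero_smul, add_zero]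
        have h3 := A.inj _ _ ⟨_, h1⟩
        have h4 := A.inj _ _ ⟨_, h2⟩
        exact hxy (h4.trans h3.symm)
      · have hc : c = 0 := by
          rw [hd, mul_zero, zero_sub, neg_eq_zero] at h0
          exact (mul_eq_zero.1 h0).resolve_left hb
        apply A.v_ne y
        rw [← hcd, hc, hd]; simp
    · have h1 : d • A.v x - b • A.v y = 0 := by
        rw [← hab, ← hcd]
        have : d • (a • A.v y1 + b • A.v y2) - b • (c • A.v y1 + d • A.v y2) = (a * d - b * c) • A.v y1 := by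
          module
        rw [this, h0, zero_smul]
      have h2 : d • A.v x + (-b) • A.v y = 0 := by rw [neg_smul, ← sub_eq_add_neg]; exact h1
      exact hd (A.indep hxy h2).1
  refine mem_span_pair.2 ⟨(a * d - b * c)⁻¹ * d, -((a * d - b * c)⁻¹ * b), ?_⟩
  rw [← hab, ← hcd]
  have : ((a * d - b * c)⁻¹ * d) • (a • A.v y1 + b • A.v y2) + (-((a * d - b * c)⁻¹ * b)) • (c • A.v y1 + d • A.v y2)
      = ((a * d - b * c)⁻¹ * (a * d - b * c)) • A.v y1 := by module
  rw [this, inv_mul_cancel₀ hdet, one_smul]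

/-- a line with two fixed points of `n` is pointwise fixed. -/
theorem fix_line {x : X} {n : G} (hn : n ∈ A.N x) {y1 y2 y : X} (h1 : n • y1 = y1) (h2 : n • y2 = y2)
    (h12 : y1 ≠ y2) (hy : A.v y ∈ span K {A.v y1, A.v y2}) : n • y = y := by
  by_contra hc
  have hyx : y ≠ x := by
    rintro rfl
    exact hc (A.fixc y n hn)
  by_cases hx : A.v x ∈ span K {A.v y1, A.v y2}
  · -- one of `y1`, `y2` is not `x`
    have key : ∀ y1 y2 : X, n • y1 = y1 → y1 ≠ x → A.v x ∈ span K {A.v y1, A.v y2} →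
        A.v y ∈ span K {A.v y1, A.v y2} → False := by
      intro y1 y2 h1 h1x hx hy
      have h3 : A.v y1 ∈ span K {A.v x, A.v y} := A.two_pts hyx.symm hx hy
      obtain ⟨h, -, hz, hf⟩ := A.tr x n hn x (A.fixc x n hn) y y1 hc h1x h3
      have h4 := hf y1 h1
      have h5 : h • y = h • y1 := hz.trans h4.symm
      have h6 := MulAction.injective h h5
      exact hc (by rw [h6]; exact h1)
    by_cases h1x : y1 = x
    · have h2x : y2 ≠ x := by
        rintro rfl
        exact h12 h1x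
      rw [Set.pair_comm] at hx hy
      exact key y2 y1 h2 h2x hx hy
    · exact key y1 y2 h1 h1x hx hy
  · have h3 := A.col n y1 y2 y hy
    rw [h1, h2] at h3
    obtain ⟨a, b, hb, hab⟩ := A.line' hn hyx
    have ha : a = 0 := by
      by_contra ha
      apply hx
      have h4 : A.v x = a⁻¹ • (A.v (n • y) - b • A.v y) := by
        rw [hab, add_sub_cancel_right, smul_smul, inv_mul_cancel₀ ha, one_smul]
      rw [h4]
      exact Submodule.smul_mem _ _ (Submodule.sub_mem _ h3 (Submodule.smul_mem _ _ hy))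
    rw [ha, zero_smul, zero_add] at hab
    exact hc (A.inj _ _ ⟨b, hab⟩)

/-- the subspace of the points fixed by `n`. -/
def W {x : X} {n : G} (hn : n ∈ A.N x) : Submodule K V where
  carrier := {w | ∀ y, (∃ c : K, c ≠ 0 ∧ w = c • A.v y) → n • y = y}
  zero_mem' := by
    rintro y ⟨c, hc, h⟩
    exact absurd h.symm (smul_ne_zero hc (A.v_ne y))
  smul_mem' := by
    rintro k w hw y ⟨c, hc, h⟩
    have hk : k ≠ 0 := by
      rintro rfl
      rw [zero_smul] at h
      exact absurd h.symm (smul_ne_zero hc (A.v_ne y))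
    refine hw y ⟨k⁻¹ * c, mul_ne_zero (inv_ne_zero hk) hc, ?_⟩
    rw [← smul_smul, ← h, smul_smul, inv_mul_cancel₀ hk, one_smul]
  add_mem' := by
    rintro w1 w2 hw1 hw2 y ⟨c, hc, h⟩
    by_cases e1 : w1 = 0
    · rw [e1, zero_add] at h
      exact hw2 y ⟨c, hc, h⟩
    by_cases e2 : w2 = 0
    · rw [e2, add_zero] at h
      exact hw1 y ⟨c, hc, h⟩
    obtain ⟨y1, c1, h1⟩ := A.surj w1 e1
    obtain ⟨y2, c2, h2⟩ := A.surj w2 e2
    have hc1 : c1 ≠ 0 := by rintro rfl; rw [zero_smul] at h1; exact e1 h1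
    have hc2 : c2 ≠ 0 := by rintro rfl; rw [zero_smul] at h2; exact e2 h2
    have f1 : n • y1 = y1 := hw1 y1 ⟨c1, hc1, h1⟩
    have f2 : n • y2 = y2 := hw2 y2 ⟨c2, hc2, h2⟩
    have hy : A.v y = (c⁻¹ * c1) • A.v y1 + (c⁻¹ * c2) • A.v y2 := by
      rw [← smul_smul, ← smul_smul, ← h1, ← h2, ← smul_add, h, smul_smul, inv_mul_cancel₀ hc, one_smul]
    by_cases h12 : y1 = y2
    · rw [h12, ← add_smul] at hy
      rw [A.inj _ _ ⟨_, hy⟩]
      exact f2
    · exact A.fix_line hn f1 f2 h12 (mem_span_pair.2 ⟨_, _, hy.symm⟩)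

theorem mem_W {x : X} {n : G} (hn : n ∈ A.N x) (y : X) : A.v y ∈ A.W hn ↔ n • y = y := by
  constructor
  · intro h
    exact h y ⟨1, one_ne_zero, (one_smul _ _).symm⟩
  · rintro h y' ⟨c, hc, h'⟩
    have h1 : y = y' := A.inj _ _ ⟨c, h'⟩
    rw [← h1]; exact h

/-- a linear form vanishing exactly at the fixed points of `n`. -/
theorem exists_form [FiniteDimensional K V] {x : X} {n : G} (hn : n ∈ A.N x) {z : X} (hz : n • z ≠ z) :
    ∃ f : V →ₗ[K] K, f (A.v z) ≠ 0 ∧ ∀ y, f (A.v y) = 0 ↔ n • y = y := by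
  have h1 : A.v z ∉ A.W hn := fun h => hz ((A.mem_W hn z).1 h)
  obtain ⟨f, hf1, hf2⟩ := Submodule.exists_dual_map_eq_bot_of_notMem h1 inferInstance
  have hf3 : ∀ w ∈ A.W hn, f w = 0 := by
    intro w hw
    have : f w ∈ (A.W hn).map f := Submodule.mem_map_of_mem hw
    rw [hf2] at this
    exact this
  refine ⟨f, hf1, fun y => ⟨fun hy => ?_, fun hy => hf3 _ ((A.mem_W hn y).2 hy)⟩⟩
  by_cases hyz : y = z
  · rw [hyz] at hy
    exact absurd hy hf1
  obtain ⟨t, ht1, ht2⟩ := A.ax x n hn y z hyz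
  obtain ⟨a, b, hab⟩ := mem_span_pair.1 ht2
  have h2 : f (A.v t) = 0 := hf3 _ ((A.mem_W hn t).2 ht1)
  rw [← hab, map_add, map_smul, map_smul, hy, smul_zero, zero_add, smul_eq_mul, mul_eq_zero] at h2
  have hb : b = 0 := h2.resolve_right hf1
  rw [hb, zero_smul, add_zero] at hab
  have h3 : t = y := A.inj _ _ ⟨a, hab.symm⟩
  rw [← h3]; exact ht1

/-- `n` acts as the transvection `w ↦ w + φ w • v x`. -/
def Act (x : X) (φ : V →ₗ[K] K) (n : G) : Prop :=
  ∀ y, ∃ d : K, A.v (n • y) = d • (A.v y + φ (A.v y) • A.v x)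

theorem act_ext {x : X} {n : G} (hn : n ∈ A.N x) {φ : V →ₗ[K] K}
    (hφ : ∀ y, φ (A.v y) = 0 ↔ n • y = y) {z y : X} (hz : φ (A.v z) ≠ 0)
    (hzn : ∃ d : K, A.v (n • z) = d • (A.v z + φ (A.v z) • A.v x))
    (hy : A.v y ∉ span K {A.v x, A.v z}) : ∃ d : K, A.v (n • y) = d • (A.v y + φ (A.v y) • A.v x) := by
  have hxx : φ (A.v x) = 0 := (hφ x).2 (A.fixc x n hn)
  have hxz : x ≠ z := by rintro rfl; exact hz hxx
  by_cases hy0 : φ (A.v y) = 0
  · refine ⟨1, ?_⟩
    rw [(hφ y).1 hy0, hy0]; simp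
  have hyx : y ≠ x := by rintro rfl; exact hy0 hxx
  obtain ⟨a, b, hb, hab⟩ := A.line' hn hyx
  set k : K := φ (A.v y) / φ (A.v z) with hk
  set w : V := A.v y - k • A.v z with hw
  have hw0 : w ≠ 0 := by
    intro h0
    rw [hw, sub_eq_zero] at h0
    apply hy
    rw [h0]
    exact Submodule.smul_mem _ _ (Submodule.subset_span (by simp))
  obtain ⟨t, c, ht⟩ := A.surj w hw0
  have hc : c ≠ 0 := by rintro rfl; rw [zero_smul] at ht; exact hw0 ht
  have ht0 : φ (A.v t) = 0 := by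
    have h1 : φ w = 0 := by
      rw [hw, map_sub, map_smul, hk, smul_eq_mul, div_mul_cancel₀ _ hz, sub_self]
    rw [ht, map_smul, smul_eq_mul, mul_eq_zero] at h1
    exact h1.resolve_left hc
  have htn : n • t = t := (hφ t).1 ht0
  have h1 : A.v y ∈ span K {A.v t, A.v z} := by
    refine mem_span_pair.2 ⟨c, k, ?_⟩
    rw [← ht, hw]; module
  have h2 := A.col n t z y h1
  rw [htn] at h2
  obtain ⟨d, hd⟩ := hzn
  obtain ⟨e, g, heg⟩ := mem_span_pair.1 h2
  -- `e v t + g v (n z) = a v x + b v y`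
  rw [hab, hd] at heg
  have ht' : A.v t = c⁻¹ • w := by rw [ht, smul_smul, inv_mul_cancel₀ hc, one_smul]
  rw [ht', hw] at heg
  have h3 : (b - e * c⁻¹) • A.v y = (g * d * φ (A.v z) - a) • A.v x + (g * d - e * c⁻¹ * k) • A.v z := by
    have : b • A.v y = (e • c⁻¹ • (A.v y - k • A.v z) + g • d • (A.v z + φ (A.v z) • A.v x)) - a • A.v x := by
      rw [heg]; module
    rw [sub_smul, this]; module
  have h4 : b = e * c⁻¹ := by
    by_contra hne
    have hne' : b - e * c⁻¹ ≠ 0 := sub_ne_zero.2 hne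
    apply hy
    have : A.v y = (b - e * c⁻¹)⁻¹ • ((g * d * φ (A.v z) - a) • A.v x + (g * d - e * c⁻¹ * k) • A.v z) := by
      rw [← h3, smul_smul, inv_mul_cancel₀ hne', one_smul]
    rw [this]
    exact Submodule.smul_mem _ _ (mem_span_pair.2 ⟨_, _, rfl⟩)
  rw [← h4, sub_self, zero_smul] at h3
  obtain ⟨h5, h6⟩ := A.indep hxz h3.symm
  refine ⟨b, ?_⟩
  have h7 : g * d = b * k := sub_eq_zero.1 h6
  have h8 : a = b * φ (A.v y) := by
    have : a = g * d * φ (A.v z) := (sub_eq_zero.1 h5).symm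
    rw [this, h7, hk, mul_assoc, div_mul_cancel₀ _ hz]
  rw [hab, h8]; module

theorem exists_act [FiniteDimensional K V] [FaithfulSMul G X] (h3 : 3 ≤ finrank K V) {x : X} {n : G}
    (hn : n ∈ A.N x) (hn1 : n ≠ 1) :
    ∃ φ : V →ₗ[K] K, φ ≠ 0 ∧ (∀ y, φ (A.v y) = 0 ↔ n • y = y) ∧ A.Act x φ n := by
  obtain ⟨z, hz⟩ : ∃ z : X, n • z ≠ z := by
    by_contra hcon
    push Not at hcon
    apply hn1
    apply FaithfulSMul.eq_of_smul_eq_smul (α := X)
    intro y
    rw [hcon y, one_smul]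
  have hzx : z ≠ x := by rintro rfl; exact hz (A.fixc z n hn)
  obtain ⟨f, hf1, hf2⟩ := A.exists_form hn hz
  obtain ⟨a, b, hb, hab⟩ := A.line' hn hzx
  have ha : a ≠ 0 := by
    rintro rfl
    rw [zero_smul, zero_add] at hab
    exact hz (A.inj _ _ ⟨b, hab⟩)
  set k : K := b⁻¹ * a * (f (A.v z))⁻¹ with hk
  have hk0 : k ≠ 0 := mul_ne_zero (mul_ne_zero (inv_ne_zero hb) ha) (inv_ne_zero hf1)
  have hφ : ∀ y, (k • f) (A.v y) = 0 ↔ n • y = y := by
    intro y
    rw [LinearMap.smul_apply, smul_eq_mul, mul_eq_zero]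
    rw [← hf2 y]
    exact ⟨fun h => h.resolve_left hk0, Or.inr⟩
  have hφz : (k • f) (A.v z) = b⁻¹ * a := by
    rw [LinearMap.smul_apply, smul_eq_mul, hk, mul_assoc, inv_mul_cancel₀ hf1, mul_one]
  have hφz0 : (k • f) (A.v z) ≠ 0 := by
    rw [hφz]; exact mul_ne_zero (inv_ne_zero hb) ha
  refine ⟨k • f, ?_, hφ, ?_⟩
  · intro h0
    rw [h0] at hφz0
    exact hφz0 rfl
  have hzz : ∃ d : K, A.v (n • z) = d • (A.v z + (k • f) (A.v z) • A.v x) := by
    refine ⟨b, ?_⟩
    rw [hφz, hab, smul_add, smul_smul, ← mul_assoc, mul_inv_cancel₀ hb, one_mul, add_comm]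
  intro y
  by_cases hy : A.v y ∈ span K {A.v x, A.v z}
  · by_cases hyx : y = x
    · refine ⟨1, ?_⟩
      have h0 : (k • f) (A.v y) = 0 := (hφ y).2 (by rw [hyx]; exact A.fixc x n hn)
      rw [(hφ y).1 h0, h0]; simp
    -- a vector outside the line
    obtain ⟨w, hw⟩ : ∃ w : V, w ∉ span K {A.v x, A.v z} := by
      by_contra hcon
      push Not at hcon
      have htop : span K {A.v x, A.v z} = ⊤ := eq_top_iff.2 fun w _ => hcon w
      have h1 : finrank K (span K ({A.v x, A.v z} : Set V)) ≤ 2 := by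
        classical
        have h2 := finrank_span_finset_le_card (R := K) ({A.v x, A.v z} : Finset V)
        have h4 : ({A.v x, A.v z} : Finset V).card ≤ 2 := Finset.card_le_two
        have h5 : (({A.v x, A.v z} : Finset V) : Set V) = {A.v x, A.v z} := by simp
        rw [h5] at h2
        exact h2.trans h4
      rw [htop, finrank_top] at h1
      omega
    obtain ⟨w', hw', hw'2⟩ : ∃ w : V, w ∉ span K {A.v x, A.v z} ∧ (k • f) w ≠ 0 := by
      by_cases h0 : (k • f) w = 0
      · refine ⟨w + A.v z, ?_, ?_⟩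
        · intro h1
          apply hw
          have h2 : w = (w + A.v z) - A.v z := by abel
          rw [h2]
          exact Submodule.sub_mem _ h1 (Submodule.subset_span (by simp))
        · rw [map_add, h0, zero_add]; exact hφz0
      · exact ⟨w, hw, h0⟩
    have hw0 : w' ≠ 0 := by rintro rfl; exact hw' (Submodule.zero_mem _)
    obtain ⟨z', c, hc⟩ := A.surj w' hw0
    have hc0 : c ≠ 0 := by rintro rfl; rw [zero_smul] at hc; exact hw0 hc
    have hz' : A.v z' ∉ span K {A.v x, A.v z} := by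
      intro h1
      apply hw'
      rw [hc]
      exact Submodule.smul_mem _ _ h1
    have hz'2 : (k • f) (A.v z') ≠ 0 := by
      intro h0
      apply hw'2
      rw [hc, map_smul, h0, smul_zero]
    have hz'3 := A.act_ext hn hφ hφz0 hzz hz'
    refine A.act_ext hn hφ hz'2 hz'3 ?_
    intro h1
    -- `y` on the lines `x z'` and `x z`
    apply hz'
    have h2 : A.v z' ∈ span K {A.v x, A.v y} := A.exch (Ne.symm hyx) h1
    obtain ⟨p, q, hpq⟩ := mem_span_pair.1 h2
    rw [← hpq]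
    exact Submodule.add_mem _ (Submodule.smul_mem _ _ (Submodule.subset_span (by simp)))
      (Submodule.smul_mem _ _ hy)
  · exact A.act_ext hn hφ hφz0 hzz hy

end Geo

end H12.ONan
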