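import Cfsg.Agent.Lib.H12.ONanA
import Mathlib.Tactic

/-!
O'Nan project, piece 2: every transvection occurs.
-/

set_option autoImplicit false

namespace H12.ONan

open Submodule Module

universe u1 u2 u3 u4

namespace Geo

variable {G : Type u1} {X : Type u2} {K : Type u3} {V : Type u4} [Group G] [MulAction G X]
    [Field K] [AddCommGroup V] [Module K V] (A : Geo G X K V)

/-- the form `φ` is an axis: its zeros are the fixed points of an elation. -/
def Ax (φ : V →ₗ[K] K) : Prop := ∃ x, ∃ n ∈ A.N x, ∀ y, φ (A.v y) = 0 ↔ n • y = y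

theorem exists_pt {φ : V →ₗ[K] K} (hφ : φ ≠ 0) : ∃ z, φ (A.v z) ≠ 0 := by
  by_contra hcon
  push Not at hcon
  apply hφ
  ext w
  by_cases hw : w = 0
  · rw [hw]; simp
  obtain ⟨z, c, hz⟩ := A.surj w hw
  rw [hz, map_smul, hcon z]; simp

/-- a form vanishing where `φ` vanishes is a multiple of `φ`. -/
theorem mult_of {φ ψ : V →ₗ[K] K} {z : X} (hz : φ (A.v z) ≠ 0)
    (h : ∀ y, φ (A.v y) = 0 → ψ (A.v y) = 0) : ψ = (ψ (A.v z) / φ (A.v z)) • φ := by
  ext w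
  have h1 : ∀ w : V, φ w = 0 → ψ w = 0 := by
    intro w hw
    by_cases hw0 : w = 0
    · rw [hw0]; simp
    obtain ⟨y, c, hc⟩ := A.surj w hw0
    have hc0 : c ≠ 0 := by rintro rfl; rw [zero_smul] at hc; exact hw0 hc
    rw [hc, map_smul, smul_eq_mul, mul_eq_zero] at hw
    rw [hc, map_smul, h y (hw.resolve_left hc0), smul_zero]
  have h2 := h1 (w - (φ w / φ (A.v z)) • A.v z) (by
    rw [map_sub, map_smul, smul_eq_mul, div_mul_cancel₀ _ hz, sub_self])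
  rw [map_sub, map_smul, smul_eq_mul, sub_eq_zero] at h2
  rw [h2, LinearMap.smul_apply, smul_eq_mul]
  field_simp

theorem exists_trans [FiniteDimensional K V] [FaithfulSMul G X] (h3 : 3 ≤ finrank K V)
    {φ : V →ₗ[K] K} (hφ : φ ≠ 0) (hA : A.Ax φ) {b : X} (hb : φ (A.v b) = 0) (c : K) :
    ∃ h ∈ A.N b, A.Act b (c • φ) h := by
  obtain ⟨x, n, hn, hf⟩ := hA
  by_cases hc : c = 0
  · refine ⟨1, (A.N b).one_mem, fun y => ⟨1, ?_⟩⟩
    rw [hc]; simp
  obtain ⟨z, hz⟩ := A.exists_pt hφ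
  have hzb : b ≠ z := by rintro rfl; exact hz hb
  set w : V := A.v z + (c * φ (A.v z)) • A.v b with hw
  have hw0 : w ≠ 0 := by
    intro h0
    have h1 : (c * φ (A.v z)) • A.v b + (1 : K) • A.v z = 0 := by rw [one_smul, add_comm, ← hw, h0]
    exact one_ne_zero (A.indep hzb h1).2
  obtain ⟨z', d, hd⟩ := A.surj w hw0
  have hd0 : d ≠ 0 := by rintro rfl; rw [zero_smul] at hd; exact hw0 hd
  have hz' : A.v z' = d⁻¹ • w := by rw [hd, smul_smul, inv_mul_cancel₀ hd0, one_smul]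
  have hz'b : z' ≠ b := by
    rintro rfl
    have h1 : (d⁻¹ * (c * φ (A.v z)) - 1) • A.v z' + d⁻¹ • A.v z = 0 := by
      have h2 : A.v z' = d⁻¹ • (A.v z + (c * φ (A.v z)) • A.v z') := hz'
      have h3 : (d⁻¹ * (c * φ (A.v z)) - 1) • A.v z' + d⁻¹ • A.v z =
        d⁻¹ • (A.v z + (c * φ (A.v z)) • A.v z') - A.v z' := by module
      rw [h3, ← h2, sub_self]
    exact inv_ne_zero hd0 (A.indep hzb h1).2
  have hline : A.v z' ∈ span K {A.v b, A.v z} := by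
    refine mem_span_pair.2 ⟨d⁻¹ * (c * φ (A.v z)), d⁻¹, ?_⟩
    rw [hz', hw]; module
  have hnz : n • z ≠ z := fun h => hz ((hf z).2 h)
  obtain ⟨h, hhN, hhz, hhf⟩ := A.tr x n hn b ((hf b).1 hb) z z' hnz hz'b hline
  have hzz' : z' ≠ z := by
    rintro rfl
    have h1 : (d⁻¹ * (c * φ (A.v z'))) • A.v b + (d⁻¹ - 1) • A.v z' = 0 := by
      have h2 : A.v z' = d⁻¹ • (A.v z' + (c * φ (A.v z')) • A.v b) := hz'
      have h3 : (d⁻¹ * (c * φ (A.v z'))) • A.v b + (d⁻¹ - 1) • A.v z' =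
        d⁻¹ • (A.v z' + (c * φ (A.v z')) • A.v b) - A.v z' := by module
      rw [h3, ← h2, sub_self]
    exact mul_ne_zero (inv_ne_zero hd0) (mul_ne_zero hc hz) (A.indep hzb h1).1
  have hh1 : h ≠ 1 := by
    rintro rfl
    rw [one_smul] at hhz
    exact hzz' hhz.symm
  obtain ⟨ψ, hψ0, hψf, hψ⟩ := A.exists_act h3 hhN hh1
  have hm : ψ = (ψ (A.v z) / φ (A.v z)) • φ :=
    A.mult_of hz (fun y hy => (hψf y).2 (hhf y ((hf y).1 hy)))
  have hval : ψ (A.v z) = c * φ (A.v z) := by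
    obtain ⟨e, he⟩ := hψ z
    rw [hhz, hz', hw] at he
    have h1 : (d⁻¹ * (c * φ (A.v z)) - e * ψ (A.v z)) • A.v b + (d⁻¹ - e) • A.v z = 0 := by
      have h3 : (d⁻¹ * (c * φ (A.v z)) - e * ψ (A.v z)) • A.v b + (d⁻¹ - e) • A.v z =
        d⁻¹ • (A.v z + (c * φ (A.v z)) • A.v b) - e • (A.v z + ψ (A.v z) • A.v b) := by module
      rw [h3, he, sub_self]
    obtain ⟨h4, h5⟩ := A.indep hzb h1
    have h6 : e = d⁻¹ := (sub_eq_zero.1 h5).symm
    rw [h6, ← mul_sub, mul_eq_zero] at h4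
    exact (sub_eq_zero.1 (h4.resolve_left (inv_ne_zero hd0))).symm
  have hm2 : ψ = c • φ := by
    rw [hm, hval, mul_div_assoc, div_self hz, mul_one]
  exact ⟨h, hhN, hm2 ▸ hψ⟩

/-- the point map is well defined under the action. -/
theorem act_fix {b : X} {φ : V →ₗ[K] K} {h : G} (hA : A.Act b φ h) (y : X) (ψ : V →ₗ[K] K) :
    ψ (A.v (h • y)) = 0 ↔ ψ (A.v y) + φ (A.v y) * ψ (A.v b) = 0 := by
  obtain ⟨d, hd⟩ := hA y
  have hd0 : d ≠ 0 := by
    rintro rfl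
    rw [zero_smul] at hd
    exact A.v_ne _ hd
  rw [hd, map_smul, map_add, map_smul, smul_eq_mul, smul_eq_mul, mul_eq_zero]
  exact ⟨fun h => h.resolve_left hd0, Or.inr⟩

theorem ax_add [FiniteDimensional K V] [FaithfulSMul G X] (h3 : 3 ≤ finrank K V)
    {φ ψ : V →ₗ[K] K} (hφ : φ ≠ 0) (hA : A.Ax φ) (hB : A.Ax ψ) {b : X} (hb : φ (A.v b) = 0)
    (hb2 : ψ (A.v b) ≠ 0) (c : K) : A.Ax (ψ + c • φ) := by
  obtain ⟨h, hh, hact⟩ := A.exists_trans h3 hφ hA hb (c / ψ (A.v b))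
  obtain ⟨x, n, hn, hf⟩ := hB
  refine ⟨h⁻¹ • x, h⁻¹ * n * h⁻¹⁻¹, A.conj _ _ _ hn, fun y => ?_⟩
  rw [inv_inv, mul_smul, mul_smul, inv_smul_eq_iff, ← hf, A.act_fix hact y ψ, LinearMap.add_apply,
    LinearMap.smul_apply, LinearMap.smul_apply, smul_eq_mul, smul_eq_mul]
  have : c / ψ (A.v b) * φ (A.v y) * ψ (A.v b) = c * φ (A.v y) := by field_simp
  rw [this]

/-- the submodule of the forms which are axes. -/
def F [FiniteDimensional K V] [FaithfulSMul G X] (h3 : 3 ≤ finrank K V) (x0 : X) :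
    Submodule K (Dual K V) where
  carrier := {φ | A.Ax φ}
  zero_mem' := ⟨x0, 1, (A.N x0).one_mem, fun y => by simp⟩
  smul_mem' := by
    rintro c φ hφ
    by_cases hc : c = 0
    · rw [hc, zero_smul]
      exact ⟨x0, 1, (A.N x0).one_mem, fun y => by simp⟩
    · obtain ⟨x, n, hn, hf⟩ := hφ
      refine ⟨x, n, hn, fun y => ?_⟩
      rw [LinearMap.smul_apply, smul_eq_mul, mul_eq_zero, ← hf]
      exact ⟨fun h => h.resolve_left hc, Or.inr⟩
  add_mem' := by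
    rintro ψ φ hψ hφ
    by_cases hφ0 : φ = 0
    · rw [hφ0, add_zero]; exact hψ
    by_cases hb : ∃ b, φ (A.v b) = 0 ∧ ψ (A.v b) ≠ 0
    · obtain ⟨b, hb1, hb2⟩ := hb
      have := A.ax_add h3 hφ0 hφ hψ hb1 hb2 1
      rw [one_smul] at this
      exact this
    · push Not at hb
      obtain ⟨z, hz⟩ := A.exists_pt hφ0
      have h1 := A.mult_of hz hb
      have h2 : ψ + φ = (ψ (A.v z) / φ (A.v z) + 1) • φ := by
        rw [add_smul, one_smul, ← h1]
      rw [h2]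
      by_cases hc : ψ (A.v z) / φ (A.v z) + 1 = 0
      · rw [hc, zero_smul]
        exact ⟨x0, 1, (A.N x0).one_mem, fun y => by simp⟩
      · obtain ⟨x, n, hn, hf⟩ := hφ
        refine ⟨x, n, hn, fun y => ?_⟩
        rw [LinearMap.smul_apply, smul_eq_mul, mul_eq_zero, ← hf]
        exact ⟨fun h => h.resolve_left hc, Or.inr⟩

theorem mem_F [FiniteDimensional K V] [FaithfulSMul G X] (h3 : 3 ≤ finrank K V) (x0 : X)
    (φ : Dual K V) : φ ∈ A.F h3 x0 ↔ A.Ax φ := Iff.rfl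

theorem all_ax [FiniteDimensional K V] [FaithfulSMul G X] (h3 : 3 ≤ finrank K V)
    (htr : ∀ x y : X, ∃ g : G, g • x = y) (φ : Dual K V) : A.Ax φ := by
  have hV : ∃ w : V, w ≠ 0 := by
    have : Nontrivial V := Module.nontrivial_of_finrank_pos (R := K) (by omega)
    exact exists_ne 0
  obtain ⟨w0, hw0⟩ := hV
  obtain ⟨x0, -, -⟩ := A.surj w0 hw0
  suffices htop : A.F h3 x0 = ⊤ by
    rw [← A.mem_F h3 x0, htop]; trivial
  by_contra hne
  have h1 : (A.F h3 x0).dualCoannihilator ≠ ⊥ := by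
    intro h0
    apply hne
    have h2 := Subspace.dualCoannihilator_dualAnnihilator_eq (K := K) (V := V) (W := A.F h3 x0)
    rw [h0] at h2
    rw [← h2, Submodule.dualAnnihilator_bot]
  obtain ⟨w, hw1, hw2⟩ := Submodule.exists_mem_ne_zero_of_ne_bot h1
  rw [Submodule.mem_dualCoannihilator] at hw1
  obtain ⟨y, c, hc⟩ := A.surj w hw2
  have hc0 : c ≠ 0 := by rintro rfl; rw [zero_smul] at hc; exact hw2 hc
  have h3' : ∀ x, ∀ n ∈ A.N x, n • y = y := by
    intro x n hn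
    by_cases hn1 : n = 1
    · rw [hn1, one_smul]
    obtain ⟨ψ, hψ0, hψf, hψ⟩ := A.exists_act h3 hn hn1
    have h4 := hw1 ψ ⟨x, n, hn, hψf⟩
    rw [hc, map_smul, smul_eq_mul, mul_eq_zero] at h4
    exact (hψf y).1 (h4.resolve_left hc0)
  obtain ⟨n, hn, hn1⟩ := A.ntriv x0
  apply hn1
  apply FaithfulSMul.eq_of_smul_eq_smul (α := X)
  intro y'
  rw [one_smul]
  obtain ⟨g, hg⟩ := htr y y'
  have h5 := h3' _ _ (A.conj g⁻¹ x0 n hn)
  rw [inv_inv, mul_smul, mul_smul, hg, inv_smul_eq_iff, hg] at h5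
  exact h5

/-- every transvection with centre `v b` occurs in `N b`. -/
theorem all_trans [FiniteDimensional K V] [FaithfulSMul G X] (h3 : 3 ≤ finrank K V)
    (htr : ∀ x y : X, ∃ g : G, g • x = y) (φ : Dual K V) (b : X) (hb : φ (A.v b) = 0) :
    ∃ h ∈ A.N b, A.Act b φ h := by
  by_cases hφ : φ = 0
  · refine ⟨1, (A.N b).one_mem, fun y => ⟨1, ?_⟩⟩
    rw [hφ]; simp
  · have := A.exists_trans h3 hφ (A.all_ax h3 htr φ) hb 1
    rw [one_smul] at this
    exact this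

end Geo

end H12.ONan
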