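import Mathlib
import Cfsg.Prelude.Def_HallClasses

/-! Pronormality of a supplement of an abelian normal subgroup. -/

set_option autoImplicit false

open Subgroup
open scoped commutatorElement

namespace H12.ProAb

variable {G : Type*} [Group G]

theorem map_conj_mul (H : Subgroup G) (a b : G) :
    H.map (MulAut.conj (a * b)).toMonoidHom = (H.map (MulAut.conj b).toMonoidHom).map (MulAut.conj a).toMonoidHom := by
  rw [Subgroup.map_map, map_mul]; rfl

theorem map_conj_one (H : Subgroup G) : H.map (MulAut.conj (1 : G)).toMonoidHom = H := by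
  rw [map_one]
  exact Subgroup.map_id H

theorem mem_map_conj {H : Subgroup G} {g x : G} :
    x ∈ H.map (MulAut.conj g).toMonoidHom ↔ g⁻¹ * x * g ∈ H := by
  constructor
  · rintro ⟨y, hy, rfl⟩
    have : g⁻¹ * (g * y * g⁻¹) * g = y := by group
    change g⁻¹ * (g * y * g⁻¹) * g ∈ H
    rwa [this]
  · intro h
    refine ⟨_, h, ?_⟩
    change g * (g⁻¹ * x * g) * g⁻¹ = x
    group

theorem map_conj_eq_of_mem_normalizer {H : Subgroup G} {g : G} (hg : g ∈ normalizer (H : Set G)) :
    H.map (MulAut.conj g).toMonoidHom = H := by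
  ext x
  rw [mem_map_conj]
  exact (mem_normalizer_iff''.1 hg x).symm

theorem mem_normalizer_of_map_conj {H : Subgroup G} {g : G}
    (h : H.map (MulAut.conj g).toMonoidHom = H) : g ∈ normalizer (H : Set G) := by
  rw [mem_normalizer_iff'']
  intro x
  rw [← mem_map_conj, h]

theorem pronormal_iff [Finite G] (V : Subgroup G) [V.Normal] (hV : IsMulCommutative V)
    (H : Subgroup G) (hHV : H ⊔ V = ⊤) :
    Cfsg.IsPronormal H ↔
      ∀ U : Subgroup G, U ≤ V → (∀ h ∈ H, U.map (MulAut.conj h).toMonoidHom = U) →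
        U = (U ⊓ normalizer (H : Set G)) ⊔ ⁅H, U⁆ := by
  have hcomm : ∀ a ∈ V, ∀ b ∈ V, a * b = b * a := fun a ha b hb =>
    congrArg Subtype.val (hV.is_comm.comm (⟨a, ha⟩ : V) ⟨b, hb⟩)
  have hdec : ∀ g : G, ∃ v ∈ V, ∃ h ∈ H, g = v * h := by
    intro g
    have hg : g ∈ V ⊔ H := by rw [sup_comm, hHV]; trivial
    obtain ⟨v, hv, h, hh, e⟩ := Subgroup.mem_sup_of_normal_left.1 hg
    exact ⟨v, hv, h, hh, e.symm⟩
  have hUn : ∀ U : Subgroup G, U ≤ V → (∀ h ∈ H, U.map (MulAut.conj h).toMonoidHom = U) → U.Normal := by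
    intro U hUV hU
    constructor
    intro u hu g
    obtain ⟨v, hv, h, hh, rfl⟩ := hdec g
    have h1 : h * u * h⁻¹ ∈ U := by
      rw [← hU h hh]
      exact ⟨u, hu, rfl⟩
    have h2 : v * h * u * (v * h)⁻¹ = v * (h * u * h⁻¹) * v⁻¹ := by group
    rw [h2, hcomm v hv _ (hUV h1), mul_inv_cancel_right]
    exact h1
  have hHUn : ∀ U : Subgroup G, U ≤ V → U.Normal → ⁅H, U⁆ ≤ U ∧ ⁅H, U⁆.Normal := by
    intro U hUV hU
    have h0 : ⁅H, U⁆ ≤ U := Subgroup.commutator_le_right H U
    refine ⟨h0, ?_⟩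
    constructor
    intro u hu g
    obtain ⟨v, hv, h, hh, rfl⟩ := hdec g
    have h1 : h * u * h⁻¹ ∈ ⁅H, U⁆ := by
      have h3 : ⁅H, U⁆.map (MulAut.conj h).toMonoidHom = ⁅H, U⁆ := by
        rw [Subgroup.map_commutator]
        congr 1
        · exact map_conj_eq_of_mem_normalizer (le_normalizer hh)
        · exact map_conj_eq_of_mem_normalizer (by rw [normalizer_eq_top]; trivial)
      rw [← h3]
      exact ⟨u, hu, rfl⟩
    have h2 : v * h * u * (v * h)⁻¹ = v * (h * u * h⁻¹) * v⁻¹ := by group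
    rw [h2, hcomm v hv _ (hUV (h0 h1)), mul_inv_cancel_right]
    exact h1
  constructor
  · intro hpro U hUV hU
    have hUnorm := hUn U hUV hU
    obtain ⟨hle, hn⟩ := hHUn U hUV hUnorm
    apply le_antisymm _ (sup_le inf_le_left hle)
    intro u hu
    obtain ⟨x, hx, hxe⟩ := hpro u
    have hK : H ⊔ H.map (MulAut.conj u).toMonoidHom ≤ ⁅H, U⁆ ⊔ H := by
      refine sup_le le_sup_right ?_
      rintro _ ⟨h, hh, rfl⟩
      change u * h * u⁻¹ ∈ _
      have h1 : u * h * u⁻¹ = ⁅h, u⁆⁻¹ * h := by rw [commutatorElement_def]; group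
      rw [h1]
      exact mul_mem (le_sup_left (a := ⁅H, U⁆) (inv_mem (commutator_mem_commutator hh hu)))
        (le_sup_right (b := H) hh)
    obtain ⟨w, hw, h, hh, e⟩ := Subgroup.mem_sup_of_normal_left.1 (hK hx)
    have h2 : H.map (MulAut.conj x).toMonoidHom = H.map (MulAut.conj w).toMonoidHom := by
      rw [← e, map_conj_mul, map_conj_eq_of_mem_normalizer (le_normalizer hh)]
    have h3 : w⁻¹ * u ∈ normalizer (H : Set G) := by
      apply mem_normalizer_of_map_conj
      rw [map_conj_mul, hxe, h2, ← map_conj_mul, inv_mul_cancel, map_conj_one]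
    have h4 : u = w * (w⁻¹ * u) := by group
    rw [h4]
    refine mul_mem (le_sup_right (a := U ⊓ normalizer (H : Set G)) hw)
      (le_sup_left (a := U ⊓ normalizer (H : Set G)) (mem_inf.2 ⟨?_, h3⟩))
    exact mul_mem (inv_mem (hle hw)) hu
  · intro hcond g
    obtain ⟨v, hv, h₀, hh₀, rfl⟩ := hdec g
    have h1 : H.map (MulAut.conj (v * h₀)).toMonoidHom = H.map (MulAut.conj v).toMonoidHom := by
      rw [map_conj_mul, map_conj_eq_of_mem_normalizer (le_normalizer hh₀)]
    rw [h1]
    obtain ⟨K, hK⟩ : ∃ K, K = H ⊔ H.map (MulAut.conj v).toMonoidHom := ⟨_, rfl⟩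
    rw [← hK]
    have hHK : H ≤ K := by rw [hK]; exact le_sup_left
    have hHvK : ∀ h ∈ H, v * h * v⁻¹ ∈ K := fun h hh => by
      rw [hK]
      exact le_sup_right (a := H) ⟨h, hh, rfl⟩
    -- the H-closure of v
    obtain ⟨U, hU⟩ : ∃ U, U = Subgroup.closure {x : G | ∃ h ∈ H, x = h * v * h⁻¹} := ⟨_, rfl⟩
    have hUV : U ≤ V := by
      rw [hU, closure_le]
      rintro _ ⟨h, hh, rfl⟩
      exact (inferInstance : V.Normal).conj_mem v hv h
    have hvU : v ∈ U := by
      rw [hU]; exact subset_closure ⟨1, one_mem _, by group⟩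
    have hUinv : ∀ h ∈ H, U.map (MulAut.conj h).toMonoidHom = U := by
      have hle : ∀ h ∈ H, U.map (MulAut.conj h).toMonoidHom ≤ U := by
        intro h hh
        rw [hU, MonoidHom.map_closure, closure_le]
        rintro _ ⟨_, ⟨h', hh', rfl⟩, rfl⟩
        refine subset_closure ⟨h * h', mul_mem hh hh', ?_⟩
        change h * (h' * v * h'⁻¹) * h⁻¹ = _
        group
      intro h hh
      apply le_antisymm (hle h hh)
      intro x hx
      have h2 := hle h⁻¹ (inv_mem hh) (mem_map_of_mem _ hx)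
      refine ⟨_, h2, ?_⟩
      change h * (h⁻¹ * x * h⁻¹⁻¹) * h⁻¹ = x
      group
    -- commutators lie in K
    have hcK : ∀ u ∈ U, ∀ h ∈ H, ⁅h, u⁆ ∈ K := by
      intro u hu
      rw [hU] at hu
      have hu2 : u ∈ V ∧ ∀ h ∈ H, ⁅h, u⁆ ∈ K := by
        induction hu using Subgroup.closure_induction with
        | mem x hx =>
          obtain ⟨h', hh', rfl⟩ := hx
          refine ⟨(inferInstance : V.Normal).conj_mem v hv h', fun h hh => ?_⟩
          have e : ⁅h, h' * v * h'⁻¹⁆ = (h * h') * (v * (h * h')⁻¹ * v⁻¹) * (h' * (v * h'⁻¹ * v⁻¹))⁻¹ := by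
            rw [commutatorElement_def]; group
          rw [e]
          refine mul_mem (mul_mem (hHK (mul_mem hh hh')) (hHvK _ (inv_mem (mul_mem hh hh')))) (inv_mem ?_)
          exact mul_mem (hHK hh') (hHvK _ (inv_mem hh'))
        | one => exact ⟨one_mem _, fun h hh => by rw [commutatorElement_one_right]; exact one_mem _⟩
        | mul a b _ _ ha hb =>
          refine ⟨mul_mem ha.1 hb.1, fun h hh => ?_⟩
          have hn : ⁅h, b⁆ ∈ V := by
            rw [commutatorElement_def]
            exact mul_mem ((inferInstance : V.Normal).conj_mem b hb.1 h) (inv_mem hb.1)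
          have e : ⁅h, a * b⁆ = ⁅h, a⁆ * (a * ⁅h, b⁆ * a⁻¹) := by
            simp only [commutatorElement_def]; group
          rw [e, hcomm a ha.1 _ hn, mul_inv_cancel_right]
          exact mul_mem (ha.2 h hh) (hb.2 h hh)
        | inv a _ ha =>
          refine ⟨inv_mem ha.1, fun h hh => ?_⟩
          have hn : ⁅h, a⁆ ∈ V := by
            rw [commutatorElement_def]
            exact mul_mem ((inferInstance : V.Normal).conj_mem a ha.1 h) (inv_mem ha.1)
          have e : ⁅h, a⁻¹⁆ = a⁻¹ * ⁅h, a⁆⁻¹ * a := by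
            simp only [commutatorElement_def]; group
          rw [e, mul_assoc, hcomm _ (inv_mem hn) a ha.1, inv_mul_cancel_left]
          exact inv_mem (ha.2 h hh)
      exact hu2.2
    have hUnorm := hUn U hUV hUinv
    obtain ⟨hle, hn⟩ := hHUn U hUV hUnorm
    have hHUK : ⁅H, U⁆ ≤ K := by
      rw [commutator_le]
      intro h hh u hu
      exact hcK u hu h hh
    have h2 : v ∈ ⁅H, U⁆ ⊔ (U ⊓ normalizer (H : Set G)) := by
      rw [sup_comm, ← hcond U hUV hUinv]; exact hvU
    obtain ⟨w, hw, n, hn', e⟩ := Subgroup.mem_sup_of_normal_left.1 h2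
    refine ⟨w, hHUK hw, ?_⟩
    rw [← e, map_conj_mul, map_conj_eq_of_mem_normalizer (mem_inf.1 hn').2]

end H12.ProAb
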