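import Cfsg.Agent.Lib.H12.ProAb
import Cfsg.Agent.Lib.H42.Pronormal

/-! Pronormality of the overgroups of Sylow subgroups in extensions. -/

set_option autoImplicit false

open Subgroup
open scoped commutatorElement

namespace H12.ProSyl

open H12.ProAb

variable {G : Type*} [Group G]

/-- the conjugate subgroup `g H g⁻¹`. -/
abbrev cj (g : G) (H : Subgroup G) : Subgroup G := H.map (MulAut.conj g).toMonoidHom

theorem cj_mul (a b : G) (H : Subgroup G) : cj (a * b) H = cj a (cj b H) := map_conj_mul H a b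

theorem cj_one (H : Subgroup G) : cj 1 H = H := map_conj_one H

theorem mem_cj {H : Subgroup G} {g x : G} : x ∈ cj g H ↔ g⁻¹ * x * g ∈ H := mem_map_conj

theorem conj_mem_cj {H : Subgroup G} {g x : G} (hx : x ∈ H) : g * x * g⁻¹ ∈ cj g H := ⟨x, hx, rfl⟩

theorem cj_eq {H : Subgroup G} {g : G} (hg : g ∈ normalizer (H : Set G)) : cj g H = H :=
  map_conj_eq_of_mem_normalizer hg

theorem cj_of_mem {H : Subgroup G} {g : G} (hg : g ∈ H) : cj g H = H :=
  cj_eq (le_normalizer hg)

theorem mem_normalizer_of_cj {H : Subgroup G} {g : G} (h : cj g H = H) :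
    g ∈ normalizer (H : Set G) := mem_normalizer_of_map_conj h

theorem cj_le {H K : Subgroup G} {g : G} (h : H ≤ K) : cj g H ≤ cj g K := Subgroup.map_mono h

theorem cj_inv_eq {H K : Subgroup G} {g : G} (h : cj g H = K) : cj g⁻¹ K = H := by
  rw [← h, ← cj_mul, inv_mul_cancel, cj_one]

/-- `H` and its conjugate by `g` are conjugate in their join. -/
def Q (H : Subgroup G) (g : G) : Prop := ∃ x ∈ H ⊔ cj g H, cj g H = cj x H

theorem isPronormal_iff {H : Subgroup G} : Cfsg.IsPronormal H ↔ ∀ g, Q H g := Iff.rfl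

theorem Q.of_left {H : Subgroup G} {g b : G} (hb : b ∈ H ⊔ cj g H) (h : Q H (b⁻¹ * g)) : Q H g := by
  obtain ⟨z, hz, e⟩ := h
  have e1 : cj g H = cj (b * z) H := by
    rw [cj_mul, ← e, ← cj_mul, mul_inv_cancel_left]
  refine ⟨b * z, mul_mem hb ?_, e1⟩
  have h1 : H ⊔ cj (b⁻¹ * g) H ≤ H ⊔ cj g H := by
    refine sup_le le_sup_left ?_
    intro x hx
    rw [cj_mul, mem_cj, inv_inv] at hx
    have h2 : b * x * b⁻¹ ∈ H ⊔ cj g H := le_sup_right (a := H) hx
    have h3 := mul_mem (mul_mem (inv_mem hb) h2) hb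
    have h4 : b⁻¹ * (b * x * b⁻¹) * b = x := by group
    rwa [h4] at h3
  exact h1 hz

theorem Q.of_right {H : Subgroup G} {g n : G} (hn : n ∈ normalizer (H : Set G)) (h : Q H g) :
    Q H (g * n) := by
  have h1 : cj (g * n) H = cj g H := by rw [cj_mul, cj_eq hn]
  unfold Q
  rw [h1]
  exact h

theorem isPronormal_cj {H : Subgroup G} {u : G} (h : Cfsg.IsPronormal (cj u H)) :
    Cfsg.IsPronormal H := by
  intro g
  obtain ⟨x, hx, e⟩ := h (u * g * u⁻¹)
  have e1 : cj (u * g * u⁻¹) (cj u H) = cj u (cj g H) := by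
    rw [← cj_mul, ← cj_mul]; congr 1; group
  change cj (u * g * u⁻¹) (cj u H) = cj x (cj u H) at e
  change x ∈ cj u H ⊔ cj (u * g * u⁻¹) (cj u H) at hx
  rw [e1] at e hx
  refine ⟨u⁻¹ * x * u, ?_, ?_⟩
  · have h1 : cj u H ⊔ cj u (cj g H) = cj u (H ⊔ cj g H) := (Subgroup.map_sup _ _ _).symm
    rw [h1, mem_cj] at hx
    exact hx
  · change cj g H = cj (u⁻¹ * x * u) H
    rw [mul_assoc, cj_mul, cj_mul, ← e, ← cj_mul, inv_mul_cancel, cj_one]

theorem map_cj {G' : Type*} [Group G'] (f : G →* G') (g : G) (H : Subgroup G) :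
    (cj g H).map f = cj (f g) (H.map f) := by
  unfold cj
  rw [Subgroup.map_map, Subgroup.map_map]
  congr 1
  ext x
  change f (g * x * g⁻¹) = f g * f x * (f g)⁻¹
  rw [map_mul, map_mul, map_inv]

theorem isPronormal_map {G' : Type*} [Group G'] {f : G →* G'} (hf : Function.Surjective f)
    {H : Subgroup G} (h : Cfsg.IsPronormal H) : Cfsg.IsPronormal (H.map f) := by
  intro g'
  obtain ⟨g, rfl⟩ := hf g'
  obtain ⟨x, hx, e⟩ := h g
  refine ⟨f x, ?_, ?_⟩
  · change f x ∈ H.map f ⊔ cj (f g) (H.map f)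
    rw [← map_cj, ← Subgroup.map_sup]
    exact mem_map_of_mem f hx
  · change cj (f g) (H.map f) = cj (f x) (H.map f)
    rw [← map_cj, ← map_cj]
    exact congrArg _ e

theorem isPronormal_of_map {G' : Type*} [Group G'] {f : G →* G'}
    {H : Subgroup G} (hH : f.ker ≤ H) (h : Cfsg.IsPronormal (H.map f)) : Cfsg.IsPronormal H := by
  intro g
  obtain ⟨x', hx', e⟩ := h (f g)
  change x' ∈ H.map f ⊔ cj (f g) (H.map f) at hx'
  rw [← map_cj, ← Subgroup.map_sup] at hx'
  obtain ⟨x, hx, rfl⟩ := hx'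
  refine ⟨x, hx, ?_⟩
  change cj (f g) (H.map f) = cj (f x) (H.map f) at e
  rw [← map_cj, ← map_cj] at e
  have hk : ∀ g : G, f.ker ≤ cj g H := by
    intro g y hy
    rw [mem_cj]
    apply hH
    have := (inferInstance : f.ker.Normal).conj_mem y hy g⁻¹
    rwa [inv_inv] at this
  have e2 := congrArg (Subgroup.comap f) e
  rwa [comap_map_eq, comap_map_eq, sup_eq_left.2 (hk g), sup_eq_left.2 (hk x)] at e2

theorem isPronormal_subgroupOf {H M : Subgroup G} (hHM : H ≤ M) (h : Cfsg.IsPronormal H) :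
    Cfsg.IsPronormal (H.subgroupOf M) := by
  intro g
  obtain ⟨x, hx, e⟩ := h (g : G)
  have hgM : cj (g : G) H ≤ M := by
    rintro _ ⟨y, hy, rfl⟩
    exact mul_mem (mul_mem g.2 (hHM hy)) (inv_mem g.2)
  have hxM : x ∈ M := (sup_le hHM hgM) hx
  have hc : ∀ y : M, (cj (y : G) H).subgroupOf M = cj y (H.subgroupOf M) := by
    intro y
    ext z
    rw [mem_subgroupOf, mem_cj, mem_cj, mem_subgroupOf]
    rfl
  refine ⟨⟨x, hxM⟩, ?_, ?_⟩
  · change _ ∈ H.subgroupOf M ⊔ cj g (H.subgroupOf M)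
    rw [← hc, ← Subgroup.subgroupOf_sup hHM hgM]
    exact hx
  · change cj g (H.subgroupOf M) = cj ⟨x, hxM⟩ (H.subgroupOf M)
    rw [← hc, ← hc]
    exact congrArg (fun K => Subgroup.subgroupOf K M) e

/-- pronormality of `H` inside `M` gives the property `Q` for elements of `M`. -/
theorem Q_of_subgroupOf {H M : Subgroup G} (hHM : H ≤ M) (h : Cfsg.IsPronormal (H.subgroupOf M))
    {g : G} (hg : g ∈ M) : ∃ x ∈ M, x ∈ H ⊔ cj g H ∧ cj g H = cj x H := by
  obtain ⟨x, hx, e⟩ := h ⟨g, hg⟩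
  have hgM : cj (g : G) H ≤ M := by
    rintro _ ⟨y, hy, rfl⟩
    exact mul_mem (mul_mem hg (hHM hy)) (inv_mem hg)
  have hc : ∀ y : M, (cj y (H.subgroupOf M)).map M.subtype = cj (y : G) H := by
    intro y
    rw [map_cj]
    change cj (y : G) _ = _
    rw [subgroupOf_map_subtype, inf_eq_left.2 hHM]
  refine ⟨x, x.2, ?_, ?_⟩
  · have h1 : (x : G) ∈ (H.subgroupOf M ⊔ cj (⟨g, hg⟩ : M) (H.subgroupOf M)).map M.subtype :=
      mem_map_of_mem M.subtype hx
    rw [Subgroup.map_sup, hc, subgroupOf_map_subtype, inf_eq_left.2 hHM] at h1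
    exact h1
  · have h1 := congrArg (Subgroup.map M.subtype) e
    change (cj (⟨g, hg⟩ : M) (H.subgroupOf M)).map M.subtype = (cj x (H.subgroupOf M)).map M.subtype at h1
    rw [hc, hc] at h1
    exact h1

section

variable [Finite G] {p : ℕ} [hp : Fact p.Prime]

theorem not_dvd_index {H : Subgroup G} (h : ∃ P : Sylow p G, (P : Subgroup G) ≤ H) :
    ¬ p ∣ H.index := by
  obtain ⟨P, hP⟩ := h
  intro hd
  exact P.not_dvd_index (hd.trans (Subgroup.index_dvd_of_le hP))

theorem exists_iff {H : Subgroup G} : (∃ P : Sylow p G, (P : Subgroup G) ≤ H) ↔ ¬ p ∣ H.index :=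
  ⟨not_dvd_index, fun h => H42.Pronormal.exists_sylow_le H h⟩

/-- every overgroup of a Sylow `p`-subgroup is pronormal. -/
def PS (p : ℕ) (G : Type*) [Group G] : Prop :=
  ∀ K : Subgroup G, (∃ P : Sylow p G, (P : Subgroup G) ≤ K) → Cfsg.IsPronormal K

theorem index_normalizer_quot {T M : Subgroup G} (hTM : T ≤ M) (hn : (T.subgroupOf M).Normal)
    (K : Subgroup (M ⧸ T.subgroupOf M)) :
    ((K.comap (QuotientGroup.mk' (T.subgroupOf M))).map M.subtype).index = K.index * M.index := by
  rw [Subgroup.index_map_subtype, Subgroup.index_comap_of_surjective _ (QuotientGroup.mk'_surjective _)]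

/-- main direction -/
theorem main (A : Subgroup G) [hAn : A.Normal] (hA : PS p A) (hQ : PS p (G ⧸ A))
    (T : Subgroup G) (hT : ∃ P : Sylow p A, (P : Subgroup A).map A.subtype = T)
    [hTn : (T.subgroupOf (normalizer (T : Set G))).Normal]
    (h1 : PS p (normalizer (T : Set G) ⧸ T.subgroupOf (normalizer (T : Set G))))
    (h2 : ∀ K : Subgroup G, (∃ P : Sylow p G, (P : Subgroup G) ≤ K) →
          (normalizer (K : Set G)).map (QuotientGroup.mk' A) =
            normalizer ((K.map (QuotientGroup.mk' A) : Subgroup (G ⧸ A)) : Set (G ⧸ A))) :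
    PS p G := by
  obtain ⟨P₀, hP₀⟩ := hT
  have hTA : T ≤ A := by rw [← hP₀]; exact map_subtype_le _
  have hTp : IsPGroup p T := by rw [← hP₀]; exact P₀.2.map _
  have hTidx : ¬ p ∣ T.relIndex A := by
    rw [← hP₀, Subgroup.relIndex, Subgroup.subgroupOf,
      Subgroup.comap_map_eq_self_of_injective A.subtype_injective]
    exact P₀.not_dvd_index
  -- a `p`-subgroup of `A` containing `T` is `T`
  have hTmax : ∀ R : Subgroup G, IsPGroup p R → T ≤ R → R ≤ A → R = T := by
    intro R hR hTR hRA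
    have h3 : T.relIndex R ∣ Nat.card R := Subgroup.relIndex_dvd_card _ _
    have h4 : T.relIndex R ∣ T.relIndex A := by
      rw [← Subgroup.relIndex_mul_relIndex T R A hTR hRA]
      exact dvd_mul_right _ _
    obtain ⟨k, hk⟩ := IsPGroup.iff_card.1 hR
    have h5 : T.relIndex R = 1 := by
      rw [hk] at h3
      obtain ⟨j, -, hj⟩ := (Nat.dvd_prime_pow hp.out).1 h3
      rcases Nat.eq_zero_or_pos j with h6 | h6
      · rw [hj, h6, pow_zero]
      · exfalso
        apply hTidx
        refine dvd_trans ?_ h4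
        rw [hj]
        exact dvd_pow_self p h6.ne'
    exact le_antisymm (Subgroup.relIndex_eq_one.1 h5) hTR
  -- the case `T ≤ H`
  have key : ∀ H : Subgroup G, ¬ p ∣ H.index → T ≤ H → Cfsg.IsPronormal H := by
    intro H hH hTH
    rw [isPronormal_iff]
    intro g
    have hH' := (exists_iff (p := p)).2 hH
    -- step 1
    have hQH : Cfsg.IsPronormal (H.map (QuotientGroup.mk' A)) := by
      apply hQ
      rw [exists_iff]
      intro hd
      exact hH (hd.trans (Subgroup.index_map_dvd _ (QuotientGroup.mk'_surjective A)))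
    obtain ⟨x', hx', e'⟩ := hQH (QuotientGroup.mk' A g)
    change x' ∈ H.map (QuotientGroup.mk' A) ⊔ cj (QuotientGroup.mk' A g) (H.map (QuotientGroup.mk' A)) at hx'
    change cj (QuotientGroup.mk' A g) (H.map (QuotientGroup.mk' A)) = cj x' (H.map (QuotientGroup.mk' A)) at e'
    rw [← map_cj, ← Subgroup.map_sup] at hx'
    obtain ⟨x, hx, rfl⟩ := hx'
    apply Q.of_left hx
    have h3 : QuotientGroup.mk' A (x⁻¹ * g) ∈ normalizer ((H.map (QuotientGroup.mk' A) : Subgroup (G ⧸ A)) : Set (G ⧸ A)) := by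
      apply mem_normalizer_of_cj
      rw [map_mul, cj_mul, e', ← cj_mul, map_inv, inv_mul_cancel, cj_one]
    rw [← h2 H hH'] at h3
    obtain ⟨n, hn, hne⟩ := h3
    have hax : (x⁻¹ * g) * n⁻¹ ∈ A := by
      rw [← QuotientGroup.eq_one_iff]
      change QuotientGroup.mk' A (x⁻¹ * g * n⁻¹) = 1
      rw [map_mul, ← hne, map_inv, mul_inv_cancel]
    have h4 : x⁻¹ * g = (x⁻¹ * g * n⁻¹) * n := by group
    rw [h4]
    apply Q.of_right hn
    obtain ⟨a, ha⟩ : ∃ a, a = x⁻¹ * g * n⁻¹ := ⟨_, rfl⟩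
    rw [← ha] at hax ⊢
    clear h4 hne hn n e' hx x ha
    -- step 2
    have hHA : Cfsg.IsPronormal ((H ⊓ A).subgroupOf A) := by
      apply hA
      rw [exists_iff]
      intro hd
      apply hTidx
      refine dvd_trans hd ?_
      exact Subgroup.relIndex_dvd_of_le_left _ (le_inf hTH hTA)
    obtain ⟨b, hbA, hb, hbe⟩ := Q_of_subgroupOf inf_le_right hHA hax
    have hbH : b ∈ H ⊔ cj a H := by
      refine (sup_le_sup inf_le_left (cj_le inf_le_left)) hb
    apply Q.of_left hbH
    have ha1A : b⁻¹ * a ∈ A := mul_mem (inv_mem hbA) hax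
    have ha1n : cj (b⁻¹ * a) (H ⊓ A) = H ⊓ A := by
      rw [cj_mul, hbe, ← cj_mul, inv_mul_cancel, cj_one]
    obtain ⟨a₁, ha₁⟩ : ∃ a₁, a₁ = b⁻¹ * a := ⟨_, rfl⟩
    rw [← ha₁] at ha1A ha1n ⊢
    clear hbH hbe hb hbA ha₁ hax a
    -- step 3
    have hTa : cj a₁ T ≤ H ⊓ A := by
      rw [← ha1n]; exact cj_le (le_inf hTH hTA)
    obtain ⟨c, hc, hce⟩ : ∃ c ∈ H ⊓ A, cj c T = cj a₁ T := by
      have hTHA : T ≤ H ⊓ A := le_inf hTH hTA
      have hrel : ¬ p ∣ T.relIndex (H ⊓ A) := by
        intro hd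
        apply hTidx
        rw [← Subgroup.relIndex_mul_relIndex T (H ⊓ A) A hTHA inf_le_right]
        exact hd.mul_right _
      have hrel2 : ¬ p ∣ (cj a₁ T).relIndex (H ⊓ A) := by
        have h5 : (cj a₁ T).relIndex (H ⊓ A) = T.relIndex (H ⊓ A) := by
          conv_lhs => rw [← ha1n]
          exact Subgroup.relIndex_map_map_of_injective _ _ (MulAut.conj a₁).injective
        rwa [h5]
      let P1 : Sylow p (H ⊓ A : Subgroup G) :=
        (hTp.comap_of_injective (H ⊓ A : Subgroup G).subtype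
          (H ⊓ A : Subgroup G).subtype_injective).toSylow (by
          change ¬ p ∣ (T.subgroupOf (H ⊓ A)).index
          exact hrel)
      let P2 : Sylow p (H ⊓ A : Subgroup G) :=
        ((hTp.map (MulAut.conj a₁).toMonoidHom).comap_of_injective (H ⊓ A : Subgroup G).subtype
          (H ⊓ A : Subgroup G).subtype_injective).toSylow (by
          change ¬ p ∣ ((cj a₁ T).subgroupOf (H ⊓ A)).index
          exact hrel2)
      obtain ⟨c, hc⟩ := MulAction.exists_smul_eq (H ⊓ A : Subgroup G) P1 P2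
      refine ⟨c, c.2, ?_⟩
      have hP1 : (P1 : Subgroup (H ⊓ A : Subgroup G)) = T.subgroupOf (H ⊓ A) := rfl
      have hP2 : (P2 : Subgroup (H ⊓ A : Subgroup G)) = (cj a₁ T).subgroupOf (H ⊓ A) := rfl
      have h6 := congrArg (fun P : Sylow p (H ⊓ A : Subgroup G) => (P : Subgroup (H ⊓ A : Subgroup G))) hc
      have h7 : cj c (T.subgroupOf (H ⊓ A)) = (cj a₁ T).subgroupOf (H ⊓ A) := h6
      have h8 := congrArg (Subgroup.map (H ⊓ A : Subgroup G).subtype) h7
      rw [map_cj, subgroupOf_map_subtype, subgroupOf_map_subtype, inf_eq_left.2 hTHA,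
        inf_eq_left.2 hTa] at h8
      exact h8
    apply Q.of_left (b := c) (le_sup_left (a := H) (mem_inf.1 hc).1)
    have ha2A : c⁻¹ * a₁ ∈ A := mul_mem (inv_mem (mem_inf.1 hc).2) ha1A
    have ha2n : cj (c⁻¹ * a₁) (H ⊓ A) = H ⊓ A := by
      rw [cj_mul, ha1n, cj_of_mem (inv_mem hc)]
    have ha2T : cj (c⁻¹ * a₁) T = T := by
      rw [cj_mul, ← hce, ← cj_mul, inv_mul_cancel, cj_one]
    obtain ⟨a₂, ha₂⟩ : ∃ a₂, a₂ = c⁻¹ * a₁ := ⟨_, rfl⟩
    rw [← ha₂] at ha2A ha2n ha2T ⊢
    clear ha₂ hce hc hTa ha1n ha1A a₁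
    -- step 4
    obtain ⟨M, hM⟩ : ∃ M, M = normalizer (T : Set G) := ⟨_, rfl⟩
    have hTM : T ≤ M := by rw [hM]; exact le_normalizer
    have ha2M : a₂ ∈ M := by rw [hM]; exact mem_normalizer_of_cj ha2T
    -- H₁ contains a Sylow subgroup
    have hH1 : ¬ p ∣ (H ⊓ M).index := by
      obtain ⟨S, hS⟩ := (hTp.comap_of_injective H.subtype H.subtype_injective).exists_le_sylow
      have h5 : T ≤ (S : Subgroup H).map H.subtype := by
        intro t ht
        exact ⟨⟨t, hTH ht⟩, hS (show (⟨t, hTH ht⟩ : H) ∈ T.comap H.subtype from ht), rfl⟩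
      have hSp : IsPGroup p ((S : Subgroup H).map H.subtype) := S.2.map _
      have h6 : (S : Subgroup H).map H.subtype ⊓ A = T :=
        hTmax _ (hSp.to_le inf_le_left) (le_inf h5 hTA) inf_le_right
      have h7 : (S : Subgroup H).map H.subtype ≤ H ⊓ M := by
        refine le_inf (map_subtype_le _) ?_
        intro s hs
        rw [hM, ← h6]
        apply mem_normalizer_of_cj
        ext y
        rw [mem_cj, mem_inf, mem_inf]
        constructor
        · rintro ⟨h8, h9⟩
          have e : y = s * (s⁻¹ * y * s) * s⁻¹ := by group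
          refine ⟨?_, ?_⟩
          · rw [e]; exact mul_mem (mul_mem hs h8) (inv_mem hs)
          · rw [e]; exact hAn.conj_mem _ h9 s
        · rintro ⟨h8, h9⟩
          refine ⟨mul_mem (mul_mem (inv_mem hs) h8) hs, ?_⟩
          have := hAn.conj_mem _ h9 s⁻¹
          rwa [inv_inv] at this
      have h8 : ¬ p ∣ ((S : Subgroup H).map H.subtype).index := by
        rw [Subgroup.index_map_subtype]
        intro hd
        exact (hp.out.dvd_mul.1 hd).elim S.not_dvd_index hH
      intro hd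
      exact h8 (hd.trans (Subgroup.index_dvd_of_le h7))
    -- pronormality of H₁ in M
    have hpro : Cfsg.IsPronormal ((H ⊓ M).subgroupOf M) := by
      subst hM
      apply isPronormal_of_map (f := QuotientGroup.mk' (T.subgroupOf (normalizer (T : Set G))))
      · rw [QuotientGroup.ker_mk']
        intro y hy
        rw [mem_subgroupOf] at hy ⊢
        exact mem_inf.2 ⟨hTH hy, y.2⟩
      · apply h1
        rw [exists_iff]
        intro hd
        have h5 := hd.trans (Subgroup.index_map_dvd _ (QuotientGroup.mk'_surjective _))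
        apply hH1
        refine h5.trans ?_
        exact Subgroup.relIndex_dvd_index_of_le inf_le_right
    obtain ⟨z, hzM, hz, hze⟩ := Q_of_subgroupOf inf_le_right hpro ha2M
    refine ⟨z, (sup_le_sup inf_le_left (cj_le inf_le_left)) hz, ?_⟩
    -- H = (H ⊓ A) (H ⊓ M)
    have hfrat : H = (H ⊓ A) ⊔ (H ⊓ M) := by
      apply le_antisymm _ (sup_le inf_le_left inf_le_left)
      intro y hy
      have hTHA : T ≤ H ⊓ A := le_inf hTH hTA
      have hyn : cj y (H ⊓ A) = H ⊓ A := by
        ext w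
        rw [mem_cj, mem_inf, mem_inf]
        constructor
        · rintro ⟨h8, h9⟩
          have e : w = y * (y⁻¹ * w * y) * y⁻¹ := by group
          refine ⟨?_, ?_⟩
          · rw [e]; exact mul_mem (mul_mem hy h8) (inv_mem hy)
          · rw [e]; exact hAn.conj_mem _ h9 y
        · rintro ⟨h8, h9⟩
          refine ⟨mul_mem (mul_mem (inv_mem hy) h8) hy, ?_⟩
          have := hAn.conj_mem _ h9 y⁻¹
          rwa [inv_inv] at this
      have hTy : cj y T ≤ H ⊓ A := by
        rw [← hyn]; exact cj_le hTHA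
      have hrel : ¬ p ∣ T.relIndex (H ⊓ A) := by
        intro hd
        apply hTidx
        rw [← Subgroup.relIndex_mul_relIndex T (H ⊓ A) A hTHA inf_le_right]
        exact hd.mul_right _
      have hrel2 : ¬ p ∣ (cj y T).relIndex (H ⊓ A) := by
        have h5 : (cj y T).relIndex (H ⊓ A) = T.relIndex (H ⊓ A) := by
          conv_lhs => rw [← hyn]
          exact Subgroup.relIndex_map_map_of_injective _ _ (MulAut.conj y).injective
        rwa [h5]
      let P1 : Sylow p (H ⊓ A : Subgroup G) :=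
        (hTp.comap_of_injective (H ⊓ A : Subgroup G).subtype
          (H ⊓ A : Subgroup G).subtype_injective).toSylow (by
          change ¬ p ∣ (T.subgroupOf (H ⊓ A)).index
          exact hrel)
      let P2 : Sylow p (H ⊓ A : Subgroup G) :=
        ((hTp.map (MulAut.conj y).toMonoidHom).comap_of_injective (H ⊓ A : Subgroup G).subtype
          (H ⊓ A : Subgroup G).subtype_injective).toSylow (by
          change ¬ p ∣ ((cj y T).subgroupOf (H ⊓ A)).index
          exact hrel2)
      obtain ⟨c, hc⟩ := MulAction.exists_smul_eq (H ⊓ A : Subgroup G) P1 P2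
      have h6 := congrArg (fun P : Sylow p (H ⊓ A : Subgroup G) => (P : Subgroup (H ⊓ A : Subgroup G))) hc
      have h7 : cj c (T.subgroupOf (H ⊓ A)) = (cj y T).subgroupOf (H ⊓ A) := h6
      have h8 := congrArg (Subgroup.map (H ⊓ A : Subgroup G).subtype) h7
      rw [map_cj, subgroupOf_map_subtype, subgroupOf_map_subtype, inf_eq_left.2 hTHA,
        inf_eq_left.2 hTy] at h8
      change cj (c : G) T = cj y T at h8
      have h9 : (c : G)⁻¹ * y ∈ M := by
        rw [hM]
        apply mem_normalizer_of_cj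
        rw [cj_mul, ← h8, ← cj_mul, inv_mul_cancel, cj_one]
      have e : y = c * ((c : G)⁻¹ * y) := by group
      rw [e]
      exact mul_mem (le_sup_left (a := H ⊓ A) c.2) (le_sup_right (b := H ⊓ M)
        (mem_inf.2 ⟨mul_mem (inv_mem (mem_inf.1 c.2).1) hy, h9⟩))
    -- z normalizes H ⊓ A
    have hzn : cj z (H ⊓ A) = H ⊓ A := by
      apply cj_eq
      have h5 : (H ⊓ M) ⊔ cj a₂ (H ⊓ M) ≤ normalizer ((H ⊓ A : Subgroup G) : Set G) := by
        have h6 : H ≤ normalizer ((H ⊓ A : Subgroup G) : Set G) := by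
          intro y hy
          apply mem_normalizer_of_cj
          ext w
          rw [mem_cj, mem_inf, mem_inf]
          constructor
          · rintro ⟨h8, h9⟩
            have e : w = y * (y⁻¹ * w * y) * y⁻¹ := by group
            refine ⟨?_, ?_⟩
            · rw [e]; exact mul_mem (mul_mem hy h8) (inv_mem hy)
            · rw [e]; exact hAn.conj_mem _ h9 y
          · rintro ⟨h8, h9⟩
            refine ⟨mul_mem (mul_mem (inv_mem hy) h8) hy, ?_⟩
            have := hAn.conj_mem _ h9 y⁻¹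
            rwa [inv_inv] at this
        refine sup_le (inf_le_left.trans h6) ?_
        rintro _ ⟨y, hy, rfl⟩
        have h7 : a₂ ∈ normalizer ((H ⊓ A : Subgroup G) : Set G) := mem_normalizer_of_cj ha2n
        exact mul_mem (mul_mem h7 (h6 (mem_inf.1 hy).1)) (inv_mem h7)
      exact h5 hz
    calc cj a₂ H = cj a₂ ((H ⊓ A) ⊔ (H ⊓ M)) := by rw [← hfrat]
      _ = cj a₂ (H ⊓ A) ⊔ cj a₂ (H ⊓ M) := Subgroup.map_sup _ _ _
      _ = cj z (H ⊓ A) ⊔ cj z (H ⊓ M) := by rw [ha2n, hzn, hze]
      _ = cj z ((H ⊓ A) ⊔ (H ⊓ M)) := (Subgroup.map_sup _ _ _).symm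
      _ = cj z H := by rw [← hfrat]
  -- general case
  intro H hH
  obtain ⟨S, hS⟩ := hH
  -- S ⊓ A is a Sylow subgroup of A
  obtain ⟨u, hu⟩ : ∃ u : G, T ≤ cj u H := by
    obtain ⟨S', hS'⟩ := hTp.exists_le_sylow
    obtain ⟨u, hu⟩ := MulAction.exists_smul_eq G S S'
    refine ⟨u, hS'.trans ?_⟩
    rw [← hu]
    exact cj_le hS
  apply isPronormal_cj (u := u)
  apply key _ _ hu
  have h5 : (cj u H).index = H.index := Subgroup.index_map_equiv H (MulAut.conj u)
  rw [h5]
  exact not_dvd_index ⟨S, hS⟩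

theorem not_dvd_index_normalizer (A : Subgroup G) [hAn : A.Normal]
    (T : Subgroup G) (hT : ∃ P : Sylow p A, (P : Subgroup A).map A.subtype = T) :
    ¬ p ∣ (normalizer (T : Set G)).index := by
  obtain ⟨P₀, hP₀⟩ := hT
  have hTA : T ≤ A := by rw [← hP₀]; exact map_subtype_le _
  have hTp : IsPGroup p T := by rw [← hP₀]; exact P₀.2.map _
  obtain ⟨S, hS⟩ := hTp.exists_le_sylow
  have h6 : (S : Subgroup G) ⊓ A = T := by
    have h7 : ((S : Subgroup G) ⊓ A).subgroupOf A = P₀ := by
      apply P₀.3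
      · exact (S.2.to_le inf_le_left).comap_of_injective A.subtype A.subtype_injective
      · intro y hy
        rw [mem_subgroupOf]
        refine mem_inf.2 ⟨hS ?_, y.2⟩
        rw [← hP₀]
        exact mem_map_of_mem A.subtype hy
    have h8 := congrArg (Subgroup.map A.subtype) h7
    rwa [subgroupOf_map_subtype, inf_eq_left.2 inf_le_right, hP₀] at h8
  have h7 : (S : Subgroup G) ≤ normalizer (T : Set G) := by
    intro s hs
    rw [← h6]
    apply mem_normalizer_of_cj
    ext y
    rw [mem_cj, mem_inf, mem_inf]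
    constructor
    · rintro ⟨h8, h9⟩
      have e : y = s * (s⁻¹ * y * s) * s⁻¹ := by group
      refine ⟨?_, ?_⟩
      · rw [e]; exact mul_mem (mul_mem hs h8) (inv_mem hs)
      · rw [e]; exact hAn.conj_mem _ h9 s
    · rintro ⟨h8, h9⟩
      refine ⟨mul_mem (mul_mem (inv_mem hs) h8) hs, ?_⟩
      have := hAn.conj_mem _ h9 s⁻¹
      rwa [inv_inv] at this
  exact not_dvd_index ⟨S, h7⟩

theorem normalizer_map_of_pronormal (A : Subgroup G) [hAn : A.Normal] {K : Subgroup G}
    (hK : Cfsg.IsPronormal K) :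
    (normalizer (K : Set G)).map (QuotientGroup.mk' A) =
      normalizer ((K.map (QuotientGroup.mk' A) : Subgroup (G ⧸ A)) : Set (G ⧸ A)) := by
  apply le_antisymm
  · rintro _ ⟨n, hn, rfl⟩
    apply mem_normalizer_of_cj
    rw [← map_cj, cj_eq hn]
  · intro y hy
    obtain ⟨g, rfl⟩ := QuotientGroup.mk'_surjective A y
    have h1 := cj_eq hy
    rw [← map_cj] at h1
    -- cj g K ≤ K ⊔ A
    have h2 : cj g K ≤ A ⊔ K := by
      have h3 : (cj g K).map (QuotientGroup.mk' A) ≤ K.map (QuotientGroup.mk' A) := h1.le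
      rw [Subgroup.map_le_iff_le_comap, comap_map_eq, QuotientGroup.ker_mk', sup_comm] at h3
      exact h3
    obtain ⟨x, hx, hxe⟩ := hK g
    have h3 : x ∈ A ⊔ K := (sup_le le_sup_right h2) hx
    obtain ⟨a, ha, k, hk, rfl⟩ := Subgroup.mem_sup_of_normal_left.1 h3
    change cj g K = cj (a * k) K at hxe
    rw [cj_mul, cj_of_mem hk] at hxe
    refine ⟨a⁻¹ * g, ?_, ?_⟩
    · apply mem_normalizer_of_cj
      rw [cj_mul, hxe, ← cj_mul, inv_mul_cancel, cj_one]
    · have h4 : QuotientGroup.mk' A a = 1 := (QuotientGroup.eq_one_iff a).2 ha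
      rw [map_mul, map_inv, h4, inv_one, one_mul]

theorem PS_quot (hG : PS p G) (A : Subgroup G) [hAn : A.Normal]
    (T : Subgroup G) (hT : ∃ P : Sylow p A, (P : Subgroup A).map A.subtype = T)
    [hTn : (T.subgroupOf (normalizer (T : Set G))).Normal] :
    PS p (normalizer (T : Set G) ⧸ T.subgroupOf (normalizer (T : Set G))) := by
  intro K hK
  rw [exists_iff] at hK
  have h1 := index_normalizer_quot le_normalizer hTn K
  have h2 := not_dvd_index_normalizer A T hT
  have h3 := hG _ (exists_iff.2 (by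
    rw [h1]
    intro hd
    exact (hp.out.dvd_mul.1 hd).elim hK h2))
  have h4 := isPronormal_subgroupOf (map_subtype_le _) h3
  have h5 := isPronormal_map (QuotientGroup.mk'_surjective (T.subgroupOf (normalizer (T : Set G)))) h4
  have h6 : ∀ X : Subgroup (normalizer (T : Set G)),
      (X.map (normalizer (T : Set G)).subtype).subgroupOf (normalizer (T : Set G)) = X :=
    fun X => comap_map_eq_self_of_injective (Subgroup.subtype_injective _) X
  rwa [h6, map_comap_eq_self_of_surjective (QuotientGroup.mk'_surjective _)] at h5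

theorem PS_iff (A : Subgroup G) [hAn : A.Normal] (hA : PS p A) (hQ : PS p (G ⧸ A))
    (T : Subgroup G) (hT : ∃ P : Sylow p A, (P : Subgroup A).map A.subtype = T)
    [hTn : (T.subgroupOf (normalizer (T : Set G))).Normal] :
    PS p G ↔ (PS p (normalizer (T : Set G) ⧸ T.subgroupOf (normalizer (T : Set G))) ∧
      ∀ K : Subgroup G, (∃ P : Sylow p G, (P : Subgroup G) ≤ K) →
          (normalizer (K : Set G)).map (QuotientGroup.mk' A) =
            normalizer ((K.map (QuotientGroup.mk' A) : Subgroup (G ⧸ A)) : Set (G ⧸ A))) := by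
  constructor
  · intro hG
    exact ⟨PS_quot hG A T hT, fun K hK => normalizer_map_of_pronormal A (hG K hK)⟩
  · rintro ⟨h1, h2⟩
    exact main A hA hQ T hT h1 h2

theorem normalizer_eq_self_of_selfNorm (hQ : ∀ P : Sylow p G, normalizer ((P : Subgroup G) : Set G) = P)
    {K : Subgroup G} (hK : ∃ P : Sylow p G, (P : Subgroup G) ≤ K) : normalizer (K : Set G) = K := by
  obtain ⟨P, hP⟩ := hK
  apply le_antisymm _ le_normalizer
  intro x hx
  have hxP : (((x • P : Sylow p G)) : Subgroup G) ≤ K := by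
    have h1 := cj_eq hx
    rw [← h1]
    exact cj_le hP
  obtain ⟨k, hk⟩ := MulAction.exists_smul_eq K (P.subtype hP) ((x • P).subtype hxP)
  simp_rw [Sylow.smul_subtype] at hk
  have hk' : ((k : G) • P) = x • P := Sylow.subtype_injective hk
  have h1 : ((k : G)⁻¹ * x) • P = P := by
    rw [mul_smul, ← hk', inv_smul_smul]
  rw [Sylow.smul_eq_iff_mem_normalizer] at h1
  have h3 : (k : G)⁻¹ * x ∈ (P : Subgroup G) := by rw [← hQ P]; exact h1
  have h2 := mul_mem k.2 (hP h3)
  rwa [mul_inv_cancel_left] at h2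

theorem PS_iff_of_selfNorm (A : Subgroup G) [hAn : A.Normal] (hA : PS p A)
    (hQ : ∀ P : Sylow p (G ⧸ A), normalizer ((P : Subgroup (G ⧸ A)) : Set (G ⧸ A)) = P)
    (T : Subgroup G) (hT : ∃ P : Sylow p A, (P : Subgroup A).map A.subtype = T)
    [hTn : (T.subgroupOf (normalizer (T : Set G))).Normal] :
    PS p G ↔ PS p (normalizer (T : Set G) ⧸ T.subgroupOf (normalizer (T : Set G))) := by
  have hQ' : PS p (G ⧸ A) := by
    intro K hK
    have h1 := normalizer_eq_self_of_selfNorm hQ hK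
    obtain ⟨P, hP⟩ := hK
    apply H42.Pronormal.isPronormal_of_selfNorm K P hP
    intro x hx
    apply hP
    rw [← hQ P]
    apply mem_normalizer_of_cj
    apply Subgroup.eq_of_le_of_card_ge
    · rintro _ ⟨y, hy, rfl⟩
      exact hx y hy
    · rw [Subgroup.card_map_of_injective (f := (MulAut.conj x).toMonoidHom) (MulAut.conj x).injective]
  rw [PS_iff A hA hQ' T hT]
  constructor
  · exact fun h => h.1
  · intro h
    refine ⟨h, fun K hK => ?_⟩
    have h1 : ∃ P : Sylow p (G ⧸ A), (P : Subgroup (G ⧸ A)) ≤ K.map (QuotientGroup.mk' A) := by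
      rw [exists_iff] at hK ⊢
      intro hd
      exact hK (hd.trans (Subgroup.index_map_dvd _ (QuotientGroup.mk'_surjective A)))
    apply le_antisymm
    · rintro _ ⟨n, hn, rfl⟩
      apply mem_normalizer_of_cj
      rw [← map_cj, cj_eq hn]
    · rw [normalizer_eq_self_of_selfNorm hQ h1]
      exact Subgroup.map_mono le_normalizer

end

end H12.ProSyl
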