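import Cfsg.Agent.Lib.H12.Basic
import Cfsg.Agent.Lib.H12.ProSyl

/-! Correspondence between subgroups of `G` between `V` and `Q` and subgroups of a quotient
`f : Q → H` with kernel `V`. -/

set_option autoImplicit false

open Subgroup
open scoped commutatorElement Pointwise

namespace H12.QuoT

variable {G H : Type*} [Group G] [Group H] {Q V : Subgroup G} (f : ↥Q →* H)

/-- image -/
def up (X : Subgroup G) : Subgroup H := (X.subgroupOf Q).map f

/-- preimage -/
def dn (Y : Subgroup H) : Subgroup G := (Y.comap f).map Q.subtype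

theorem mem_up_of_mem {X : Subgroup G} {q : Q} (h : (q : G) ∈ X) : f q ∈ up f X :=
  ⟨q, mem_subgroupOf.2 h, rfl⟩

variable {f}

theorem mem_up_iff (hk : f.ker = V.subgroupOf Q) {X : Subgroup G} (hVX : V ≤ X) {q : Q} :
    f q ∈ up f X ↔ (q : G) ∈ X := by
  constructor
  · rintro ⟨y, hy, hyq⟩
    have h1 : y⁻¹ * q ∈ f.ker := by rw [MonoidHom.mem_ker, map_mul, map_inv, hyq, inv_mul_cancel]
    rw [hk, mem_subgroupOf] at h1
    have h2 := mul_mem (mem_subgroupOf.1 hy) (hVX h1)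
    have e : (y : G) * ((y⁻¹ * q : Q) : G) = q := by
      rw [← Subgroup.coe_mul, mul_inv_cancel_left]
    rwa [e] at h2
  · intro h; exact mem_up_of_mem f h

theorem mem_dn_iff {Y : Subgroup H} {q : Q} : (q : G) ∈ dn f Y ↔ f q ∈ Y := by
  constructor
  · rintro ⟨y, hy, hyq⟩
    have : y = q := Subtype.ext hyq
    rw [← this]; exact hy
  · intro h; exact ⟨q, h, rfl⟩

theorem dn_le (Y : Subgroup H) : dn f Y ≤ Q := map_subtype_le _

theorem le_dn (hVQ : V ≤ Q) (hk : f.ker = V.subgroupOf Q) (Y : Subgroup H) : V ≤ dn f Y := by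
  intro v hv
  have h1 : f ⟨v, hVQ hv⟩ ∈ Y := by
    have h2 : (⟨v, hVQ hv⟩ : Q) ∈ f.ker := by rw [hk, mem_subgroupOf]; exact hv
    rw [MonoidHom.mem_ker.1 h2]; exact one_mem _
  exact mem_dn_iff.2 h1

theorem up_mono {X Y : Subgroup G} (h : X ≤ Y) : up f X ≤ up f Y :=
  Subgroup.map_mono (Subgroup.comap_mono h)

theorem dn_mono {X Y : Subgroup H} (h : X ≤ Y) : dn f X ≤ dn f Y :=
  Subgroup.map_mono (Subgroup.comap_mono h)

theorem dn_up (hk : f.ker = V.subgroupOf Q) {X : Subgroup G} (hVX : V ≤ X) (hXQ : X ≤ Q) :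
    dn f (up f X) = X := by
  ext x
  constructor
  · intro hx
    have h1 := dn_le _ hx
    exact (mem_up_iff hk hVX).1 (mem_dn_iff (q := ⟨x, h1⟩) |>.1 hx)
  · intro hx
    exact mem_dn_iff (q := ⟨x, hXQ hx⟩) |>.2 (mem_up_of_mem f hx)

theorem up_dn (hf : Function.Surjective f) (Y : Subgroup H) : up f (dn f Y) = Y := by
  ext y
  obtain ⟨q, rfl⟩ := hf y
  constructor
  · rintro ⟨z, hz, hzq⟩
    rw [← hzq]
    exact mem_dn_iff.1 (mem_subgroupOf.1 hz)
  · intro h
    exact mem_up_of_mem f (mem_dn_iff.2 h)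

theorem up_top (hf : Function.Surjective f) : up f Q = ⊤ := by
  rw [eq_top_iff]
  intro y _
  obtain ⟨q, rfl⟩ := hf y
  exact mem_up_of_mem f q.2

theorem relIndex_up (hVQ : V ≤ Q) (hk : f.ker = V.subgroupOf Q) {X Y : Subgroup G} (hVX : V ≤ X)
    (hXQ : X ≤ Q) (hVY : V ≤ Y) (hYQ : Y ≤ Q) : (up f X).relIndex (up f Y) = X.relIndex Y := by
  rw [up, up, Subgroup.relIndex_map_map, hk, ← Subgroup.subgroupOf_sup hXQ hVQ,
    ← Subgroup.subgroupOf_sup hYQ hVQ, sup_eq_left.2 hVX, sup_eq_left.2 hVY,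
    Subgroup.relIndex_subgroupOf hYQ]

theorem mem_normalizer_up (hk : f.ker = V.subgroupOf Q) (hf : Function.Surjective f)
    {X : Subgroup G} (hVX : V ≤ X) (hXQ : X ≤ Q) {q : Q} :
    f q ∈ normalizer (up f X : Set H) ↔ (q : G) ∈ normalizer (X : Set G) := by
  constructor
  · intro h
    rw [mem_normalizer_iff] at h ⊢
    intro x
    constructor
    · intro hx
      have h1 := (h (f ⟨x, hXQ hx⟩)).1 (mem_up_of_mem f hx)
      rw [← map_mul, ← map_inv, ← map_mul] at h1
      exact (mem_up_iff hk hVX).1 h1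
    · intro hx
      have hxQ : x ∈ Q := by
        have h1 := mul_mem (mul_mem (inv_mem q.2) (hXQ hx)) q.2
        have e : (q : G)⁻¹ * ((q : G) * x * (q : G)⁻¹) * q = x := by group
        rwa [e] at h1
      have h1 := (h (f ⟨x, hxQ⟩)).2 (by
        rw [← map_mul, ← map_inv, ← map_mul]
        exact mem_up_of_mem f hx)
      exact (mem_up_iff hk hVX).1 h1
  · intro h
    rw [mem_normalizer_iff] at h ⊢
    intro y
    obtain ⟨x, rfl⟩ := hf y
    rw [← map_mul, ← map_inv, ← map_mul, mem_up_iff hk hVX, mem_up_iff hk hVX]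
    exact h x

theorem up_normalizer (hk : f.ker = V.subgroupOf Q) (hf : Function.Surjective f)
    {X : Subgroup G} (hVX : V ≤ X) (hXQ : X ≤ Q) :
    normalizer (up f X : Set H) = up f (Q ⊓ normalizer (X : Set G)) := by
  ext y
  obtain ⟨q, rfl⟩ := hf y
  rw [mem_normalizer_up hk hf hVX hXQ,
    mem_up_iff hk (le_inf (hVX.trans hXQ) (hVX.trans le_normalizer)), mem_inf]
  simp

theorem le_normalizer_dn [Finite G] {Y : Subgroup H} (h : normalizer (Y : Set H) = ⊤) :
    Q ≤ normalizer (dn f Y : Set G) := by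
  intro q hq
  apply Basic.mem_normalizer_of_conj
  intro x hx
  have hxQ := dn_le _ hx
  have h1 := (mem_dn_iff (q := ⟨x, hxQ⟩)).1 hx
  have h2 : f ⟨q, hq⟩ ∈ normalizer (Y : Set H) := by rw [h]; exact mem_top _
  have h3 := (mem_normalizer_iff.1 h2 _).1 h1
  rw [← map_mul, ← map_inv, ← map_mul] at h3
  exact mem_dn_iff.2 h3

end H12.QuoT
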