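import Cfsg.Agent.S3807
import Cfsg.Agent.Lib.H12.Basic
import Cfsg.Agent.Lib.H12.ProSyl
import Cfsg.Agent.Lib.H1.Coprime2

/-! Soft subgroups of finite `p`-groups (Hethelyi). -/

set_option autoImplicit false

open Subgroup
open scoped commutatorElement Pointwise

namespace H12.Soft

open H12.ProSyl (cj mem_cj cj_mul cj_one cj_eq mem_normalizer_of_cj conj_mem_cj)

universe u

section basics

variable {G : Type u} [Group G] [Finite G] {p : ℕ} [hp : Fact p.Prime]

theorem relIndex_of_card {A B : Subgroup G} (h : A ≤ B) {m : ℕ}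
    (hc : Nat.card B = m * Nat.card A) : A.relIndex B = m := by
  have h1 := Basic.card_mul_relIndex h
  rw [hc, mul_comm] at h1
  exact Nat.eq_of_mul_eq_mul_right Nat.card_pos h1

omit hp in
theorem eq_of_le_of_relIndex_prime (hp : p.Prime) {A X B : Subgroup G} (h1 : A ≤ X) (h2 : X ≤ B)
    (h : A.relIndex B = p) : X = A ∨ X = B := by
  have h3 := Subgroup.relIndex_mul_relIndex A X B h1 h2
  rw [h] at h3
  have h4 : A.relIndex X ∣ p := Dvd.intro _ h3
  rcases (Nat.dvd_prime hp).1 h4 with h5 | h5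
  · left; exact le_antisymm (Subgroup.relIndex_eq_one.1 h5) h1
  · right
    rw [h5] at h3
    have h6 : X.relIndex B = 1 := by
      have := hp.pos
      exact Nat.eq_of_mul_eq_mul_left this (by rw [h3, mul_one])
    exact le_antisymm h2 (Subgroup.relIndex_eq_one.1 h6)

theorem lt_inf_normalizer {E X : Subgroup G} (hX : IsPGroup p X) (hE : E ≤ X) (hne : E ≠ X) :
    E < X ⊓ normalizer (E : Set G) := by
  have hnil := hX.isNilpotent
  have h1 : E.subgroupOf X < ⊤ := by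
    rw [lt_top_iff_ne_top, Ne, subgroupOf_eq_top]
    intro h
    exact hne (le_antisymm hE h)
  have h2 := Group.normalizerCondition_of_isNilpotent (G := X) _ h1
  rw [← subgroupOf_normalizer_eq hE] at h2
  refine lt_of_le_of_ne (le_inf hE le_normalizer) ?_
  intro h3
  apply h2.not_ge
  intro x hx
  rw [mem_subgroupOf] at hx ⊢
  rw [h3]
  exact mem_inf.2 ⟨x.2, hx⟩

theorem le_centralizer_of_card {K Z : Subgroup G} (hK : IsPGroup p K) (hZK : Z ≤ K)
    (hn : K ≤ normalizer (Z : Set G)) (hc : Nat.card Z = p) : Z ≤ centralizer (K : Set G) := by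
  have h1 : (Z.subgroupOf K).Normal := by
    rw [normal_subgroupOf_iff_le_normalizer hZK]; exact hn
  have h2 := H66.PIndex.le_center_of_card hK (Z.subgroupOf K) (by rw [Basic.card_subgroupOf hZK, hc])
  intro z hz
  rw [mem_centralizer_iff]
  intro k hk
  have h3 := h2 (mem_subgroupOf.2 (show ((⟨z, hZK hz⟩ : K) : G) ∈ Z from hz))
  exact congrArg Subtype.val (mem_center_iff.1 h3 ⟨k, hk⟩)

/-- the hypothesis -/
structure Soft (p : ℕ) (Q E : Subgroup G) : Prop where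
  pg : IsPGroup p Q
  le : E ≤ Q
  comm : ∀ a ∈ E, ∀ b ∈ E, a * b = b * a
  cen : ∀ x ∈ Q, (∀ e ∈ E, x * e = e * x) → x ∈ E
  nor : E.relIndex (Q ⊓ normalizer (E : Set G)) = p
  idx : p ^ 2 ∣ E.relIndex Q

variable {Q E : Subgroup G}

theorem Soft.leN (h : Soft p Q E) : E ≤ Q ⊓ normalizer (E : Set G) := le_inf h.le le_normalizer

theorem Soft.neN (h : Soft p Q E) : E ≠ Q ⊓ normalizer (E : Set G) := by
  intro h1
  have h2 := h.nor
  rw [← h1, Subgroup.relIndex_self] at h2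
  exact hp.out.one_lt.ne h2

theorem Soft.N_le (h : Soft p Q E) {X : Subgroup G} (hEX : E ≤ X) (hXQ : X ≤ Q) (hne : E ≠ X) :
    Q ⊓ normalizer (E : Set G) ≤ X := by
  have h1 := lt_inf_normalizer (h.pg.to_le hXQ) hEX hne
  have h2 : X ⊓ normalizer (E : Set G) ≤ Q ⊓ normalizer (E : Set G) := inf_le_inf_right _ hXQ
  rcases eq_of_le_of_relIndex_prime hp.out h1.le h2 h.nor with h3 | h3
  · exact absurd h3 h1.ne'
  · rw [← h3]; exact inf_le_left

theorem Soft.N_ne (h : Soft p Q E) : Q ⊓ normalizer (E : Set G) ≠ Q := by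
  intro h1
  have h2 := h.nor
  rw [h1] at h2
  have h3 := h.idx
  rw [h2] at h3
  have := Nat.le_of_dvd hp.out.pos h3
  have := hp.out.one_lt
  nlinarith

theorem Soft.exists_g (h : Soft p Q E) : ∃ g ∈ Q, cj g (Q ⊓ normalizer (E : Set G)) =
    Q ⊓ normalizer (E : Set G) ∧ cj g E ≠ E := by
  obtain ⟨N, hN⟩ : ∃ N, N = Q ⊓ normalizer (E : Set G) := ⟨_, rfl⟩
  rw [← hN]
  have h1 := lt_inf_normalizer (h.pg) (show N ≤ Q by rw [hN]; exact inf_le_left)
    (by rw [hN]; exact h.N_ne)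
  obtain ⟨g, hg, hgN⟩ := Set.exists_of_ssubset h1
  obtain ⟨hg1, hg2⟩ := mem_inf.1 hg
  refine ⟨g, hg1, cj_eq hg2, ?_⟩
  intro h2
  apply hgN
  rw [hN]
  exact mem_inf.2 ⟨hg1, mem_normalizer_of_cj h2⟩

/-- structure of `N_Q(E)` -/
theorem Soft.structN (h : Soft p Q E) :
    (centralizer ((Q ⊓ normalizer (E : Set G) : Subgroup G) : Set G) ⊓
        (Q ⊓ normalizer (E : Set G))) ≤ E ∧
    (centralizer ((Q ⊓ normalizer (E : Set G) : Subgroup G) : Set G) ⊓
        (Q ⊓ normalizer (E : Set G))).relIndex (Q ⊓ normalizer (E : Set G)) = p ^ 2 ∧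
    Nat.card (⁅Q ⊓ normalizer (E : Set G), Q ⊓ normalizer (E : Set G)⁆ : Subgroup G) = p ∧
    ⁅Q ⊓ normalizer (E : Set G), Q ⊓ normalizer (E : Set G)⁆ ≤
      centralizer ((Q ⊓ normalizer (E : Set G) : Subgroup G) : Set G) ∧
    Nat.card {B : Subgroup ↥(Q ⊓ normalizer (E : Set G) : Subgroup G) //
      IsMulCommutative ↥B ∧ B.index = p} = p + 1 := by
  obtain ⟨g, hgQ, hgN, hgE⟩ := h.exists_g
  have hleN := h.leN
  have hneN := h.neN
  have hnor := h.nor
  have hNQ : Q ⊓ normalizer (E : Set G) ≤ Q := inf_le_left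
  obtain ⟨N, hN⟩ : ∃ N, N = Q ⊓ normalizer (E : Set G) := ⟨_, rfl⟩
  rw [← hN] at hgN hleN hneN hnor hNQ ⊢
  have hNp : IsPGroup p N := h.pg.to_le hNQ
  have hEcomm : IsMulCommutative (E.subgroupOf N) :=
    ⟨⟨fun a b => Subtype.ext (Subtype.ext (h.comm _ (mem_subgroupOf.1 a.2) _ (mem_subgroupOf.1 b.2)))⟩⟩
  have hna : ¬ IsMulCommutative N := by
    intro hc
    apply hneN
    apply le_antisymm hleN
    intro x hx
    apply h.cen x (hNQ hx)
    intro e he
    exact congrArg Subtype.val (hc.is_comm.comm (⟨x, hx⟩ : N) ⟨e, hleN he⟩)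
  have hgle : cj g E ≤ N := by rw [← hgN]; exact Subgroup.map_mono hleN
  have hr := (Cfsg.Agent.S3807.result p hNp hna (E.subgroupOf N) hEcomm hnor).2
  rcases hr with ⟨h1, h2, h3, h4⟩ | ⟨-, h2⟩
  · have hcen : (center N).map N.subtype = centralizer (N : Set G) ⊓ N := by
      ext x
      constructor
      · rintro ⟨y, hy, rfl⟩
        refine mem_inf.2 ⟨?_, y.2⟩
        rw [mem_centralizer_iff]
        intro k hk
        exact congrArg Subtype.val (mem_center_iff.1 hy ⟨k, hk⟩)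
      · intro hx
        obtain ⟨hx1, hx2⟩ := mem_inf.1 hx
        refine ⟨⟨x, hx2⟩, ?_, rfl⟩
        rw [SetLike.mem_coe, mem_center_iff]
        intro k
        exact Subtype.ext (mem_centralizer_iff.1 hx1 k k.2)
    have hcomN : (_root_.commutator N).map N.subtype = ⁅N, N⁆ := by
      rw [_root_.commutator_def, Subgroup.map_commutator, ← MonoidHom.range_eq_map,
        Subgroup.range_subtype]
    have hcomle : _root_.commutator N ≤ center N := by
      have h5 : IsMulCommutative (N ⧸ center N) := by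
        refine ⟨⟨fun a b => ?_⟩⟩
        exact congrArg Subtype.val (h2.1.is_comm.comm (⟨a, mem_top a⟩ : (⊤ : Subgroup (N ⧸ center N))) ⟨b, mem_top b⟩)
      rw [_root_.commutator_def, commutator_le]
      intro a _ b _
      rw [← QuotientGroup.eq_one_iff]
      change QuotientGroup.mk' (center N) ⁅a, b⁆ = 1
      rw [map_commutatorElement, commutatorElement_eq_one_iff_mul_comm]
      exact h5.is_comm.comm _ _
    refine ⟨?_, ?_, ?_, ?_, h4⟩
    · intro x hx
      obtain ⟨hx1, hx2⟩ := mem_inf.1 hx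
      apply h.cen x (hNQ hx2)
      intro e he
      exact (mem_centralizer_iff.1 hx1 e (hleN he)).symm
    · rw [← hcen, Subgroup.relIndex, Subgroup.subgroupOf,
        Subgroup.comap_map_eq_self_of_injective N.subtype_injective, Subgroup.index_eq_card, h3]
    · rw [← hcomN, card_map_of_injective N.subtype_injective, h1]
    · rw [← hcomN]
      refine (Subgroup.map_mono hcomle).trans ?_
      rw [hcen]; exact inf_le_left
  · exfalso
    have h5 := h2 ((cj g E).subgroupOf N) ?_ ?_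
    · apply hgE
      have h6 := congrArg (Subgroup.map N.subtype) h5
      rwa [subgroupOf_map_subtype, subgroupOf_map_subtype, inf_eq_left.2 hgle,
        inf_eq_left.2 hleN] at h6
    · refine ⟨⟨fun a b => Subtype.ext (Subtype.ext ?_)⟩⟩
      obtain ⟨x, hx, hxe⟩ := mem_subgroupOf.1 a.2
      obtain ⟨y, hy, hye⟩ := mem_subgroupOf.1 b.2
      change (a.1 : G) * (b.1 : G) = (b.1 : G) * (a.1 : G)
      rw [← hxe, ← hye, ← map_mul, ← map_mul, h.comm x hx y hy]
    · change (cj g E).relIndex N = p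
      conv_lhs => rw [← hgN]
      rw [← hnor]
      exact Subgroup.relIndex_map_map_of_injective _ _ (MulAut.conj g).injective

/-- proper subgroups lie in normalized subgroups of index `p` -/
theorem exists_max {X : Subgroup G} (hQ : IsPGroup p Q) (hX : X ≤ Q) (hne : X ≠ Q) :
    ∃ Y : Subgroup G, X ≤ Y ∧ Y ≤ Q ∧ Y.relIndex Q = p ∧ Q ≤ normalizer (Y : Set G) := by
  obtain ⟨m, hm⟩ := IsPGroup.iff_card.1 hQ
  obtain ⟨j, hj⟩ := IsPGroup.iff_card.1 (hQ.to_le hX)
  have hjm : j < m := by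
    by_contra hle
    apply hne
    apply Subgroup.eq_of_le_of_card_ge hX
    rw [hm, hj]
    exact Nat.pow_le_pow_right hp.out.pos (by omega)
  obtain ⟨Y, hY, hXY⟩ := Sylow.exists_subgroup_card_pow_prime_le p (n := j) (m := m - 1)
    (G := Q) (by rw [hm]; exact pow_dvd_pow p (by omega)) (X.subgroupOf Q)
    (by rw [Basic.card_subgroupOf hX, hj]) (by omega)
  have hcard : Nat.card Q = p * Nat.card (Y.map Q.subtype) := by
    rw [card_map_of_injective Q.subtype_injective, hY, hm, ← pow_succ']; congr 1; omega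
  have hidx : (Y.map Q.subtype).relIndex Q = p := relIndex_of_card (map_subtype_le _) hcard
  refine ⟨Y.map Q.subtype, ?_, map_subtype_le _, hidx, ?_⟩
  · intro x hx
    exact ⟨⟨x, hX hx⟩, hXY (mem_subgroupOf.2 hx), rfl⟩
  · have h1 : ((Y.map Q.subtype).subgroupOf Q).index = p := hidx
    have h2 := H3.PBasic.normal_of_index hQ h1
    rwa [normal_subgroupOf_iff_le_normalizer (map_subtype_le _)] at h2

omit hp in
theorem relIndex_inf {X Y K : Subgroup G} (hX : X ≤ K) (hY : Y ≤ K)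
    (hYn : K ≤ normalizer (Y : Set G)) (hsup : X ⊔ Y = K) : (X ⊓ Y).relIndex X = Y.relIndex K := by
  have hn : (Y.subgroupOf K).Normal := by
    rw [normal_subgroupOf_iff_le_normalizer hY]; exact hYn
  have h1 := Subgroup.relIndex_sup_right (X.subgroupOf K) (Y.subgroupOf K)
  rw [← Subgroup.subgroupOf_sup hX hY, hsup, Subgroup.relIndex_subgroupOf le_rfl,
    Subgroup.relIndex_subgroupOf hX] at h1
  rw [h1, inf_comm, Subgroup.inf_relIndex_right]

theorem comm_le_of_relIndex {K A D : Subgroup G} (hK : IsPGroup p K) (hAD : A ≤ D) (hDK : D ≤ K)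
    (hA : K ≤ normalizer (A : Set G)) (hD : K ≤ normalizer (D : Set G))
    (h : A.relIndex D = p) : ∀ k ∈ K, ∀ d ∈ D, k * d * k⁻¹ * d⁻¹ ∈ A := by
  have hAn : (A.subgroupOf K).Normal := by
    rw [normal_subgroupOf_iff_le_normalizer (hAD.trans hDK)]; exact hA
  have hDn : (D.subgroupOf K).Normal := by
    rw [normal_subgroupOf_iff_le_normalizer hDK]; exact hD
  have hq : IsPGroup p (K ⧸ A.subgroupOf K) :=
    hK.of_surjective (QuotientGroup.mk' (A.subgroupOf K)) (QuotientGroup.mk'_surjective _)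
  have hDm : ((D.subgroupOf K).map (QuotientGroup.mk' (A.subgroupOf K))).Normal :=
    hDn.map _ (QuotientGroup.mk'_surjective _)
  have hc : Nat.card ((D.subgroupOf K).map (QuotientGroup.mk' (A.subgroupOf K))) = p := by
    rw [← Subgroup.relIndex_ker, QuotientGroup.ker_mk', Subgroup.relIndex_subgroupOf hDK, h]
  have h1 := H66.PIndex.le_center_of_card hq _ hc
  intro k hk d hd
  have h2 := h1 (mem_map_of_mem (QuotientGroup.mk' (A.subgroupOf K))
    (mem_subgroupOf.2 (show ((⟨d, hDK hd⟩ : K) : G) ∈ D from hd)))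
  have h3 := mem_center_iff.1 h2 (QuotientGroup.mk' (A.subgroupOf K) ⟨k, hk⟩)
  rw [← map_mul, ← map_mul] at h3
  have h4 : (⟨k, hk⟩ * ⟨d, hDK hd⟩ : K) * (⟨d, hDK hd⟩ * ⟨k, hk⟩ : K)⁻¹ ∈ A.subgroupOf K := by
    rw [← QuotientGroup.eq_one_iff]
    change QuotientGroup.mk' (A.subgroupOf K) _ = 1
    rw [map_mul, map_inv, h3, mul_inv_cancel]
  rw [mem_subgroupOf] at h4
  have e : k * d * k⁻¹ * d⁻¹ = k * d * (d * k)⁻¹ := by group
  rw [e]
  exact h4

omit hp in
theorem comm_le_of_sup {K A E : Subgroup G} (hK : K = E ⊔ A) (hEK : K ≤ normalizer (A : Set G))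
    (hE : ∀ a ∈ E, ∀ b ∈ E, a * b = b * a) : ∀ x ∈ K, ∀ y ∈ K, x * y * x⁻¹ * y⁻¹ ∈ A := by
  have hEA : E ≤ normalizer (A : Set G) := le_trans (by rw [hK]; exact le_sup_left) hEK
  have hdec : ∀ x ∈ K, ∃ e ∈ E, ∃ a ∈ A, x = e * a := by
    intro x hx
    rw [hK] at hx
    have h2 := Subgroup.coe_mul_of_left_le_normalizer_right E A hEA
    have h3 : x ∈ ((E ⊔ A : Subgroup G) : Set G) := hx
    rw [h2] at h3
    obtain ⟨e, he, a, ha, rfl⟩ := h3
    exact ⟨e, he, a, ha, rfl⟩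
  intro x hx y hy
  obtain ⟨e, he, a, ha, rfl⟩ := hdec x hx
  obtain ⟨f, hf, b, hb, rfl⟩ := hdec y hy
  have hconj : ∀ e ∈ E, ∀ a ∈ A, e * a * e⁻¹ ∈ A := fun e he a ha =>
    (mem_normalizer_iff.1 (hEA he) a).1 ha
  have h1 : e * a * (f * b) * (e * a)⁻¹ * (f * b)⁻¹ =
      (e * a * e⁻¹) * ((e * f) * (b * a⁻¹) * (e * f)⁻¹) *
        ((e * f * e⁻¹) * b⁻¹ * (e * f * e⁻¹)⁻¹) * (e * f * e⁻¹ * f⁻¹) := by group
  have h2 : e * f * e⁻¹ * f⁻¹ = 1 := by rw [hE e he f hf]; group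
  rw [h1, h2, mul_one]
  refine mul_mem (mul_mem (hconj e he a ha) (hconj _ (mul_mem he hf) _ (mul_mem hb (inv_mem ha)))) ?_
  exact hconj _ (mul_mem (mul_mem he hf) (inv_mem he)) _ (inv_mem hb)

/-- the conclusion -/
structure Out (p : ℕ) (Q E K : Subgroup G) : Prop where
  le1 : E ≤ K
  le2 : K ≤ Q
  nrm : Q ≤ normalizer (K : Set G)
  idx : K.relIndex Q = p
  uniq : ∀ X : Subgroup G, E ≤ X → X ≤ Q → X ≠ Q → X ≤ K
  min : ∀ X : Subgroup G, E ≤ X → X ≤ Q → Q ≤ normalizer (X : Set G) → K ≤ X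
  cls : ∀ i, E.relIndex K = p ^ i → Group.nilpotencyClass K = i + 1
  com : ⁅Q ⊓ normalizer (E : Set G), Q ⊓ normalizer (E : Set G)⁆ ≤ centralizer (K : Set G)
  core : ∀ L : Subgroup G, E ≤ L → L ≤ K → L.relIndex K = p →
    ∃ A : Subgroup G, A ≤ L ∧ Q ≤ normalizer (A : Set G) ∧ A.relIndex K = p ^ 2

theorem uniq_of {K : Subgroup G} (hQ : IsPGroup p Q) (h2 : K ≤ Q) (hidx : K.relIndex Q = p)
    (hmin : ∀ X : Subgroup G, E ≤ X → X ≤ Q → Q ≤ normalizer (X : Set G) → K ≤ X)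
    (X : Subgroup G) (hEX : E ≤ X) (hXQ : X ≤ Q) (hne : X ≠ Q) : X ≤ K := by
  obtain ⟨Y, hXY, hYQ, hY, hYn⟩ := exists_max hQ hXQ hne
  have h3 := hmin Y (hEX.trans hXY) hYQ hYn
  rcases eq_of_le_of_relIndex_prime hp.out h3 hYQ hidx with h4 | h4
  · rw [← h4]; exact hXY
  · exfalso
    rw [h4, Subgroup.relIndex_self] at hY
    exact hp.out.one_lt.ne hY

theorem exists_K (hE : E ≤ Q) : ∃ K : Subgroup G, E ≤ K ∧ K ≤ Q ∧ Q ≤ normalizer (K : Set G) ∧
    ∀ X : Subgroup G, E ≤ X → X ≤ Q → Q ≤ normalizer (X : Set G) → K ≤ X := by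
  obtain ⟨K, ⟨h1, h2, h3⟩, hmin⟩ := (Set.toFinite {X : Subgroup G | E ≤ X ∧ X ≤ Q ∧
    Q ≤ normalizer (X : Set G)}).exists_minimal ⟨Q, hE, le_rfl, le_normalizer⟩
  refine ⟨K, h1, h2, h3, fun X hX1 hX2 hX3 => ?_⟩
  have h4 := hmin (y := K ⊓ X) ⟨le_inf h1 hX1, inf_le_left.trans h2,
    H1.Coprime2.le_normalizer_inf h3 hX3⟩ inf_le_left
  exact h4.trans inf_le_right

theorem Soft.restrict (h : Soft p Q E) {K : Subgroup G} (h1 : Q ⊓ normalizer (E : Set G) ≤ K)
    (h2 : K ≤ Q) (hne : K ≠ Q ⊓ normalizer (E : Set G)) : Soft p K E ∧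
      K ⊓ normalizer (E : Set G) = Q ⊓ normalizer (E : Set G) := by
  have h3 : K ⊓ normalizer (E : Set G) = Q ⊓ normalizer (E : Set G) :=
    le_antisymm (inf_le_inf_right _ h2) (le_inf h1 inf_le_right)
  refine ⟨⟨h.pg.to_le h2, h.leN.trans h1, h.comm, fun x hx => h.cen x (h2 hx), ?_, ?_⟩, h3⟩
  · rw [h3]; exact h.nor
  · rw [← Subgroup.relIndex_mul_relIndex E _ K h.leN h1, h.nor, sq]
    refine Nat.mul_dvd_mul_left _ ?_
    have h4 : (Q ⊓ normalizer (E : Set G)).relIndex K ∣ Nat.card K := Subgroup.relIndex_dvd_card _ _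
    obtain ⟨m, hm⟩ := IsPGroup.iff_card.1 (h.pg.to_le h2)
    rw [hm] at h4
    obtain ⟨j, -, hj⟩ := (Nat.dvd_prime_pow hp.out).1 h4
    rw [hj]
    have hj0 : j ≠ 0 := by
      rintro rfl
      rw [pow_zero, Subgroup.relIndex_eq_one] at hj
      exact hne (le_antisymm hj h1)
    exact dvd_pow_self p hj0

end basics

end H12.Soft
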