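import Cfsg.Agent.Lib.H12.Soft

/-! Soft subgroups of finite `p`-groups: the case of a normal normalizer, and the key claim. -/

set_option autoImplicit false

open Subgroup
open scoped commutatorElement Pointwise

namespace H12.Soft

open H12.ProSyl (cj mem_cj cj_mul cj_one cj_eq mem_normalizer_of_cj conj_mem_cj)

universe u

variable {G : Type u} [Group G] [Finite G] {p : ℕ} [hp : Fact p.Prime] {Q E : Subgroup G}

theorem class_eq_two {X : Type*} [Group X] [Finite X] (h1 : _root_.commutator X ≤ center X)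
    (h2 : _root_.commutator X ≠ ⊥) : Group.nilpotencyClass X = 2 := by
  have hnil : Group.IsNilpotent X := by
    rw [Subgroup.nilpotent_iff_lowerCentralSeries]
    refine ⟨2, ?_⟩
    have e : (⊤ : Subgroup X).lowerCentralSeries 2 = ⁅_root_.commutator X, (⊤ : Subgroup X)⁆ := by
      rw [Subgroup.lowerCentralSeries_succ, Subgroup.lowerCentralSeries_one]
    rw [e, Subgroup.commutator_eq_bot_iff_le_centralizer]
    intro x hx
    rw [mem_centralizer_iff]
    intro y _
    exact mem_center_iff.1 (h1 hx) y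
  have h3 : Group.nilpotencyClass X ≤ 2 := by
    rw [← _root_.lowerCentralSeries_eq_bot_iff_nilpotencyClass_le]
    have e : (⊤ : Subgroup X).lowerCentralSeries 2 = ⁅_root_.commutator X, (⊤ : Subgroup X)⁆ := by
      rw [Subgroup.lowerCentralSeries_succ, Subgroup.lowerCentralSeries_one]
    rw [e, Subgroup.commutator_eq_bot_iff_le_centralizer]
    intro x hx
    rw [mem_centralizer_iff]
    intro y _
    exact mem_center_iff.1 (h1 hx) y
  have h4 : ¬ Group.nilpotencyClass X ≤ 1 := by
    rw [← _root_.lowerCentralSeries_eq_bot_iff_nilpotencyClass_le]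
    rw [Subgroup.lowerCentralSeries_one]
    exact h2
  omega

theorem commutator_map (N : Subgroup G) : (_root_.commutator N).map N.subtype = ⁅N, N⁆ := by
  rw [_root_.commutator_def, Subgroup.map_commutator, ← MonoidHom.range_eq_map,
    Subgroup.range_subtype]

theorem case_one (h : Soft p Q E)
    (hn : Q ≤ normalizer ((Q ⊓ normalizer (E : Set G) : Subgroup G) : Set G)) :
    Out p Q E (Q ⊓ normalizer (E : Set G)) := by
  obtain ⟨hZE, hZi, hUc, hUcen, hcount⟩ := h.structN
  have hmin : ∀ X : Subgroup G, E ≤ X → X ≤ Q → Q ≤ normalizer (X : Set G) →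
      Q ⊓ normalizer (E : Set G) ≤ X := by
    intro X hEX hXQ hXn
    apply h.N_le hEX hXQ
    rintro rfl
    apply h.N_ne
    rw [inf_eq_left]
    exact hXn
  have hidx : (Q ⊓ normalizer (E : Set G)).relIndex Q = p := by
    have hle : (Q ⊓ normalizer (E : Set G)).relIndex Q ≤ p + 1 := by
      rw [← hcount]
      have hEN := h.leN
      have hcjN : ∀ q ∈ Q, cj q E ≤ Q ⊓ normalizer (E : Set G) := by
        intro q hq
        have h1 := cj_eq (hn hq)
        rw [← h1]
        exact Subgroup.map_mono hEN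
      have hcji : ∀ q ∈ Q, (cj q E).relIndex (Q ⊓ normalizer (E : Set G)) = p := by
        intro q hq
        have h1 := cj_eq (hn hq)
        conv_lhs => rw [← h1]
        rw [← h.nor]
        exact Subgroup.relIndex_map_map_of_injective _ _ (MulAut.conj q).injective
      let f : (↥Q ⧸ (Q ⊓ normalizer (E : Set G)).subgroupOf Q) →
          {B : Subgroup ↥(Q ⊓ normalizer (E : Set G) : Subgroup G) // IsMulCommutative ↥B ∧ B.index = p} :=
        fun q => ⟨(cj (q.out : G) E).subgroupOf (Q ⊓ normalizer (E : Set G)), by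
          constructor
          · refine ⟨⟨fun a b => Subtype.ext (Subtype.ext ?_)⟩⟩
            obtain ⟨x, hx, hxe⟩ := mem_subgroupOf.1 a.2
            obtain ⟨y, hy, hye⟩ := mem_subgroupOf.1 b.2
            change (a.1 : G) * (b.1 : G) = (b.1 : G) * (a.1 : G)
            rw [← hxe, ← hye, ← map_mul, ← map_mul, h.comm x hx y hy]
          · exact hcji _ q.out.2⟩
      apply Nat.card_le_card_of_injective f
      intro q q' hqq
      have h1 : (cj (q.out : G) E).subgroupOf (Q ⊓ normalizer (E : Set G)) =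
          (cj (q'.out : G) E).subgroupOf (Q ⊓ normalizer (E : Set G)) := congrArg Subtype.val hqq
      have h2 := congrArg (Subgroup.map (Q ⊓ normalizer (E : Set G)).subtype) h1
      rw [subgroupOf_map_subtype, subgroupOf_map_subtype, inf_eq_left.2 (hcjN _ q.out.2),
        inf_eq_left.2 (hcjN _ q'.out.2)] at h2
      rw [← Quotient.out_eq' q, ← Quotient.out_eq' q']
      change (QuotientGroup.mk q.out : ↥Q ⧸ (Q ⊓ normalizer (E : Set G)).subgroupOf Q) = QuotientGroup.mk q'.out
      rw [QuotientGroup.eq, mem_subgroupOf]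
      refine mem_inf.2 ⟨(q.out⁻¹ * q'.out).2, ?_⟩
      apply mem_normalizer_of_cj
      change cj ((q.out : G)⁻¹ * (q'.out : G)) E = E
      rw [cj_mul, ← h2, ← cj_mul, inv_mul_cancel, cj_one]
    have h1 : (Q ⊓ normalizer (E : Set G)).relIndex Q ∣ Nat.card Q := Subgroup.relIndex_dvd_card _ _
    obtain ⟨m, hm⟩ := IsPGroup.iff_card.1 h.pg
    rw [hm] at h1
    obtain ⟨j, -, hj⟩ := (Nat.dvd_prime_pow hp.out).1 h1
    have hj0 : j ≠ 0 := by
      rintro rfl
      rw [pow_zero, Subgroup.relIndex_eq_one] at hj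
      exact h.N_ne (le_antisymm inf_le_left hj)
    have hj2 : j < 2 := by
      by_contra hge
      have h2 : p ^ 2 ≤ p ^ j := Nat.pow_le_pow_right hp.out.pos (by omega)
      have := hp.out.two_le
      rw [hj] at hle
      nlinarith
    have hj1 : j = 1 := by omega
    rw [hj, hj1, pow_one]
  have hNna : ⁅Q ⊓ normalizer (E : Set G), Q ⊓ normalizer (E : Set G)⁆ ≠ (⊥ : Subgroup G) := by
    intro h1
    rw [h1, card_bot] at hUc
    exact hp.out.one_lt.ne hUc
  refine ⟨h.leN, inf_le_left, hn, hidx, uniq_of h.pg inf_le_left hidx hmin, hmin, ?_, hUcen, ?_⟩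
  · intro i hi
    rw [h.nor] at hi
    have hi1 : i = 1 := by
      have : p ^ 1 = p ^ i := by rw [pow_one]; exact hi
      exact (Nat.pow_right_injective hp.out.two_le this).symm
    rw [hi1]
    apply class_eq_two
    · intro x hx
      have h1 : (x : G) ∈ ⁅Q ⊓ normalizer (E : Set G), Q ⊓ normalizer (E : Set G)⁆ := by
        rw [← commutator_map]; exact mem_map_of_mem _ hx
      rw [mem_center_iff]
      intro y
      exact Subtype.ext (mem_centralizer_iff.1 (hUcen h1) y y.2)
    · intro h1
      apply hNna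
      rw [← commutator_map, h1, Subgroup.map_bot]
  · intro L hEL hLN hL
    have hLE : L = E := by
      rcases eq_of_le_of_relIndex_prime hp.out hEL hLN h.nor with h1 | h1
      · exact h1
      · exfalso
        rw [h1, Subgroup.relIndex_self] at hL
        exact hp.out.one_lt.ne hL
    refine ⟨_, hLE ▸ hZE, ?_, hZi⟩
    exact H1.Coprime2.le_normalizer_inf (H1.Coprime2.le_normalizer_centralizer hn) hn

/-- in a `p`-group a normalized subgroup not centralized by `M` contains an element of the second
centre which is not central. -/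
theorem exists_second {M Z : Subgroup G} (hM : IsPGroup p M) (hZM : Z ≤ M)
    (hn : M ≤ normalizer (Z : Set G)) (hZ : ¬ Z ≤ centralizer (M : Set G)) :
    ∃ l ∈ Z, l ∉ centralizer (M : Set G) ∧ ∀ m ∈ M, ⁅l, m⁆ ∈ centralizer (M : Set G) := by
  obtain ⟨U, ⟨hUZ, hUn, hU⟩, hmin⟩ := (Set.toFinite {X : Subgroup G | X ≤ Z ∧
    M ≤ normalizer (X : Set G) ∧ ¬ X ≤ centralizer (M : Set G)}).exists_minimal ⟨Z, le_rfl, hn, hZ⟩
  have hUb : U ≠ ⊥ := by
    rintro rfl
    exact hU bot_le
  have hlt := H1.Coprime2.commutator_lt_of_isPGroup hM (hM.to_le (hUZ.trans hZM)) hUn hUb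
  have h1 : ⁅U, M⁆ ≤ centralizer (M : Set G) := by
    by_contra hcon
    exact hlt.not_ge (hmin ⟨hlt.le.trans hUZ, H1.Coprime2.le_normalizer_commutator_right U M, hcon⟩ hlt.le)
  obtain ⟨l, hl, hlM⟩ := Set.not_subset.1 hU
  exact ⟨l, hUZ hl, hlM, fun m hm => h1 (commutator_mem_commutator hl hm)⟩

end H12.Soft
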