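import Cfsg.Agent.Lib.H12.Soft2

/-! Soft subgroups of finite `p`-groups: the key claim. -/

set_option autoImplicit false

open Subgroup
open scoped commutatorElement Pointwise

namespace H12.Soft

open H12.ProSyl (cj mem_cj cj_mul cj_one cj_eq mem_normalizer_of_cj conj_mem_cj)

universe u

variable {G : Type u} [Group G] [Finite G] {p : ℕ} [hp : Fact p.Prime] {Q E : Subgroup G}

omit [Finite G] in
theorem cj_inf (g : G) (X Y : Subgroup G) : cj g (X ⊓ Y) = cj g X ⊓ cj g Y := by
  ext x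
  rw [mem_inf, mem_cj, mem_cj, mem_cj, mem_inf]

theorem card_cj (g : G) (X : Subgroup G) : Nat.card (cj g X) = Nat.card X :=
  Subgroup.card_map_of_injective (f := (MulAut.conj g).toMonoidHom) (MulAut.conj g).injective

theorem cj_le_normalizer {g : G} {X Y : Subgroup G} (h : X ≤ normalizer (Y : Set G))
    (hX : g ∈ normalizer (X : Set G)) : X ≤ normalizer ((cj g Y : Subgroup G) : Set G) := by
  intro x hx
  apply mem_normalizer_of_cj
  have h1 : g⁻¹ * x * g ∈ X := (mem_normalizer_iff''.1 hX x).1 hx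
  have h2 := cj_eq (h h1)
  rw [← cj_mul]
  have e : x * g = g * (g⁻¹ * x * g) := by group
  rw [e, cj_mul, h2]

set_option maxHeartbeats 1600000 in
theorem claim (h : Soft p Q E) {K M : Subgroup G} (hEK : E ≤ K) (hKQ : K ≤ Q)
    (hKn : Q ≤ normalizer (K : Set G))
    (hKmin : ∀ X : Subgroup G, E ≤ X → X ≤ Q → Q ≤ normalizer (X : Set G) → K ≤ X)
    (hKN : K ≠ Q ⊓ normalizer (E : Set G)) (hNK : Q ⊓ normalizer (E : Set G) ≤ K)
    (hO : Out p K E M) :
    ⁅Q ⊓ normalizer (E : Set G), Q ⊓ normalizer (E : Set G)⁆ ≤ centralizer (K : Set G) := by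
  obtain ⟨-, -, hUc, -, -⟩ := h.structN
  have hcom := hO.com
  rw [(h.restrict hNK hKQ hKN).2] at hcom
  have hNle := fun X : Subgroup G => h.N_le (X := X)
  have hleN := h.leN
  have hEnor : ∀ x ∈ Q, (∀ e ∈ E, x * e * x⁻¹ * e⁻¹ ∈ E) → x ∈ Q ⊓ normalizer (E : Set G) := by
    intro x hx hxe
    refine mem_inf.2 ⟨hx, ?_⟩
    apply Basic.mem_normalizer_of_conj
    intro e he
    have h1 := mul_mem (hxe e he) he
    rwa [inv_mul_cancel_right] at h1
  obtain ⟨N, hN⟩ : ∃ N, N = Q ⊓ normalizer (E : Set G) := ⟨_, rfl⟩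
  rw [← hN] at hUc hcom hKN hNK hleN hEnor ⊢
  have hKp : IsPGroup p K := h.pg.to_le hKQ
  have hMK : M ≤ K := hO.le2
  have hMp : IsPGroup p M := hKp.to_le hMK
  have hKM := hO.nrm
  have hUK : ⁅N, N⁆ ≤ K := (commutator_le_self N).trans hNK
  by_cases hMN : M = N
  · -- M = N
    apply le_centralizer_of_card hKp hUK _ hUc
    rw [hMN] at hKM
    exact H1.Coprime2.le_normalizer_commutator hKM hKM
  have hEM : E ≠ M := by
    intro h1
    -- E normal in K, so K = N
    apply hKN
    apply le_antisymm _ hNK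
    rw [hN]
    refine le_inf hKQ ?_
    rw [h1]; exact hKM
  have hNM : N ≤ M := by
    rw [hN]; exact hNle M hO.le1 (hMK.trans hKQ) hEM
  obtain ⟨L, hEL, hLM, hLi, hLn⟩ := exists_max hMp hO.le1 hEM
  obtain ⟨A, hAL, hKA, hAi⟩ := hO.core L hEL hLM hLi
  have hLK : ¬ K ≤ normalizer (L : Set G) := by
    intro h1
    have h2 := hO.min L hEL (hLM.trans hMK) h1
    rw [le_antisymm hLM h2, Subgroup.relIndex_self] at hLi
    exact hp.out.one_lt.ne hLi
  have hKcomL : ¬ (∀ x ∈ K, ∀ y ∈ L, x * y * x⁻¹ * y⁻¹ ∈ L) := by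
    intro h1
    apply hLK
    intro x hx
    apply Basic.mem_normalizer_of_conj
    intro y hy
    have h2 := mul_mem (h1 x hx y hy) hy
    rwa [inv_mul_cancel_right] at h2
  have hAM : A ≤ M := hAL.trans hLM
  -- M is not normalized by Q
  obtain ⟨g, hg, hgM⟩ : ∃ g ∈ Q, cj g M ≠ M := by
    by_contra hcon
    push Not at hcon
    have h1 := hKmin M hO.le1 (hMK.trans hKQ) (fun g hg => mem_normalizer_of_cj (hcon g hg))
    have h2 := hO.idx
    rw [le_antisymm hMK h1, Subgroup.relIndex_self] at h2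
    exact hp.out.one_lt.ne h2
  have hQK : ∀ x ∈ Q, cj x K = K := fun x hx => cj_eq (hKn hx)
  -- conjugates of A lie in M
  have hAx : ∀ x ∈ Q, cj x A ≤ M := by
    intro x hx
    have h1 : cj x A ≤ K := by rw [← hQK x hx]; exact Subgroup.map_mono (hAM.trans hMK)
    have h2 : K ≤ normalizer ((cj x A : Subgroup G) : Set G) := cj_le_normalizer hKA (hKn hx)
    by_cases h3 : E ⊔ cj x A = K
    · exfalso
      have h4 := comm_le_of_sup h3.symm h2 h.comm
      apply hKcomL
      intro a ha b hb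
      have ha' : x * a * x⁻¹ ∈ K := by rw [← hQK x hx]; exact conj_mem_cj ha
      have hb' : x * b * x⁻¹ ∈ K := by rw [← hQK x hx]; exact conj_mem_cj (hMK (hLM hb))
      have h5 := h4 _ ha' _ hb'
      rw [mem_cj] at h5
      apply hAL
      have e : x⁻¹ * (x * a * x⁻¹ * (x * b * x⁻¹) * (x * a * x⁻¹)⁻¹ * (x * b * x⁻¹)⁻¹) * x =
          a * b * a⁻¹ * b⁻¹ := by group
      rwa [e] at h5
    · exact le_trans le_sup_right (hO.uniq _ le_sup_left (sup_le hEK h1) h3)
  have hgK : ∀ x ∈ Q, cj x M ≤ K := by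
    intro x hx
    rw [← hQK x hx]; exact Subgroup.map_mono hMK
  have hgKn : ∀ x ∈ Q, K ≤ normalizer ((cj x M : Subgroup G) : Set G) := fun x hx =>
    cj_le_normalizer hKM (hKn hx)
  have hgi : ∀ x ∈ Q, (cj x M).relIndex K = p := by
    intro x hx
    have h1 := hQK x hx
    conv_lhs => rw [← h1]
    rw [← hO.idx]
    exact Subgroup.relIndex_map_map_of_injective _ _ (MulAut.conj x).injective
  -- the intersections
  have hDprop : ∀ x ∈ Q, cj x M ≠ M → (M ⊓ cj x M).relIndex M = p ∧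
      K ≤ normalizer ((M ⊓ cj x M : Subgroup G) : Set G) ∧ M ⊔ cj x M = K := by
    intro x hx hxM
    have h1 : M ⊔ cj x M = K := by
      rcases eq_of_le_of_relIndex_prime hp.out (le_sup_left : M ≤ M ⊔ cj x M)
        (sup_le hMK (hgK x hx)) hO.idx with h2 | h2
      · exfalso
        apply hxM
        have h3 : cj x M ≤ M := le_trans le_sup_right h2.le
        exact Subgroup.eq_of_le_of_card_ge h3 (card_cj x M).ge
      · exact h2
    refine ⟨?_, H1.Coprime2.le_normalizer_inf hKM (hgKn x hx), h1⟩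
    rw [relIndex_inf hMK (hgK x hx) (hgKn x hx) h1, hgi x hx]
  have hgM' : cj g⁻¹ M ≠ M := by
    intro h1
    apply hgM
    conv_lhs => rw [← h1]
    rw [← cj_mul, mul_inv_cancel, cj_one]
  obtain ⟨hDi, hDn, hDs⟩ := hDprop g hg hgM
  obtain ⟨hDi', hDn', hDs'⟩ := hDprop g⁻¹ (inv_mem hg) hgM'
  have hAD : ∀ x ∈ Q, A ≤ M ⊓ cj x M := by
    intro x hx
    refine le_inf hAM ?_
    have h1 := hAx x⁻¹ (inv_mem hx)
    have h2 := Subgroup.map_mono (f := (MulAut.conj x).toMonoidHom) h1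
    have h3 : cj x (cj x⁻¹ A) = A := by rw [← cj_mul, mul_inv_cancel, cj_one]
    change cj x (cj x⁻¹ A) ≤ cj x M at h2
    rwa [h3] at h2
  have hrelA : ∀ D : Subgroup G, A ≤ D → D ≤ M → D.relIndex M = p → A.relIndex D = p := by
    intro D h1 h2 h3
    have h4 := Subgroup.relIndex_mul_relIndex A D M h1 h2
    rw [h3, hAi, sq] at h4
    exact Nat.eq_of_mul_eq_mul_right hp.out.pos h4
  -- uniqueness of D
  have huniq : ∀ D D₁ : Subgroup G, A ≤ D → D ≤ M → D.relIndex M = p → K ≤ normalizer (D : Set G) →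
      A ≤ D₁ → D₁ ≤ M → D₁.relIndex M = p → K ≤ normalizer (D₁ : Set G) → D = D₁ := by
    intro D D₁ h1 h2 h3 h4 h5 h6 h7 h8
    by_contra hne
    have hc1 := comm_le_of_relIndex hKp h1 (h2.trans hMK) hKA h4 (hrelA D h1 h2 h3)
    have hc2 := comm_le_of_relIndex hKp h5 (h6.trans hMK) hKA h8 (hrelA D₁ h5 h6 h7)
    have hsup : D ⊔ D₁ = M := by
      rcases eq_of_le_of_relIndex_prime hp.out (le_sup_left : D ≤ D ⊔ D₁) (sup_le h2 h6) h3 with h9 | h9
      · exfalso
        have h10 : D₁ ≤ D := by rw [← h9]; exact le_sup_right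
        rcases eq_of_le_of_relIndex_prime hp.out h10 h2 h7 with h11 | h11
        · exact hne h11
        · rw [h11, Subgroup.relIndex_self] at h3
          exact hp.out.one_lt.ne h3
      · exact h9
    apply hKcomL
    intro x hx y hy
    have hyM : y ∈ D ⊔ D₁ := by rw [hsup]; exact hLM hy
    have hDD : D ≤ normalizer (D₁ : Set G) := (h2.trans hMK).trans h8
    have h9 := Subgroup.coe_mul_of_left_le_normalizer_right D D₁ hDD
    have h10 : y ∈ ((D ⊔ D₁ : Subgroup G) : Set G) := hyM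
    rw [h9] at h10
    obtain ⟨d, hd, d₁, hd₁, rfl⟩ := h10
    apply hAL
    change x * (d * d₁) * x⁻¹ * (d * d₁)⁻¹ ∈ A
    have e : x * (d * d₁) * x⁻¹ * (d * d₁)⁻¹ = (x * d * x⁻¹ * d⁻¹) *
        (d * (x * d₁ * x⁻¹ * d₁⁻¹) * d⁻¹) := by group
    rw [e]
    refine mul_mem (hc1 x hx d hd) ?_
    exact (mem_normalizer_iff.1 (hKA (hMK (h2 hd))) _).1 (hc2 x hx d₁ hd₁)
  obtain ⟨D, hD⟩ : ∃ D, D = M ⊓ cj g M := ⟨_, rfl⟩
  have hDD : D = M ⊓ cj g⁻¹ M := by
    rw [hD]
    exact huniq _ _ (hAD g hg) inf_le_left hDi hDn (hAD g⁻¹ (inv_mem hg)) inf_le_left hDi' hDn'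
  have hgD : cj g D = D := by
    rw [hDD, cj_inf, ← cj_mul, mul_inv_cancel, cj_one, inf_comm, ← hD, ← hDD]
  rw [← hD] at hDi hDn
  have hDM : D ≤ M := by rw [hD]; exact inf_le_left
  have hED : ¬ E ≤ D := by
    intro h1
    have h2 := hO.min D h1 (hDM.trans hMK) hDn
    rw [le_antisymm hDM h2, Subgroup.relIndex_self] at hDi
    exact hp.out.one_lt.ne hDi
  by_cases hZ : D ⊓ centralizer (D : Set G) ≤ centralizer (M : Set G)
  · -- first alternative
    have hUD : ⁅N, N⁆ ≤ D := by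
      have h1 : (D.subgroupOf M).index = p := hDi
      have h2 := H3.PBasic.normal_of_index hMp h1
      rw [commutator_le]
      intro x hx y hy
      have h4 : _root_.commutator M ≤ D.subgroupOf M := by
        have : IsMulCommutative (M ⧸ D.subgroupOf M) := by
          have hc : Nat.card (M ⧸ D.subgroupOf M) = p := by rw [← Subgroup.index_eq_card]; exact h1
          have := isCyclic_of_prime_card hc
          infer_instance
        rw [_root_.commutator_def, commutator_le]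
        intro a _ b _
        rw [← QuotientGroup.eq_one_iff]
        change QuotientGroup.mk' (D.subgroupOf M) ⁅a, b⁆ = 1
        rw [map_commutatorElement, commutatorElement_eq_one_iff_mul_comm]
        exact this.is_comm.comm _ _
      exact h4 (commutator_mem_commutator (mem_top (⟨x, hNM hx⟩ : M)) (mem_top (⟨y, hNM hy⟩ : M)))
    intro u hu
    have huM := hcom hu
    have huD := hUD hu
    rw [mem_centralizer_iff] at huM ⊢
    have hZu : g⁻¹ * u * g ∈ D ⊓ centralizer (D : Set G) := by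
      refine mem_inf.2 ⟨?_, ?_⟩
      · rw [← mem_cj, hgD]; exact huD
      · rw [mem_centralizer_iff]
        intro d hd
        have h1 : g * d * g⁻¹ ∈ D := by
          have := conj_mem_cj (g := g) hd
          rwa [hgD] at this
        have h2 := huM _ (hDM h1)
        have h3 : g⁻¹ * (g * d * g⁻¹ * u) * g = g⁻¹ * (u * (g * d * g⁻¹)) * g := by rw [h2]
        have e1 : g⁻¹ * (g * d * g⁻¹ * u) * g = d * (g⁻¹ * u * g) := by group
        have e2 : g⁻¹ * (u * (g * d * g⁻¹)) * g = (g⁻¹ * u * g) * d := by group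
        rwa [e1, e2] at h3
    have hZu' := mem_centralizer_iff.1 (hZ hZu)
    have huM' : ∀ x ∈ cj g M, x * u = u * x := by
      intro x hx
      rw [mem_cj] at hx
      have h2 := hZu' _ hx
      have h3 : g * (g⁻¹ * x * g * (g⁻¹ * u * g)) * g⁻¹ = g * (g⁻¹ * u * g * (g⁻¹ * x * g)) * g⁻¹ := by
        rw [h2]
      have e1 : g * (g⁻¹ * x * g * (g⁻¹ * u * g)) * g⁻¹ = x * u := by group
      have e2 : g * (g⁻¹ * u * g * (g⁻¹ * x * g)) * g⁻¹ = u * x := by group
      rwa [e1, e2] at h3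
    have h5 : K ≤ centralizer ({u} : Set G) := by
      rw [← hDs]
      refine sup_le ?_ ?_
      · intro x hx
        rw [mem_centralizer_singleton_iff]; exact huM x hx
      · intro x hx
        rw [mem_centralizer_singleton_iff]; exact huM' x hx
    intro x hx
    exact mem_centralizer_singleton_iff.1 (h5 hx)
  · -- second alternative
    have hMD : M ≤ normalizer (D : Set G) := hMK.trans hDn
    obtain ⟨l, hl, hlM, hl2⟩ := exists_second hMp (inf_le_left.trans hDM)
      (H1.Coprime2.le_normalizer_inf hMD (H1.Coprime2.le_normalizer_centralizer hMD)) hZ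
    obtain ⟨W, hW⟩ : ∃ W, W = closure {w : G | ∃ b ∈ D ⊓ centralizer (D : Set G),
      (∀ m ∈ M, ⁅b, m⁆ ∈ centralizer (M : Set G)) ∧ ∃ m ∈ M, w = ⁅b, m⁆} := ⟨_, rfl⟩
    have hMDE : ∀ m ∈ M, ∃ d ∈ D, ∃ e ∈ E, m = d * e := by
      have hsup : E ⊔ D = M := by
        rcases eq_of_le_of_relIndex_prime hp.out (le_sup_right : D ≤ E ⊔ D) (sup_le hO.le1 hDM) hDi with h9 | h9
        · exact absurd (by rw [← h9]; exact le_sup_left) hED
        · exact h9
      intro m hm
      have hm' : m⁻¹ ∈ ((E ⊔ D : Subgroup G) : Set G) := by rw [hsup]; exact inv_mem hm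
      rw [Subgroup.coe_mul_of_left_le_normalizer_right E D (hO.le1.trans hMD)] at hm'
      obtain ⟨e, he, d, hd, hed⟩ := hm'
      refine ⟨d⁻¹, inv_mem hd, e⁻¹, inv_mem he, ?_⟩
      have h1 : e * d = m⁻¹ := hed
      rw [← mul_inv_rev, h1, inv_inv]
    have hWU : W ≤ ⁅N, N⁆ := by
      rw [hW, closure_le]
      rintro _ ⟨b, hb, hb2, m, hm, rfl⟩
      obtain ⟨hbD, hbc⟩ := mem_inf.1 hb
      have hbN : b ∈ N := by
        apply hEnor b (hKQ (hMK (hDM hbD)))
        intro e he
        have h1 := mem_centralizer_iff.1 (hb2 e (hO.le1 he))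
        apply h.cen
        · have h2 := hKQ (hMK (hDM hbD))
          exact mul_mem (mul_mem (mul_mem h2 (h.le he)) (inv_mem h2)) (inv_mem (h.le he))
        · intro f hf
          have h3 := h1 f (hO.le1 hf)
          rw [commutatorElement_def] at h3
          exact h3.symm
      obtain ⟨d, hd, e, he, rfl⟩ := hMDE m hm
      have h1 : ⁅b, d * e⁆ = ⁅b, e⁆ := by
        have h2 : b * d = d * b := ((mem_centralizer_iff.1 hbc) d hd).symm
        have h3 := mem_centralizer_iff.1 (hb2 e (hO.le1 he)) d (hDM hd)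
        have h4 : ⁅b, d * e⁆ = (b * d * b⁻¹ * d⁻¹) * (d * ⁅b, e⁆ * d⁻¹) := by
          rw [commutatorElement_def, commutatorElement_def]; group
        rw [h4, h2, h3]; group
      rw [h1]
      exact commutator_mem_commutator hbN (hleN he)
    have hWb : W ≠ ⊥ := by
      intro h1
      apply hlM
      rw [mem_centralizer_iff]
      intro m hm
      have h2 : ⁅l, m⁆ ∈ W := by rw [hW]; exact Subgroup.subset_closure ⟨l, hl, hl2, m, hm, rfl⟩
      rw [h1, mem_bot, commutatorElement_eq_one_iff_mul_comm] at h2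
      exact h2.symm
    have hWeq : W = ⁅N, N⁆ := by
      have h1 : Nat.card W ∣ p := by rw [← hUc]; exact card_dvd_of_le hWU
      rcases (Nat.dvd_prime hp.out).1 h1 with h2 | h2
      · exact absurd (Subgroup.card_eq_one.1 h2) hWb
      · exact Subgroup.eq_of_le_of_card_ge hWU (by rw [hUc, h2])
    apply le_centralizer_of_card hKp hUK _ hUc
    rw [← hWeq]
    intro x hx
    apply Basic.mem_normalizer_of_conj
    intro w hw
    rw [hW] at hw ⊢
    have hxM := fun y (hy : y ∈ M) => (mem_normalizer_iff.1 (hKM hx) y).1 hy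
    have hxM' := fun y (hy : y ∈ M) => (mem_normalizer_iff''.1 (hKM hx) y).1 hy
    have hxD := fun y (hy : y ∈ D) => (mem_normalizer_iff.1 (hDn hx) y).1 hy
    have hxD' := fun y (hy : y ∈ D) => (mem_normalizer_iff''.1 (hDn hx) y).1 hy
    induction hw using Subgroup.closure_induction with
    | mem w hw =>
      obtain ⟨b, hb, hb2, m, hm, rfl⟩ := hw
      obtain ⟨hbD, hbc⟩ := mem_inf.1 hb
      apply Subgroup.subset_closure
      refine ⟨x * b * x⁻¹, mem_inf.2 ⟨hxD b hbD, ?_⟩, ?_, x * m * x⁻¹, hxM m hm, ?_⟩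
      · rw [mem_centralizer_iff]
        intro d hd
        have h1 := (mem_centralizer_iff.1 hbc) _ (hxD' d hd)
        have h3 : x * (x⁻¹ * d * x * b) * x⁻¹ = x * (b * (x⁻¹ * d * x)) * x⁻¹ := by rw [h1]
        have e1 : x * (x⁻¹ * d * x * b) * x⁻¹ = d * (x * b * x⁻¹) := by group
        have e2 : x * (b * (x⁻¹ * d * x)) * x⁻¹ = (x * b * x⁻¹) * d := by group
        rwa [e1, e2] at h3
      · intro m' hm'
        have h1 := mem_centralizer_iff.1 (hb2 _ (hxM' m' hm'))
        rw [mem_centralizer_iff]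
        intro y hy
        have h2 := h1 _ (hxM' y hy)
        have e0 : ⁅x * b * x⁻¹, m'⁆ = x * ⁅b, x⁻¹ * m' * x⁆ * x⁻¹ := by
          rw [commutatorElement_def, commutatorElement_def]; group
        rw [e0]
        have h3 : x * (x⁻¹ * y * x * ⁅b, x⁻¹ * m' * x⁆) * x⁻¹ =
          x * (⁅b, x⁻¹ * m' * x⁆ * (x⁻¹ * y * x)) * x⁻¹ := by rw [h2]
        have e1 : x * (x⁻¹ * y * x * ⁅b, x⁻¹ * m' * x⁆) * x⁻¹ = y * (x * ⁅b, x⁻¹ * m' * x⁆ * x⁻¹) := by
          group
        have e2 : x * (⁅b, x⁻¹ * m' * x⁆ * (x⁻¹ * y * x)) * x⁻¹ = x * ⁅b, x⁻¹ * m' * x⁆ * x⁻¹ * y := by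
          group
        rwa [e1, e2] at h3
      · rw [commutatorElement_def, commutatorElement_def]; group
    | one => rw [mul_one, mul_inv_cancel]; exact one_mem _
    | mul a b _ _ ha hb =>
      have e : x * (a * b) * x⁻¹ = (x * a * x⁻¹) * (x * b * x⁻¹) := by group
      rw [e]; exact mul_mem ha hb
    | inv a _ ha =>
      have e : x * a⁻¹ * x⁻¹ = (x * a * x⁻¹)⁻¹ := by group
      rw [e]; exact inv_mem ha

end H12.Soft
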