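import Cfsg.Agent.Lib.H12.Soft3
import Cfsg.Agent.Lib.H12.QuoT

/-! Soft subgroups of finite `p`-groups: the main induction. -/

set_option autoImplicit false

open Subgroup
open scoped commutatorElement Pointwise

namespace H12.Soft

open H12.ProSyl (cj mem_cj cj_mul cj_one cj_eq mem_normalizer_of_cj conj_mem_cj)
open H12.QuoT

universe u

theorem exists_pow_relIndex {G : Type*} [Group G] [Finite G] {p : ℕ} [hp : Fact p.Prime]
    {A B : Subgroup G} (hB : IsPGroup p B) : ∃ j, A.relIndex B = p ^ j := by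
  have h4 : A.relIndex B ∣ Nat.card B := Subgroup.relIndex_dvd_card _ _
  obtain ⟨m, hm⟩ := IsPGroup.iff_card.1 hB
  rw [hm] at h4
  obtain ⟨j, -, hj⟩ := (Nat.dvd_prime_pow hp.out).1 h4
  exact ⟨j, hj⟩

theorem dvd_relIndex {G : Type*} [Group G] [Finite G] {p : ℕ} [hp : Fact p.Prime]
    {A B : Subgroup G} (hB : IsPGroup p B) (h : ¬ B ≤ A) : p ∣ A.relIndex B := by
  obtain ⟨j, hj⟩ := exists_pow_relIndex (A := A) hB
  rw [hj]
  have hj0 : j ≠ 0 := by
    rintro rfl
    rw [pow_zero, Subgroup.relIndex_eq_one] at hj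
    exact h hj
  exact dvd_pow_self p hj0

theorem class_of_quot {G H : Type*} [Group G] [Group H] [Finite G] {Q K : Subgroup G} (f : ↥Q →* H)
    (hk : f.ker = (K ⊓ centralizer (K : Set G)).subgroupOf Q) (hf : Function.Surjective f)
    (hKQ : K ≤ Q) (hnil : Group.IsNilpotent K) (hnt : Nontrivial K) :
    Group.nilpotencyClass K = Group.nilpotencyClass (up f K) + 1 := by
  have hVK : K ⊓ centralizer (K : Set G) ≤ K := inf_le_left
  rw [Group.nilpotencyClass_eq_quotient_center_plus_one]
  congr 1
  let g0 : K →* up f K :=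
    { toFun := fun k => ⟨f ⟨k, hKQ k.2⟩, mem_up_of_mem f k.2⟩
      map_one' := Subtype.ext (by
        change f ⟨1, _⟩ = 1
        exact map_one f)
      map_mul' := fun a b => Subtype.ext (by
        change f ⟨a * b, _⟩ = f ⟨a, _⟩ * f ⟨b, _⟩
        rw [← map_mul]; rfl) }
  have hg0 : Function.Surjective g0 := by
    rintro ⟨y, q, hq, rfl⟩
    exact ⟨⟨q, mem_subgroupOf.1 hq⟩, rfl⟩
  have hker : g0.ker = center K := by
    ext k
    rw [MonoidHom.mem_ker, mem_center_iff]
    have h1 : g0 k = 1 ↔ f ⟨k, hKQ k.2⟩ = 1 := by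
      rw [Subtype.ext_iff]; rfl
    rw [h1, ← MonoidHom.mem_ker, hk, mem_subgroupOf, mem_inf, mem_centralizer_iff]
    constructor
    · rintro ⟨-, h2⟩ g
      exact Subtype.ext (h2 g g.2)
    · intro h2
      exact ⟨k.2, fun g hg => congrArg Subtype.val (h2 ⟨g, hg⟩)⟩
  have e : K ⧸ center K ≃* up f K :=
    (QuotientGroup.quotientMulEquivOfEq hker.symm).trans
      (QuotientGroup.quotientKerEquivOfSurjective g0 hg0)
  have hn2 : Group.IsNilpotent (K ⧸ center K) := inferInstance
  have hn3 : Group.IsNilpotent (up f K) := Group.nilpotent_of_surjective g0 hg0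
  apply le_antisymm
  · exact Group.nilpotencyClass_le_of_surjective e.symm.toMonoidHom e.symm.surjective
  · exact Group.nilpotencyClass_le_of_surjective e.toMonoidHom e.surjective

set_option maxHeartbeats 1000000 in
theorem main {p : ℕ} [hp : Fact p.Prime] (n : ℕ) : ∀ (G : Type u) [Group G] [Finite G]
    (Q E : Subgroup G), Nat.card Q ≤ n → Soft p Q E → ∃ K, Out p Q E K := by
  induction n with
  | zero =>
    intro G _ _ Q E hn h
    have := Nat.card_pos (α := Q)
    omega
  | succ n ih =>
    intro G _ _ Q E hn h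
    obtain ⟨K, hEK, hKQ, hKn, hmin⟩ := exists_K (Q := Q) h.le
    have hKE : E ≠ K := by
      intro h1
      apply h.N_ne
      rw [inf_eq_left, h1]
      exact hKn
    have hNK : Q ⊓ normalizer (E : Set G) ≤ K := h.N_le hEK hKQ hKE
    by_cases hKN : K = Q ⊓ normalizer (E : Set G)
    · refine ⟨Q ⊓ normalizer (E : Set G), case_one h ?_⟩
      rw [← hKN]; exact hKn
    have hEQ : E ≠ Q := by
      intro h1
      apply h.N_ne
      rw [inf_eq_left, h1]
      exact le_normalizer
    have hKQ' : K ≠ Q := by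
      obtain ⟨Y, hY1, hY2, hY3, hY4⟩ := exists_max h.pg h.le hEQ
      intro h1
      have h2 := hmin Y hY1 hY2 hY4
      rw [h1] at h2
      rw [le_antisymm hY2 h2, Subgroup.relIndex_self] at hY3
      exact hp.out.one_lt.ne hY3
    have hcard : ∀ X : Subgroup G, X ≤ Q → X ≠ Q → Nat.card X ≤ n := by
      intro X h1 h2
      have h3 : Nat.card X ≤ Nat.card Q := Subgroup.card_le_of_le h1
      have h4 : Nat.card X ≠ Nat.card Q := fun h5 => h2 (Subgroup.eq_of_le_of_card_ge h1 h5.ge)
      omega
    obtain ⟨hsoftK, hNKeq⟩ := h.restrict hNK hKQ hKN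
    obtain ⟨M, hM⟩ := ih G K E (hcard K hKQ hKQ') hsoftK
    have hcom := claim h hEK hKQ hKn hmin hKN hNK hM
    obtain ⟨-, -, hUc, -, -⟩ := h.structN
    have hNle := fun X : Subgroup G => h.N_le (X := X)
    have hNne := h.N_ne
    have hleN := h.leN
    have hneN := h.neN
    have hnor := h.nor
    have hrestr := fun X : Subgroup G => h.restrict (K := X)
    have hnormE : ∀ q ∈ Q, (∀ e ∈ E, q * e * q⁻¹ ∈ E) → q ∈ Q ⊓ normalizer (E : Set G) :=
      fun q hq he => mem_inf.2 ⟨hq, Basic.mem_normalizer_of_conj he⟩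
    obtain ⟨N, hN⟩ : ∃ N, N = Q ⊓ normalizer (E : Set G) := ⟨_, rfl⟩
    rw [← hN] at hNK hKN hcom hUc hNne hleN hneN hnor hnormE
    have hNQ : N ≤ Q := hNK.trans hKQ
    obtain ⟨V, hV⟩ : ∃ V, V = K ⊓ centralizer (K : Set G) := ⟨_, rfl⟩
    have hVK : V ≤ K := by rw [hV]; exact inf_le_left
    have hVQ : V ≤ Q := hVK.trans hKQ
    have hVE : V ≤ E := by
      intro v hv
      rw [hV] at hv
      obtain ⟨h1, h2⟩ := mem_inf.1 hv
      exact h.cen v (hKQ h1) (fun e he => (mem_centralizer_iff.1 h2 e (hEK he)).symm)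
    have hVN : V ≤ N := hVE.trans hleN
    have hVn : Q ≤ normalizer (V : Set G) := by
      rw [hV]
      exact H1.Coprime2.le_normalizer_inf hKn (H1.Coprime2.le_normalizer_centralizer hKn)
    have hUV : ⁅N, N⁆ ≤ V := by
      rw [hV]
      exact le_inf ((commutator_le_self N).trans hNK) hcom
    have hVb : V ≠ ⊥ := by
      intro h1
      rw [h1, le_bot_iff] at hUV
      rw [hUV, card_bot] at hUc
      exact hp.out.one_lt.ne hUc
    have hnorm : (V.subgroupOf Q).Normal := by
      rw [normal_subgroupOf_iff_le_normalizer hVQ]; exact hVn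
    obtain ⟨f, hf0⟩ : ∃ f, f = QuotientGroup.mk' (V.subgroupOf Q) := ⟨_, rfl⟩
    have hf : Function.Surjective f := by rw [hf0]; exact QuotientGroup.mk'_surjective _
    have hk : f.ker = V.subgroupOf Q := by rw [hf0]; exact QuotientGroup.ker_mk' _
    have hcardH : Nat.card (⊤ : Subgroup (Q ⧸ V.subgroupOf Q)) ≤ n := by
      rw [Subgroup.card_top, ← Subgroup.index_eq_card]
      have h1 := Subgroup.card_mul_index (V.subgroupOf Q)
      have h2 : 1 < Nat.card (V.subgroupOf Q) := by
        rw [Basic.card_subgroupOf hVQ]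
        exact (Subgroup.one_lt_card_iff_ne_bot _).2 hVb
      have h3 : 0 < (V.subgroupOf Q).index := Nat.pos_of_ne_zero Subgroup.index_ne_zero_of_finite
      nlinarith
    have hpH : IsPGroup p (⊤ : Subgroup (Q ⧸ V.subgroupOf Q)) := by
      have h1 : IsPGroup p (Q ⧸ V.subgroupOf Q) := h.pg.of_surjective f hf
      exact h1.to_subgroup ⊤
    -- the normalizer of N
    have hRQ : Q ⊓ normalizer (N : Set G) ≠ Q := by
      intro h1
      rw [inf_eq_left] at h1
      apply hKN
      exact le_antisymm (hmin N hleN hNQ h1) hNK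
    have hNR : N ≤ Q ⊓ normalizer (N : Set G) := le_inf hNQ le_normalizer
    have hNRne : Q ⊓ normalizer (N : Set G) ≠ N := by
      have h1 := lt_inf_normalizer h.pg hNQ hNne
      exact h1.ne'
    have hNRi : N.relIndex (Q ⊓ normalizer (N : Set G)) = p := by
      obtain ⟨hs, he⟩ := hrestr (Q ⊓ normalizer (N : Set G)) (by rw [← hN]; exact hNR) inf_le_left
        (by rw [← hN]; exact hNRne)
      obtain ⟨KR, hKR⟩ := ih G _ E (hcard _ inf_le_left hRQ) hs
      have h1 : KR ≤ N := hKR.min N hleN hNR inf_le_right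
      have h2 : KR ≠ E := by
        intro h3
        have h4 := hKR.nrm
        rw [h3] at h4
        have h5 : (Q ⊓ normalizer (N : Set G)) ⊓ normalizer (E : Set G) = Q ⊓ normalizer (N : Set G) :=
          inf_eq_left.2 h4
        rw [he, ← hN] at h5
        exact hNRne h5.symm
      rcases eq_of_le_of_relIndex_prime hp.out hKR.le1 h1 hnor with h3 | h3
      · exact absurd h3 h2
      · have h4 := hKR.idx
        rwa [h3] at h4
    have hsoftH : Soft p (⊤ : Subgroup (Q ⧸ V.subgroupOf Q)) (up f N) := by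
      refine ⟨hpH, le_top, ?_, ?_, ?_, ?_⟩
      · rintro _ ⟨a, ha, rfl⟩ _ ⟨b, hb, rfl⟩
        rw [← commutatorElement_eq_one_iff_mul_comm, ← map_commutatorElement, ← MonoidHom.mem_ker, hk,
          mem_subgroupOf]
        exact hUV (commutator_mem_commutator (mem_subgroupOf.1 ha) (mem_subgroupOf.1 hb))
      · intro x _ hx
        obtain ⟨q, rfl⟩ := hf x
        apply mem_up_of_mem
        apply hnormE q q.2
        intro e he
        have h1 := hx (f ⟨e, h.le he⟩) (mem_up_of_mem f (hleN he))
        rw [← commutatorElement_eq_one_iff_mul_comm, ← map_commutatorElement, ← MonoidHom.mem_ker, hk,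
          mem_subgroupOf] at h1
        have h2 := mul_mem (hVE h1) he
        have e1 : ((⁅q, (⟨e, h.le he⟩ : Q)⁆ : Q) : G) * e = q * e * (q : G)⁻¹ := by
          rw [commutatorElement_def]
          change (q : G) * e * (q : G)⁻¹ * e⁻¹ * e = _
          group
        rwa [e1] at h2
      · rw [top_inf_eq, up_normalizer hk hf hVN hNQ, relIndex_up hVQ hk hVN hNQ (hVN.trans hNR)
          inf_le_left, hNRi]
      · rw [← up_top hf, relIndex_up hVQ hk hVN hNQ hVQ le_rfl,
          ← Subgroup.relIndex_mul_relIndex N _ Q hNR inf_le_left, hNRi, sq]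
        apply Nat.mul_dvd_mul_left
        apply dvd_relIndex h.pg
        intro h1
        exact hRQ (le_antisymm inf_le_left h1)
    obtain ⟨K', hK'⟩ := ih (Q ⧸ V.subgroupOf Q) ⊤ (up f N) hcardH hsoftH
    have hK'eq : K' = up f K := by
      apply le_antisymm
      · apply hK'.min _ (up_mono hNK) le_top
        rw [up_normalizer hk hf hVK hKQ, inf_eq_left.2 hKn, up_top hf]
      · have h1 : K ≤ dn f K' := by
          apply hmin _ _ (dn_le _)
          · apply le_normalizer_dn
            rw [eq_top_iff]; exact hK'.nrm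
          · refine hleN.trans ?_
            rw [← dn_up hk hVN hNQ]
            exact dn_mono hK'.le1
        rw [← up_dn hf K']
        exact up_mono h1
    have hidx : K.relIndex Q = p := by
      rw [← relIndex_up hVQ hk hVK hKQ hVQ le_rfl, ← hK'eq, up_top hf]
      exact hK'.idx
    have hKp := h.pg.to_le hKQ
    refine ⟨K, hEK, hKQ, hKn, hidx, uniq_of h.pg hKQ hidx hmin, hmin, ?_, ?_, ?_⟩
    · intro i hi
      have hnil : Group.IsNilpotent K := hKp.isNilpotent
      have hnt : Nontrivial K := by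
        rw [nontrivial_iff_ne_bot]
        intro h1
        apply hVb
        rw [h1, le_bot_iff] at hVK
        exact hVK
      rw [class_of_quot f (by rw [hk, hV]) hf hKQ hnil hnt]
      have h1 := Subgroup.relIndex_mul_relIndex E N K hleN hNK
      rw [hnor, hi] at h1
      have hi0 : i ≠ 0 := by
        rintro rfl
        rw [pow_zero] at h1
        have := Nat.eq_one_of_mul_eq_one_right h1
        exact hp.out.one_lt.ne' this
      obtain ⟨j, rfl⟩ := Nat.exists_eq_succ_of_ne_zero hi0
      rw [pow_succ', Nat.mul_right_inj hp.out.ne_zero] at h1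
      have h2 := hK'.cls j (by rw [hK'eq, relIndex_up hVQ hk hVN hNQ hVK hKQ, h1])
      rw [hK'eq] at h2
      rw [h2]
    · rw [← hN]; exact hcom
    · intro L hEL hLK hL
      have hLE : E ≠ L := by
        intro h1
        rw [← h1] at hL
        rcases eq_of_le_of_relIndex_prime hp.out hleN hNK hL with h2 | h2
        · exact hneN h2.symm
        · exact hKN h2.symm
      have hNL : N ≤ L := by rw [hN]; exact hNle L hEL (hLK.trans hKQ) hLE
      have hVL := hVN.trans hNL
      have hLQ := hLK.trans hKQ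
      obtain ⟨A', hA1, hA2, hA3⟩ := hK'.core (up f L) (up_mono hNL) (by rw [hK'eq]; exact up_mono hLK)
        (by rw [hK'eq, relIndex_up hVQ hk hVL hLQ hVK hKQ, hL])
      refine ⟨dn f A', ?_, ?_, ?_⟩
      · rw [← dn_up hk hVL hLQ]; exact dn_mono hA1
      · apply le_normalizer_dn
        rw [eq_top_iff]; exact hA2
      · rw [← relIndex_up hVQ hk (le_dn hVQ hk A') (dn_le _) hVK hKQ, up_dn hf, ← hK'eq]
        exact hA3

theorem class_eq_one {X : Type*} [Group X] [hn : Nontrivial X] (h : ∀ a b : X, a * b = b * a) :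
    Group.nilpotencyClass X = 1 := by
  have hnil : Group.IsNilpotent X := by
    rw [Subgroup.nilpotent_iff_lowerCentralSeries]
    refine ⟨1, ?_⟩
    rw [Subgroup.lowerCentralSeries_one, _root_.commutator_def, commutator_eq_bot_iff_le_centralizer]
    intro x _
    rw [mem_centralizer_iff]
    intro y _
    exact h y x
  have h3 : Group.nilpotencyClass X ≤ 1 := by
    rw [← _root_.lowerCentralSeries_eq_bot_iff_nilpotencyClass_le]
    rw [Subgroup.lowerCentralSeries_one, _root_.commutator_def, commutator_eq_bot_iff_le_centralizer]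
    intro x _
    rw [mem_centralizer_iff]
    intro y _
    exact h y x
  have h4 : Group.nilpotencyClass X ≠ 0 := by
    intro h0
    rw [Group.nilpotencyClass_zero_iff_subsingleton] at h0
    exact not_subsingleton X h0
  omega

theorem steps {p : ℕ} [hp : Fact p.Prime] {G : Type u} [Group G] [Finite G] {E : Subgroup G}
    (n : ℕ) : ∀ (Q : Subgroup G), Nat.card Q ≤ n → Soft p Q E → ∀ R : Subgroup G, E ≤ R → R ≤ Q →
      R ≠ Q → R.relIndex (Q ⊓ normalizer (R : Set G)) = p ∧
        ∀ i, E.relIndex R = p ^ i → Group.nilpotencyClass R = i + 1 := by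
  induction n with
  | zero =>
    intro Q hn h
    have := Nat.card_pos (α := Q)
    omega
  | succ n ih =>
    intro Q hn h R hER hRQ hne
    obtain ⟨K, hK⟩ := main _ G Q E le_rfl h
    have hRK := hK.uniq R hER hRQ hne
    by_cases hR : R = K
    · rw [hR, inf_eq_left.2 hK.nrm]
      exact ⟨hK.idx, hK.cls⟩
    have hQR : Q ⊓ normalizer (R : Set G) ≠ Q := by
      intro h1
      rw [inf_eq_left] at h1
      exact hR (le_antisymm hRK (hK.min R hER hRQ h1))
    have hQRK : Q ⊓ normalizer (R : Set G) ≤ K :=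
      hK.uniq _ (le_inf h.le (hER.trans le_normalizer)) inf_le_left hQR
    have heq : Q ⊓ normalizer (R : Set G) = K ⊓ normalizer (R : Set G) :=
      le_antisymm (le_inf hQRK inf_le_right) (inf_le_inf_right _ hK.le2)
    have hKQ : K ≠ Q := by
      intro h1
      have h2 := hK.idx
      rw [h1, Subgroup.relIndex_self] at h2
      exact hp.out.one_lt.ne h2
    have hKE : E ≠ K := by
      intro h1
      exact hR (le_antisymm hRK (h1 ▸ hER))
    have hNK := h.N_le hK.le1 hK.le2 hKE
    by_cases hKN : K = Q ⊓ normalizer (E : Set G)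
    · have hRE : R = E := by
        rcases eq_of_le_of_relIndex_prime hp.out hER (hKN ▸ hRK) h.nor with h1 | h1
        · exact h1
        · exact absurd (h1.trans hKN.symm) hR
      rw [hRE]
      refine ⟨h.nor, fun i hi => ?_⟩
      rw [Subgroup.relIndex_self] at hi
      have hi0 : i = 0 := by
        by_contra h0
        exact (Nat.one_lt_pow h0 hp.out.one_lt).ne hi
      rw [hi0, zero_add]
      have hEb : E ≠ ⊥ := by
        intro h1
        apply h.neN
        apply le_antisymm h.leN
        intro x hx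
        apply h.cen x (mem_inf.1 hx).1
        intro e he
        rw [h1, mem_bot] at he
        rw [he, mul_one, one_mul]
      have : Nontrivial E := (nontrivial_iff_ne_bot E).2 hEb
      exact class_eq_one (fun a b => Subtype.ext (h.comm a a.2 b b.2))
    · have hc : Nat.card K ≤ n := by
        have h3 : Nat.card K ≤ Nat.card Q := Subgroup.card_le_of_le hK.le2
        have h4 : Nat.card K ≠ Nat.card Q :=
          fun h5 => hKQ (Subgroup.eq_of_le_of_card_ge hK.le2 h5.ge)
        omega
      rw [heq]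
      exact ih K hc (h.restrict hNK hK.le2 hKN).1 R hER hRK hR

theorem total {p : ℕ} [hp : Fact p.Prime] {G : Type u} [Group G] [Finite G] {Q E : Subgroup G}
    (h : Soft p Q E) (K L : Subgroup G) (hEK : E ≤ K) (hEL : E ≤ L) (hKQ : K ≤ Q) (hLQ : L ≤ Q) :
    K ≤ L ∨ L ≤ K := by
  by_contra hcon
  push Not at hcon
  obtain ⟨h1, h2⟩ := hcon
  have hD1 : K ⊓ L ≠ K := fun h3 => h1 (inf_eq_left.1 h3)
  have hD2 : K ⊓ L ≠ L := fun h3 => h2 (inf_eq_right.1 h3)
  have hDQ : K ⊓ L ≠ Q := by
    intro h3
    apply hD1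
    apply le_antisymm inf_le_left
    rw [h3]; exact hKQ
  have h3 := (steps _ Q le_rfl h (K ⊓ L) (le_inf hEK hEL) (inf_le_left.trans hKQ) hDQ).1
  have key : ∀ X : Subgroup G, K ⊓ L ≤ X → X ≤ Q → K ⊓ L ≠ X →
      Q ⊓ normalizer ((K ⊓ L : Subgroup G) : Set G) ≤ X := by
    intro X hX hXQ hXne
    have h4 := lt_inf_normalizer (h.pg.to_le hXQ) hX hXne
    rcases eq_of_le_of_relIndex_prime hp.out h4.le (inf_le_inf_right _ hXQ) h3 with h5 | h5
    · exact absurd h5 h4.ne'
    · rw [← h5]; exact inf_le_left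
  have h4 := le_inf (key K inf_le_left hKQ hD1) (key L inf_le_right hLQ hD2)
  have h5 : K ⊓ L = Q ⊓ normalizer ((K ⊓ L : Subgroup G) : Set G) :=
    le_antisymm (le_inf (inf_le_left.trans hKQ) le_normalizer) h4
  rw [← h5, Subgroup.relIndex_self] at h3
  exact hp.out.one_lt.ne h3

end H12.Soft
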