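import Cfsg.Agent.Lib.H12.FixBound
import Cfsg.Agent.Lib.H13.CoprimeHyper
import Cfsg.Agent.Lib.H12.NilpHall
import Cfsg.Agent.Lib.H1.Coprime2

/-! S2277: a Baer-Suzuki type criterion for coprime action. -/

set_option autoImplicit false

open Subgroup
open scoped commutatorElement Pointwise

namespace H12.TwoGen

variable {G : Type*} [Group G] [Finite G] {p : ℕ} [hp : Fact p.Prime]

/-- the fixed points factorise -/
theorem factor {P N : Subgroup G} (hP : IsPGroup p P) (hN : (Nat.card N).Coprime p)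
    (hPN : P ≤ normalizer (N : Set G)) {c d x : G} (hc : c ∈ P) (hd : d ∈ P) (hx : x ∈ N)
    (h : IsPGroup p ↥(closure ({x * c * x⁻¹, d} : Set G))) :
    ∃ w ∈ N, w * d = d * w ∧ ∃ u ∈ N, u * c = c * u ∧ x = w * u := by
  obtain ⟨Q, hQ⟩ : ∃ Q, Q = closure ({c, d} : Set G) := ⟨_, rfl⟩
  have hQP : Q ≤ P := by
    rw [hQ, closure_le]
    rintro y (rfl | rfl)
    · exact hc
    · exact hd
  have hQN : Q ≤ normalizer (N : Set G) := hQP.trans hPN
  have hcQ : c ∈ Q := by rw [hQ]; exact subset_closure (Or.inl rfl)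
  have hdQ : d ∈ Q := by rw [hQ]; exact subset_closure (Or.inr rfl)
  have hPNb : P ⊓ N = ⊥ := by
    obtain ⟨k, hk⟩ := IsPGroup.iff_card.1 hP
    exact H1.Coprime.inf_eq_bot_of_coprime_card (by
      rw [hk]; exact (Nat.Coprime.pow_right k hN).symm)
  -- Q is Sylow in N ⊔ Q
  have hrel : ¬ p ∣ Q.relIndex (N ⊔ Q) := by
    have h1 : Nat.card (N ⊔ Q : Subgroup G) = Nat.card N * Nat.card Q := by
      have h2 := H1.Coprime.relIndex_sup_of_disjoint (A := Q) (D := N) hQN
        (by rw [eq_bot_iff, ← hPNb]; exact inf_le_inf_right N hQP)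
      rw [← h2]
      exact (Basic.card_mul_relIndex le_sup_left).symm
    have h3 : Nat.card Q * Q.relIndex (N ⊔ Q) = Nat.card Q * Nat.card N := by
      rw [Basic.card_mul_relIndex le_sup_right, h1, mul_comm]
    rw [Nat.eq_of_mul_eq_mul_left Nat.card_pos h3]
    exact (Nat.Prime.coprime_iff_not_dvd hp.out).1 hN.symm
  have hK : closure ({x * c * x⁻¹, d} : Set G) ≤ N ⊔ Q := by
    rw [closure_le]
    rintro y (rfl | rfl)
    · exact mul_mem (mul_mem (le_sup_left (a := N) hx) (le_sup_right (a := N) hcQ))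
        (inv_mem (le_sup_left (a := N) hx))
    · exact le_sup_right (a := N) hdQ
  obtain ⟨g, hg, hgK⟩ := NilpHall.exists_conj_le (hP.to_le hQP) le_sup_right hrel h hK
  -- write g = w * q
  obtain ⟨w, hw, q, hq, rfl⟩ : ∃ w ∈ N, ∃ q ∈ Q, g = w * q := by
    have h1 : g ∈ Q ⊔ N := by rw [sup_comm]; exact hg
    have h2 := Subgroup.coe_mul_of_left_le_normalizer_right Q N hQN
    have h3 : g ∈ ((Q ⊔ N : Subgroup G) : Set G) := h1
    rw [h2] at h3
    obtain ⟨q, hq, n, hn, rfl⟩ := h3
    exact ⟨q * n * q⁻¹, (mem_normalizer_iff.1 (hQN hq) n).1 hn, q, hq, by group⟩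
  have hmem : ∀ y ∈ closure ({x * c * x⁻¹, d} : Set G), w⁻¹ * y * w ∈ Q := by
    intro y hy
    have h1 := hgK hy
    rw [Basic.mem_conj_smul] at h1
    have h2 := mul_mem (mul_mem hq h1) (inv_mem hq)
    have h3 : q * ((w * q)⁻¹ * y * (w * q)) * q⁻¹ = w⁻¹ * y * w := by group
    rwa [h3] at h2
  -- an element of `Q` congruent to `e ∈ Q` modulo `N` is `e`
  have hkey : ∀ e ∈ Q, ∀ y, y ∈ Q → y * e⁻¹ ∈ N → y = e := by
    intro e he y hy hye
    have h1 : y * e⁻¹ ∈ P ⊓ N := mem_inf.2 ⟨hQP (mul_mem hy (inv_mem he)), hye⟩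
    rw [hPNb, mem_bot] at h1
    exact mul_inv_eq_one.1 h1
  have hd' : w⁻¹ * d * w = d := by
    apply hkey d hdQ _ (hmem d (subset_closure (Or.inr rfl)))
    have h1 : w⁻¹ * d * w * d⁻¹ = w⁻¹ * (d * w * d⁻¹) := by group
    rw [h1]
    exact mul_mem (inv_mem hw) ((mem_normalizer_iff.1 (hPN hd) w).1 hw)
  have hc' : w⁻¹ * (x * c * x⁻¹) * w = c := by
    apply hkey c hcQ _ (hmem _ (subset_closure (Or.inl rfl)))
    have h1 : w⁻¹ * (x * c * x⁻¹) * w * c⁻¹ = (w⁻¹ * x) * (c * (x⁻¹ * w) * c⁻¹) := by group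
    rw [h1]
    exact mul_mem (mul_mem (inv_mem hw) hx)
      ((mem_normalizer_iff.1 (hPN hc) _).1 (mul_mem (inv_mem hx) hw))
  refine ⟨w, hw, ?_, w⁻¹ * x, mul_mem (inv_mem hw) hx, ?_, by group⟩
  · calc w * d = w * (w⁻¹ * d * w) := by rw [hd']
      _ = d * w := by group
  · calc w⁻¹ * x * c = (w⁻¹ * (x * c * x⁻¹) * w) * (w⁻¹ * x) := by group
      _ = c * (w⁻¹ * x) := by rw [hc']

theorem main (hp2 : p ≠ 2) {P N : Subgroup G} (hP : IsPGroup p P) (hN : (Nat.card N).Coprime p)
    (hPN : P ≤ normalizer (N : Set G)) (C D : Set G) (hC : closure C = P) (hD : closure D = P)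
    (h : ∀ x ∈ N, ∀ c ∈ C, ∀ d ∈ D, IsPGroup p ↥(closure ({x * c * x⁻¹, d} : Set G))) :
    ⁅N, P⁆ = ⊥ := by
  have hCP : C ⊆ P := by rw [← hC]; exact subset_closure
  have hDP : D ⊆ P := by rw [← hD]; exact subset_closure
  have hPs : Group.IsSolvable P := by
    have := hP.isNilpotent
    infer_instance
  obtain ⟨kP, hkP⟩ := IsPGroup.iff_card.1 hP
  have hcopl : ∀ R : Subgroup G, R ≤ N → (Nat.card R).Coprime p := fun R hR =>
    Nat.Coprime.coprime_dvd_left (card_dvd_of_le hR) hN
  have hcop : ∀ R : Subgroup G, R ≤ N → (Nat.card P).Coprime (Nat.card R) := fun R hR => by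
    rw [hkP]; exact (Nat.Coprime.pow_right kP (hcopl R hR)).symm
  apply H13.CoprimeHyper.comm_eq_bot_of_invariant_sylow hP hN hPN
  intro r hr S hSP
  by_contra hne
  have hrf := Fact.mk hr
  -- minimal P-invariant subgroup not centralized by P
  obtain ⟨R, ⟨hRS, hRP, hRne⟩, hRmin⟩ := (Set.toFinite {R : Subgroup G |
    R ≤ (S : Subgroup N).map N.subtype ∧ P ≤ normalizer (R : Set G) ∧ ⁅R, P⁆ ≠ ⊥}).exists_minimal
      ⟨_, le_rfl, hSP, hne⟩
  have hRN : R ≤ N := hRS.trans (map_subtype_le _)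
  have hRr : IsPGroup r R := (S.2.map N.subtype).to_le hRS
  have hmin : ∀ L : Subgroup G, L ≤ R → P ≤ normalizer (L : Set G) → L ≠ R → ⁅L, P⁆ = ⊥ := by
    intro L hL hLP hLR
    by_contra hcon
    exact hLR (le_antisymm hL (hRmin ⟨hL.trans hRS, hLP, hcon⟩ hL))
  have hRRP : ⁅R, P⁆ = R := by
    by_contra hcon
    have h1 := hmin ⁅R, P⁆ (H1.Coprime2.commutator_le_left hRP)
      (H1.Coprime2.le_normalizer_commutator_right R P) hcon
    exact hRne (H1.Coprime2.commutator_eq_bot_of P R hRP (hcop R hRN) (Or.inl hPs) h1)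
  -- the action on the abelianization
  let φ : P →* MulAut (Abelianization R) := H13.CoprimeHyper.abAct hRP
  have hφ : ∀ (a : P) (x : R), φ a (Abelianization.of x) =
      Abelianization.of ⟨a * x * (a : G)⁻¹, H1.Coprime.conj_mem_of_le_normalizer hRP a.2 x.2⟩ :=
    fun a x => H13.CoprimeHyper.abAct_of hRP a x
  obtain ⟨Γ, hΓ⟩ : ∃ Γ, Γ = φ.range := ⟨_, rfl⟩
  have hΓp : IsPGroup p Γ := by
    rw [hΓ]
    exact hP.of_surjective φ.rangeRestrict φ.rangeRestrict_surjective
  have hofs : Function.Surjective (Abelianization.of : R →* Abelianization R) :=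
    QuotientGroup.mk'_surjective _
  have hVcop : (Nat.card (Abelianization R)).Coprime p :=
    Nat.Coprime.coprime_dvd_left (Subgroup.card_quotient_dvd_card _) (hcopl R hRN)
  have hVfin : Finite (Abelianization R) := Finite.of_surjective _ hofs
  -- fixed points of Γ are trivial
  have hfix1 : ∀ v : Abelianization R, (∀ g ∈ Γ, g v = v) → v = 1 := by
    classical
    have : Fintype Γ := Fintype.ofFinite Γ
    let Nm : Abelianization R →* Abelianization R :=
      { toFun := fun v => ∏ g : Γ, (g : MulAut _) v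
        map_one' := by simp
        map_mul' := fun v w => by
          rw [← Finset.prod_mul_distrib]
          exact Finset.prod_congr rfl fun k _ => map_mul _ _ _ }
    have hNm : ∀ v, Nm v = ∏ g : Γ, (g : MulAut _) v := fun v => rfl
    have hNinv : ∀ (g : Γ) v, Nm ((g : MulAut _) v) = Nm v := by
      intro g v
      rw [hNm, hNm]
      exact Fintype.prod_equiv (Equiv.mulRight g) _ _ (fun k => by
        rw [Equiv.coe_mulRight, Subgroup.coe_mul, MulAut.mul_apply])
    have hN1 : ∀ x : R, Nm (Abelianization.of x) = 1 := by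
      have h1 : ∀ y ∈ ⁅R, P⁆, ∀ hy : y ∈ R, Nm (Abelianization.of ⟨y, hy⟩) = 1 := by
        intro y hy
        rw [Subgroup.commutator_comm] at hy
        induction hy using Subgroup.closure_induction with
        | mem y hy' =>
          obtain ⟨a, ha, x, hx, rfl⟩ := hy'
          intro hyR
          have e1 : (⟨⁅a, x⁆, hyR⟩ : R) = ⟨a * x * a⁻¹, H1.Coprime.conj_mem_of_le_normalizer hRP ha hx⟩ * ⟨x, hx⟩⁻¹ :=
            Subtype.ext rfl
          rw [e1, map_mul, map_mul, map_inv, map_inv]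
          have e2 := hφ ⟨a, ha⟩ ⟨x, hx⟩
          rw [← e2]
          have e3 := hNinv ⟨φ ⟨a, ha⟩, by rw [hΓ]; exact ⟨_, rfl⟩⟩ (Abelianization.of ⟨x, hx⟩)
          rw [e3, mul_inv_cancel]
        | one =>
          intro hyR
          have : (⟨1, hyR⟩ : R) = 1 := rfl
          rw [this, map_one, map_one]
        | mul y z hy hz ihy ihz =>
          intro hyR
          have hyR' : y ∈ R := by
            have := Subgroup.commutator_comm R P
            rw [← hRRP, this]; exact hy
          have hzR' : z ∈ R := by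
            have := Subgroup.commutator_comm R P
            rw [← hRRP, this]; exact hz
          have : (⟨y * z, hyR⟩ : R) = ⟨y, hyR'⟩ * ⟨z, hzR'⟩ := rfl
          rw [this, map_mul, map_mul, ihy hyR', ihz hzR', one_mul]
        | inv y hy ihy =>
          intro hyR
          have hyR' : y ∈ R := by
            have := Subgroup.commutator_comm R P
            rw [← hRRP, this]; exact hy
          have : (⟨y⁻¹, hyR⟩ : R) = ⟨y, hyR'⟩⁻¹ := rfl
          rw [this, map_inv, map_inv, ihy hyR', inv_one]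
      intro x
      exact h1 x (by rw [hRRP]; exact x.2) x.2
    intro v hv
    have h2 : Nm v = v ^ Nat.card Γ := by
      rw [hNm, Finset.prod_congr rfl (fun (g : Γ) _ => hv (g : MulAut _) (SetLike.coe_mem g)),
        Finset.prod_const, Finset.card_univ, Nat.card_eq_fintype_card]
    obtain ⟨x, rfl⟩ := hofs v
    rw [hN1] at h2
    obtain ⟨j, hj⟩ := IsPGroup.iff_card.1 hΓp
    have h3 : orderOf (Abelianization.of x) ∣ p ^ j := by
      rw [← hj]; exact orderOf_dvd_of_pow_eq_one h2.symm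
    have h4 : orderOf (Abelianization.of x) ∣ Nat.card (Abelianization R) := _root_.orderOf_dvd_natCard _
    exact orderOf_eq_one_iff.1 (Nat.eq_one_of_dvd_coprimes (Nat.Coprime.pow_right j hVcop) h4 h3)
  -- irreducibility
  have hirr : ∀ W : Subgroup (Abelianization R), (∀ g ∈ Γ, ∀ w ∈ W, g w ∈ W) → W = ⊥ ∨ W = ⊤ := by
    intro W hW
    by_cases hWt : W = ⊤
    · exact Or.inr hWt
    left
    obtain ⟨L, hL⟩ : ∃ L, L = (W.comap Abelianization.of).map R.subtype := ⟨_, rfl⟩
    have hLR : L ≤ R := by rw [hL]; exact map_subtype_le _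
    have hLmem : ∀ x : R, (x : G) ∈ L ↔ Abelianization.of x ∈ W := by
      intro x
      rw [hL]
      constructor
      · rintro ⟨y, hy, e⟩
        have : y = x := Subtype.ext e
        rw [← this]; exact hy
      · exact fun hx => ⟨x, hx, rfl⟩
    have hLP : P ≤ normalizer (L : Set G) := by
      apply H1.Coprime.le_normalizer_of_conj_mem
      intro a ha x hx
      have h1 := (hLmem ⟨x, hLR hx⟩).1 hx
      have h2 := hW (φ ⟨a, ha⟩) (by rw [hΓ]; exact ⟨_, rfl⟩) _ h1
      rw [hφ ⟨a, ha⟩ ⟨x, hLR hx⟩] at h2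
      exact (hLmem _).2 h2
    have hLne : L ≠ R := by
      intro h1
      apply hWt
      rw [eq_top_iff]
      intro v _
      obtain ⟨x, rfl⟩ := hofs v
      rw [← hLmem, h1]
      exact x.2
    have h1 := hmin L hLR hLP hLne
    rw [eq_bot_iff]
    intro w hw
    rw [mem_bot]
    apply hfix1
    intro g hg
    rw [hΓ] at hg
    obtain ⟨a, rfl⟩ := hg
    obtain ⟨x, rfl⟩ := hofs w
    rw [hφ a x]
    congr 1
    apply Subtype.ext
    change (a : G) * x * (a : G)⁻¹ = x
    have h2 : ⁅(x : G), (a : G)⁆ ∈ ⁅L, P⁆ := commutator_mem_commutator ((hLmem x).2 hw) a.2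
    rw [h1, mem_bot, commutatorElement_eq_one_iff_mul_comm] at h2
    rw [← h2, mul_inv_cancel_right]
  -- Γ ≠ ⊥
  have hΓne : Γ ≠ ⊥ := by
    intro h1
    apply hRne
    have h2 : ∀ v : Abelianization R, v = 1 := by
      intro v
      apply hfix1
      intro g hg
      rw [h1, mem_bot] at hg
      rw [hg, MulAut.one_apply]
    have h3 : R ≤ ⁅R, R⁆ := by
      intro x hx
      have h4 := h2 (Abelianization.of ⟨x, hx⟩)
      have h5 : (⟨x, hx⟩ : R) ∈ _root_.commutator R := (QuotientGroup.eq_one_iff _).1 h4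
      have h6 : (_root_.commutator R).map R.subtype = ⁅R, R⁆ := by
        rw [_root_.commutator_def, Subgroup.map_commutator, ← MonoidHom.range_eq_map,
          Subgroup.range_subtype]
      rw [← h6]
      exact ⟨_, h5, rfl⟩
    by_contra hRb
    have hRb' : R ≠ ⊥ := by
      rintro rfl
      apply hRb
      rw [Subgroup.commutator_bot_left]
    exact (H1.Coprime2.commutator_lt_of_isPGroup hRr hRr le_normalizer hRb').not_ge h3
  -- small fixed points
  have hgen : ∀ X : Set G, closure X = P → closure (φ '' (Subtype.val ⁻¹' X)) = Γ := by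
    intro X hX
    have hXP : X ⊆ P := by rw [← hX]; exact subset_closure
    rw [← MonoidHom.map_closure, hΓ, MonoidHom.range_eq_map]
    congr 1
    apply Subgroup.map_injective P.subtype_injective
    rw [MonoidHom.map_closure, ← MonoidHom.range_eq_map, Subgroup.range_subtype]
    have : P.subtype '' (Subtype.val ⁻¹' X) = X := by
      ext y
      constructor
      · rintro ⟨y, hy, rfl⟩
        exact hy
      · exact fun hy => ⟨⟨y, hXP hy⟩, hy, rfl⟩
    rw [this, hX]
  obtain ⟨_, ⟨c, hcC, rfl⟩, hcb⟩ := FixBound.exists_small hp2 hVcop Γ hΓp hirr hΓne _ (hgen C hC)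
  obtain ⟨_, ⟨d, hdD, rfl⟩, hdb⟩ := FixBound.exists_small hp2 hVcop Γ hΓp hirr hΓne _ (hgen D hD)
  -- factorisation
  have hfac : ∀ v : Abelianization R, ∃ w ∈ FixBound.fixS (φ d), ∃ u ∈ FixBound.fixS (φ c), v = w * u := by
    intro v
    obtain ⟨x, rfl⟩ := hofs v
    obtain ⟨w, hw, hwd, u, hu, huc, hxe⟩ := factor hP (hcopl R hRN) hRP c.2 d.2 x.2
      (h x (hRN x.2) c hcC d hdD)
    refine ⟨Abelianization.of ⟨w, hw⟩, ?_, Abelianization.of ⟨u, hu⟩, ?_, ?_⟩
    · rw [FixBound.mem_fixS, hφ]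
      congr 1
      apply Subtype.ext
      change (d : G) * w * (d : G)⁻¹ = w
      rw [← hwd, mul_inv_cancel_right]
    · rw [FixBound.mem_fixS, hφ]
      congr 1
      apply Subtype.ext
      change (c : G) * u * (c : G)⁻¹ = u
      rw [← huc, mul_inv_cancel_right]
    · rw [← map_mul]
      congr 1
      exact Subtype.ext hxe
  have hcard : Nat.card (Abelianization R) ≤ Nat.card (FixBound.fixS (φ d)) * Nat.card (FixBound.fixS (φ c)) := by
    rw [← Nat.card_prod]
    apply Nat.card_le_card_of_surjective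
      (fun q : FixBound.fixS (φ d) × FixBound.fixS (φ c) => (q.1 : Abelianization R) * q.2)
    intro v
    obtain ⟨w, hw, u, hu, e⟩ := hfac v
    exact ⟨(⟨w, hw⟩, ⟨u, hu⟩), e.symm⟩
  have hV1 : 1 < Nat.card (Abelianization R) := by
    by_contra hle
    have h1 : Nat.card (Abelianization R) = 1 := le_antisymm (by omega) Nat.card_pos
    have h2 := (Nat.card_eq_one_iff_unique.1 h1).1
    apply hΓne
    rw [eq_bot_iff]
    intro g _
    rw [mem_bot]
    ext v
    exact Subsingleton.elim _ _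
  have h1 : Nat.card (Abelianization R) ^ p ≤ Nat.card (Abelianization R) ^ 2 := by
    calc Nat.card (Abelianization R) ^ p
        ≤ (Nat.card (FixBound.fixS (φ d)) * Nat.card (FixBound.fixS (φ c))) ^ p :=
          Nat.pow_le_pow_left hcard p
      _ = Nat.card (FixBound.fixS (φ d)) ^ p * Nat.card (FixBound.fixS (φ c)) ^ p := mul_pow _ _ _
      _ ≤ Nat.card (Abelianization R) * Nat.card (Abelianization R) := Nat.mul_le_mul hdb hcb
      _ = _ := (sq _).symm
  have h2 := (Nat.pow_le_pow_iff_right hV1).1 h1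
  have h3 := hp.out.two_le
  omega

end H12.TwoGen
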